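import Cfsg.Agent.Lib.T2.LH

/-! Further facts about the centraliser of a transvection in `L₅(2)` (generated). -/

set_option autoImplicit false
set_option maxRecDepth 1000000
set_option maxHeartbeats 0

namespace Cfsg.Lib.T2.L

open Cfsg.Lib.Calc Cfsg.Lib.Grp Cfsg.Lib.T2

theorem hh_y1_ev : hh.eval (.lt 40 (.mul (.l 6) (.l 3)) (.all 3 41 [] (.imp (.one (.pow (.l 41) 3)) (.or (.one (.l 41)) (.ex 3 42 [(.l 41, .l 40)] (.tt)))))) = true := by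
  decide +kernel

theorem hh_y1 {G : Type*} [Group G] {γ : ℕ → G} (h : IsoW hh.gam (res γ)) :
    ∀ x ∈ KK γ 3, x ^ 3 = 1 → x = 1 ∨ (∃ g ∈ KK γ 3, g * x = yy γ * g ∧ True) :=
  hh_ok.transfer h hh_y1_ev

theorem hh_B1_ev : hh.eval (.lt 40 (.mul (.mul (.l 5) (.pow (.mul (.l 3) (.l 4)) 2)) (.l 5)) (.lt 41 (.pow (.mul (.l 1) (.l 40)) 2) (.lt 42 (.mul (.mul (.l 5) (.l 1)) (.l 5)) (.all 3 43 [] (.imp (.one (.mul (.l 43) (.l 43))) (.imp (.eq (.mul (.mul (.l 3) (.l 43)) (.l 3)) (.mul (.l 43) (.mul (.mul (.l 6) (.l 43)) (.l 6)))) (.all 3 44 [(.l 43, .l 43)] (.imp (.eq (.pow (.mul (.l 44) (.mul (.mul (.l 6) (.l 43)) (.l 6))) 2) (.l 40)) (.imp (.eq (.mul (.mul (.l 3) (.l 44)) (.l 3)) (.mul (.l 44) (.mul (.mul (.l 6) (.l 44)) (.l 6)))) (.all 3 45 [(.l 43, .l 43)] (.imp (.eq (.pow (.mul (.l 45) (.mul (.mul (.l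 6) (.l 43)) (.l 6))) 2) (.mul (.l 41) (.l 40))) (.imp (.eq (.mul (.mul (.l 3) (.l 45)) (.l 3)) (.mul (.l 45) (.mul (.mul (.l 6) (.l 45)) (.l 6)))) (.imp (.eq (.mul (.l 44) (.mul (.mul (.l 6) (.l 45)) (.l 6))) (.mul (.mul (.mul (.l 6) (.l 45)) (.l 6)) (.l 44))) (.and (.eq (.l 44) (.l 2)) (.and (.eq (.l 45) (.mul (.l 42) (.l 2))) (.or (.eq (.l 43) (.l 4)) (.or (.eq (.l 43) (.mul (.mul (.l 4) (.l 2)) (.l 40))) (.or (.eq (.l 43) (.mul (.mul (.l 4) (.l 42)) (.l 41))) (.eq (.l 43) (.mul (.mul (.mul (.mul (.l 4) (.l 42)) (.l 41)) (.l 2)) (.l 40))))))))))))))))))))) = true := by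
  decide +kernel

theorem hh_B1 {G : Type*} [Group G] {γ : ℕ → G} (h : IsoW hh.gam (res γ)) :
    ∀ x ∈ KK γ 3, x * x = 1 → γ 3 * x * γ 3 = x * (γ 6 * x * γ 6) → ∀ j ∈ KK γ 3, j * x = x * j → (j * (γ 6 * x * γ 6)) ^ 2 = uu γ → γ 3 * j * γ 3 = j * (γ 6 * j * γ 6) → ∀ k ∈ KK γ 3, k * x = x * k → (k * (γ 6 * x * γ 6)) ^ 2 = zz γ * uu γ → γ 3 * k * γ 3 = k * (γ 6 * k * γ 6) → j * (γ 6 * k * γ 6) = γ 6 * k * γ 6 * j → j = γ 2 ∧ k = nn γ * γ 2 ∧ (x = γ 4 ∨ x = γ 4 * γ 2 * uu γ ∨ x = γ 4 * nn γ * zz γ ∨ x = γ 4 * nn γ * zz γ * γ 2 * uu γ) :=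
  hh_ok.transfer h hh_B1_ev

theorem hh_B2_ev : hh.eval (.lt 40 (.mul (.mul (.l 5) (.pow (.mul (.l 3) (.l 4)) 2)) (.l 5)) (.lt 41 (.pow (.mul (.l 1) (.l 40)) 2) (.lt 42 (.mul (.mul (.l 5) (.l 1)) (.l 5)) (.all 3 43 [] (.imp (.one (.mul (.l 43) (.l 43))) (.imp (.eq (.mul (.mul (.mul (.l 3) (.l 40)) (.l 43)) (.mul (.l 3) (.l 40))) (.mul (.l 43) (.mul (.mul (.mul (.l 6) (.l 40)) (.l 43)) (.mul (.l 6) (.l 40))))) (.all 3 44 [(.l 43, .l 43)] (.imp (.eq (.pow (.mul (.l 44) (.mul (.mul (.mul (.l 6) (.l 40)) (.l 43)) (.mul (.l 6) (.l 40)))) 2) (.l 40)) (.imp (.eq (.mul (.mul (.mul (.l 3) (.l 40)) (.l 44)) (.mul (.l 3) (.l 40))) (.mul (.l 44) (.mul (.mul (.mul (.l 6) (.l 40)) (.l 44)) (.mul (.l 6) (.l 40))))) (.all 3 45 [(.l 43, .l 43)] (.imp (.eq (.pow (.mul (.l 45) (.mul (.mul (.mul (.l 6) (.l 40)) (.l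 43)) (.mul (.l 6) (.l 40)))) 2) (.mul (.l 41) (.l 40))) (.imp (.eq (.mul (.mul (.mul (.l 3) (.l 40)) (.l 45)) (.mul (.l 3) (.l 40))) (.mul (.l 45) (.mul (.mul (.mul (.l 6) (.l 40)) (.l 45)) (.mul (.l 6) (.l 40))))) (.imp (.eq (.mul (.l 44) (.mul (.mul (.mul (.l 6) (.l 40)) (.l 45)) (.mul (.l 6) (.l 40)))) (.mul (.mul (.mul (.mul (.l 6) (.l 40)) (.l 45)) (.mul (.l 6) (.l 40))) (.l 44))) (.and (.eq (.l 44) (.l 2)) (.and (.eq (.l 45) (.mul (.l 42) (.l 2))) (.or (.eq (.l 43) (.l 4)) (.or (.eq (.l 43) (.mul (.mul (.l 4) (.l 2)) (.l 40))) (.or (.eq (.l 43) (.mul (.mul (.l 4) (.l 42)) (.l 41))) (.eq (.l 43) (.mul (.mul (.mul (.mul (.l 4) (.l 42)) (.l 41)) (.l 2)) (.l 40))))))))))))))))))))) = true := by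
  decide +kernel

theorem hh_B2 {G : Type*} [Group G] {γ : ℕ → G} (h : IsoW hh.gam (res γ)) :
    ∀ x ∈ KK γ 3, x * x = 1 → γ 3 * uu γ * x * (γ 3 * uu γ) = x * (γ 6 * uu γ * x * (γ 6 * uu γ)) → ∀ j ∈ KK γ 3, j * x = x * j → (j * (γ 6 * uu γ * x * (γ 6 * uu γ))) ^ 2 = uu γ → γ 3 * uu γ * j * (γ 3 * uu γ) = j * (γ 6 * uu γ * j * (γ 6 * uu γ)) → ∀ k ∈ KK γ 3, k * x = x * k → (k * (γ 6 * uu γ * x * (γ 6 * uu γ))) ^ 2 = zz γ * uu γ → γ 3 * uu γ * k * (γ 3 * uu γ) = k * (γ 6 * uu γ * k * (γ 6 * uu γ)) → j * (γ 6 * uu γ * k * (γ 6 * uu γ)) = γ 6 * uu γ * k * (γ 6 * uu γ) * j → j = γ 2 ∧ k = nn γ * γ 2 ∧ (x = γ 4 ∨ x = γ 4 * γ 2 * uu γ ∨ x = γ 4 * nn γ * zz γ ∨ x = γ 4 * nn γ * zz γ * γ 2 * uu γ) :=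
  hh_ok.transfer h hh_B2_ev

theorem hh_Ct_ev : hh.eval (.lt 40 (.mul (.mul (.l 5) (.pow (.mul (.l 3) (.l 4)) 2)) (.l 5)) (.lt 41 (.mul (.mul (.l 5) (.l 3)) (.l 5)) (.lt 42 (.pow (.mul (.l 1) (.l 41)) 2) (.lt 43 (.mul (.l 42) (.l 40)) (.all 0 44 [(.l 43, .l 43)] (.mem 13 (.l 44))))))) = true := by
  decide +kernel

theorem hh_Ct {G : Type*} [Group G] {γ : ℕ → G} (h : IsoW hh.gam (res γ)) :
    ∀ x ∈ KK γ 0, x * tt γ = tt γ * x → x ∈ KK γ 13 :=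
  hh_ok.transfer h hh_Ct_ev


end Cfsg.Lib.T2.L
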