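import Cfsg.Agent.Lib.T2.HR

/-! The model `i1` (generated). -/

set_option autoImplicit false
set_option maxRecDepth 1000000
set_option maxHeartbeats 0

namespace Cfsg.Lib.T2.H

open Cfsg.Lib.Calc Cfsg.Lib.Grp Cfsg.Lib.T2

def i1_L0 : List (ℕ × List ℕ) := [((nat_lit 12), [(nat_lit 0xfedcba9876543210), (nat_lit 0xef4bc56329ad8701), (nat_lit 0xbc9ef3d51486a072), (nat_lit 0x69cd42e15f7b0a83), (nat_lit 0xa5d83f9c76e4b210), (nat_lit 0x94dfc7ea5b068312), (nat_lit 0x5f93ce1bd0a68472), (nat_lit 0x96b4d7f0ae2c1538), (nat_lit 0x9ce6b7420f8d3a51), (nat_lit 0x4de960c78b1f235a), (nat_lit 0xbc75a3de1482f096), (nat_lit 0x8bdaec7f92345610), (nat_lit 0x4db720a9fe18653c), (nat_lit 0x27c106ed5f9b4a83), (nat_lit 0x76e0d984c32f1b5a), (nat_lit 0x7cf2b916d5843ea0)]),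
  ((nat_lit 15), [(nat_lit 0xfedcba9876543210), (nat_lit 0x496cf0b83e7da521), (nat_lit 0xb64c93e85d2f710a), (nat_lit 0xdbec41f8a9360752), (nat_lit 0x74dcf938b502ae16), (nat_lit 0x901cf738b546aed2), (nat_lit 0x3d7c4b58e21f069a), (nat_lit 0x6f9cd2480bae1375), (nat_lit 0x235c76f8a4bd90e1), (nat_lit 0x72cf4b83e91a56d), (nat_lit 0x5f4cbe7892a1360d), (nat_lit 0xea0cb57892fd3641), (nat_lit 0xa63cdf7895241eb0), (nat_lit 0x1f0c6d9873a52b4e)]),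
  ((nat_lit 6), [(nat_lit 0xfedcba9876543210), (nat_lit 0xf25cda0843691be7), (nat_lit 0xf9bc0a2865714e3d), (nat_lit 0xf20cdae85763194b), (nat_lit 0xfb6c5a789130ed24), (nat_lit 0xfe7cbad814523096), (nat_lit 0xf42c9ae85d03716b), (nat_lit 0xfe9cba18d0563472), (nat_lit 0xfd3c6a480e1725b9), (nat_lit 0xf24cda58e96b1703), (nat_lit 0xf1ec2a987bd46350), (nat_lit 0xf51c3a9872e4b6d0)]),
  ((nat_lit 0), [(nat_lit 0xfedcba9876543210), (nat_lit 0xf0dc7ab8364e9215), (nat_lit 0xf9dc0a58e67b4213), (nat_lit 0xf4dc9a38b605721e), (nat_lit 0xf7dc4ae85693021b), (nat_lit 0xf5dc3a7896e0b214), (nat_lit 0xf3dcea0846b95217), (nat_lit 0xfbdc5a480637e219)])]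

def i1_D0 : List ℕ := [(nat_lit 0), (nat_lit 513), (nat_lit 1025), (nat_lit 1537), (nat_lit 3073), (nat_lit 3585), (nat_lit 4353), (nat_lit 165378), (nat_lit 177922), (nat_lit 204290), (nat_lit 216578), (nat_lit 229378), (nat_lit 262146), (nat_lit 294402), (nat_lit 354818), (nat_lit 372482), (nat_lit 0), (nat_lit 269826), (nat_lit 212738), (nat_lit 42036739), (nat_lit 45024515), (nat_lit 48234755), (nat_lit 53398787), (nat_lit 59051523), (nat_lit 62723331), (nat_lit 68941059), (nat_lit 73029379), (nat_lit 79908099), (nat_lit 87297539), (nat_lit 95027459), (nat_lit 0), (nat_lit 7897388804), (nat_lit 9061610244), (nat_lit 8533513476), (nat_lit 1130080721669), (nat_lit 1239373541637), (nat_lit 1387394419461), (nat_lit 1551329016069), (nat_lit 1731700271877), (nat_lit 1927045019397), (nat_lit 2140596609797), (nat_lit 2421811572485),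 (nat_lit 0), (nat_lit 2473100764933), (nat_lit 296697125789446), (nat_lit 1885641645829), (nat_lit 331938250991878), (nat_lit 472530625910534), (nat_lit 0xd121f910e30707), (nat_lit 0xe7fd6e386c5b07)]

def i1_L1 : List (ℕ × List ℕ) := [((nat_lit 12), [(nat_lit 0xfedcba9876543210), (nat_lit 0xef4bc56329ad8701), (nat_lit 0xbc9ef3d51486a072), (nat_lit 0xa5d83f9c76e4b210), (nat_lit 0xcb6fe84a0d395127), (nat_lit 0x5a438e6b29fdc701), (nat_lit 0x3895abde14c6f072), (nat_lit 0xcbf69802413e7da5), (nat_lit 0x836a5c4f0db9e127), (nat_lit 0xbce96317d08f245a), (nat_lit 0x83f27c0641be9da5), (nat_lit 0xefb4d52067ac1938), (nat_lit 0x38e72b19d0cf645a), (nat_lit 0xfecd4a71925b0683), (nat_lit 0x5ab01e2467fcd938), (nat_lit 0x69c1025dea7b4f83)]),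
  ((nat_lit 15), [(nat_lit 0xfedcba9876543210), (nat_lit 0x27dcb6e85f943a10), (nat_lit 0x691cb2e85f703ad4), (nat_lit 0xa5dcbf7892e43610)]),
  ((nat_lit 6), [(nat_lit 0xfedcba9876543210), (nat_lit 0xfe1cba78925036d4)])]

def i1_D1 : List ℕ := [(nat_lit 0), (nat_lit 513), (nat_lit 1025), (nat_lit 1537), (nat_lit 56322), (nat_lit 62978), (nat_lit 80386), (nat_lit 88066), (nat_lit 121346), (nat_lit 131074), (nat_lit 171010), (nat_lit 197634), (nat_lit 228354), (nat_lit 259074), (nat_lit 292866), (nat_lit 329730), (nat_lit 0), (nat_lit 17942275), (nat_lit 97538), (nat_lit 1267050244), (nat_lit 0), (nat_lit 1589531908)]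

def i1_L2 : List (ℕ × List ℕ) := [((nat_lit 12), [(nat_lit 0xfedcba9876543210), (nat_lit 0xfe683a0c4d57b129), (nat_lit 0x248d9631bf057ace), (nat_lit 0x60c172bd3a4e9f85), (nat_lit 0x17c60db23f954a8e), (nat_lit 0x689d437ba2e1fc5), (nat_lit 0xd9824136ba7e0fc5), (nat_lit 0x42c710b93f65da8e), (nat_lit 0xcbdfe89a72305614), (nat_lit 0x71c429b03ade6f85), (nat_lit 0x831a5c7f96b4e2d0), (nat_lit 0x9dc067b43a1e2f85), (nat_lit 0xef13857b96a4c2d0), (nat_lit 0x5adbce9372f08614), (nat_lit 0xbcd5a39e7684f210), (nat_lit 0x381efb7592c0a6d4)]),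
  ((nat_lit 15), [(nat_lit 0xfedcba9876543210), (nat_lit 0xa59cbfd814e63072)]),
  ((nat_lit 6), [(nat_lit 0xfedcba9876543210), (nat_lit 0xfe4cba286951370d), (nat_lit 0xfe0cba68275d3941), (nat_lit 0xfe1cba78925036d4)])]

def i1_D2 : List ℕ := [(nat_lit 0), (nat_lit 513), (nat_lit 1025), (nat_lit 1281), (nat_lit 49666), (nat_lit 56834), (nat_lit 72194), (nat_lit 80386), (nat_lit 99330), (nat_lit 108034), (nat_lit 115970), (nat_lit 138754), (nat_lit 148482), (nat_lit 157954), (nat_lit 240642), (nat_lit 254210), (nat_lit 0), (nat_lit 1537), (nat_lit 0), (nat_lit 1052024580), (nat_lit 399457028), (nat_lit 74950455045)]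

def i1_L3 : List (ℕ × List ℕ) := [((nat_lit 12), [(nat_lit 0xfedcba9876543210), (nat_lit 0xef4bc56329ad8701), (nat_lit 0x69cd42e15f7b0a83), (nat_lit 0xcb0a582f6731e94d), (nat_lit 0x830fec2a67b1594d), (nat_lit 0x96b4d7f0ae2c1538), (nat_lit 0xbc15a37e9280f6d4), (nat_lit 0x381efb7592c0a6d4), (nat_lit 0xefb0156429acd738), (nat_lit 0xd43271a6f5089ebc), (nat_lit 0xbcd72359ea846f10), (nat_lit 0xa5d83f9c76e4b210), (nat_lit 0x10369da2f5487ebc), (nat_lit 0x38d96b57eac42f10), (nat_lit 0xfec10a9d765b4283), (nat_lit 0x5a438e6b29fdc701)]),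
  ((nat_lit 15), [(nat_lit 0xfedcba9876543210), (nat_lit 0x1ecb49876df325a), (nat_lit 0x691cb2e85f703ad4), (nat_lit 0x4d5cb098761a32ef), (nat_lit 0xa51cbf9876e032d4), (nat_lit 0x27dcb6e85f943a10)]),
  ((nat_lit 6), [(nat_lit 0xfedcba9876543210), (nat_lit 0xfe7cbad814523096), (nat_lit 0xfe9cba18d0563472), (nat_lit 0xfe1cba78925036d4)])]

def i1_D3 : List ℕ := [(nat_lit 0), (nat_lit 513), (nat_lit 1025), (nat_lit 2049), (nat_lit 2305), (nat_lit 62466), (nat_lit 69634), (nat_lit 76034), (nat_lit 94722), (nat_lit 115714), (nat_lit 124418), (nat_lit 133122), (nat_lit 157698), (nat_lit 167426), (nat_lit 196098), (nat_lit 227330), (nat_lit 0), (nat_lit 10978563), (nat_lit 73986), (nat_lit 16606979), (nat_lit 1422164228), (nat_lit 34694403), (nat_lit 0), (nat_lit 2162984196), (nat_lit 2208192260), (nat_lit 188454508805)]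

def i1 : PM :=
  ⟨(nat_lit 16), (nat_lit 4), [(nat_lit 0xef4bc56329ad8701), (nat_lit 0xbc9ef3d51486a072), (nat_lit 0x69cd42e15f7b0a83), (nat_lit 0xaedc3f987250b614), (nat_lit 0xa5dcbf7892e43610), (nat_lit 0xa5d83f9c76e4b210), (nat_lit 0x94dfc7ea5b068312), (nat_lit 0xc9db68f3a47e2015), (nat_lit 0xea7b85d314f2c096), (nat_lit 0x5f93ce1bd0a68472)],
    [[.l 1, .l 2, .l 3, .l 4, .l 5, .l 6, .l 7, .l 9],
    [.l 1, .l 2, .l 6, .mul (.mul (.mul (.mul (.mul (.l 4) (.l 7)) (.l 7)) (.l 10)) (.l 8)) (.l 8)],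
    [.mul (.mul (.l 1) (.l 10)) (.l 4), .mul (.mul (.mul (.mul (.mul (.mul (.l 7) (.l 7)) (.l 9)) (.l 7)) (.l 7)) (.l 10)) (.l 8), .mul (.mul (.mul (.mul (.mul (.mul (.mul (.l 8) (.l 8)) (.l 9)) (.l 8)) (.l 2)) (.l 8)) (.l 10)) (.l 7)],
    [.l 1, .l 3, .mul (.mul (.mul (.mul (.mul (.l 4) (.l 7)) (.l 7)) (.l 10)) (.l 8)) (.l 8), .mul (.mul (.mul (.mul (.mul (.mul (.mul (.l 8) (.l 8)) (.l 4)) (.l 9)) (.l 8)) (.l 8)) (.l 10)) (.l 7)]],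
    [i1_L0, i1_L1, i1_L2, i1_L3], [i1_D0, i1_D1, i1_D2, i1_D3]⟩

instance i1_ne : NeZero i1.n := ⟨by decide⟩

theorem i1_ok0 : i1.ok0 = true := by decide +kernel

theorem i1_k0 : allFrom (nat_lit 0) (nat_lit 1) i1.okK = true := by decide +kernel

theorem i1_k1 : allFrom (nat_lit 1) (nat_lit 1) i1.okK = true := by decide +kernel

theorem i1_k2 : allFrom (nat_lit 2) (nat_lit 1) i1.okK = true := by decide +kernel

theorem i1_k3 : allFrom (nat_lit 3) (nat_lit 1) i1.okK = true := by decide +kernel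

theorem i1_ok : i1.OK := PM.OK.of_check i1_ok0
  (of_allFrom_append (of_allFrom_append (of_allFrom_append (of_allFrom_append of_lt_zero i1_k0) i1_k1) i1_k2) i1_k3)

theorem i1_card0 : Nat.card (genW i1.gam (i1.ws 0)) = 21504 := (i1_ok.card 0).trans (by decide +kernel)

theorem i1_card1 : Nat.card (genW i1.gam (i1.ws 1)) = 128 := (i1_ok.card 1).trans (by decide +kernel)

theorem i1_card2 : Nat.card (genW i1.gam (i1.ws 2)) = 128 := (i1_ok.card 2).trans (by decide +kernel)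

theorem i1_card3 : Nat.card (genW i1.gam (i1.ws 3)) = 384 := (i1_ok.card 3).trans (by decide +kernel)

theorem i1_lab : Lab i1.gam iv := i1_ok.lab (by decide) (by decide +kernel) (by decide)

theorem i1_rel : ∀ t ∈ rel 9 wz, t.ev i1.gam = 1 := i1_ok.rels (by decide +kernel)

/-- an involution -/
def i1_x1 : W := .l 1

/-- another involution -/
def i1_x2 : W := .mul (.mul (.l 4) (.l 10)) (.l 5)

theorem i1_s1 : sylB i1 1 3 7 4 wz i1_x1 (.mul (.mul (.mul (.mul (.mul (.mul (.l 4) (.l 7)) (.l 1)) (.l 7)) (.l 10)) (.l 8)) (.l 8))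
    [.mul (.mul (.mul (.l 8) (.l 8)) (.l 9)) (.l 8), .mul (.mul (.mul (.l 8) (.l 3)) (.l 10)) (.l 7), .l 10, .l 2, .mul (.mul (.mul (.mul (.l 7) (.l 7)) (.l 7)) (.l 9)) (.l 8), .mul (.mul (.mul (.l 9) (.l 8)) (.l 8)) (.l 10), .mul (.mul (.mul (.l 8) (.l 2)) (.l 8)) (.l 9), .mul (.l 8) (.l 8), .mul (.mul (.mul (.mul (.l 2) (.l 7)) (.l 7)) (.l 7)) (.l 9), .mul (.mul (.mul (.mul (.l 7) (.l 9)) (.l 3)) (.l 8)) (.l 9), .mul (.mul (.mul (.l 10) (.l 8)) (.l 8)) (.l 8), .mul (.mul (.l 7) (.l 7)) (.l 7), .mul (.mul (.mul (.mul (.l 7) (.l 7)) (.l 7)) (.l 10)) (.l 7), .mul (.mul (.mul (.l 7) (.l 7)) (.l 9)) (.l 8), .mul (.mul (.mul (.l 10) (.l 7)) (.l 7)) (.l 7), .mul (.mul (.l 8) (.l 8)) (.l 8), .mul (.mul (.l 8) (.l 6)) (.l 8), .mul (.mul (.l 8) (.l 8)) (.l 10), .mul (.mul (.mul (.l 8) (.l 9)) (.l 7)) (.l 7), .mul (.mul (.mul (.mul (.l 8)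 (.l 9)) (.l 7)) (.l 7)) (.l 10), .mul (.mul (.mul (.l 8) (.l 1)) (.l 9)) (.l 8), .mul (.mul (.l 5) (.l 7)) (.l 10), .mul (.mul (.l 3) (.l 9)) (.l 7), .l 7, .mul (.mul (.l 7) (.l 7)) (.l 9), .mul (.mul (.l 7) (.l 9)) (.l 7), .mul (.mul (.l 3) (.l 9)) (.l 8), .mul (.l 7) (.l 7), .mul (.l 4) (.l 7), .mul (.l 9) (.l 7), .mul (.l 7) (.l 10), .mul (.mul (.l 8) (.l 10)) (.l 8), .mul (.l 8) (.l 9), .mul (.mul (.mul (.l 9) (.l 7)) (.l 7)) (.l 10), .mul (.mul (.mul (.l 1) (.l 10)) (.l 7)) (.l 7), .l 8, .mul (.mul (.mul (.l 6) (.l 7)) (.l 7)) (.l 7), .mul (.mul (.l 7) (.l 9)) (.l 8), .mul (.mul (.mul (.l 7) (.l 7)) (.l 10)) (.l 7), .mul (.mul (.mul (.l 7) (.l 7)) (.l 7)) (.l 10), .mul (.mul (.l 6) (.l 7)) (.l 7), .mul (.l 9) (.l 8), .mul (.mul (.mul (.l 7) (.l 4)) (.l 9)) (.l 7), .mul (.mul (.mul (.l 6) (.l 7)) (.l 7)) (.l 10), .l 4, .mul (.l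 9) (.l 4), .mul (.mul (.l 8) (.l 10)) (.l 7), .mul (.mul (.mul (.mul (.l 4) (.l 8)) (.l 8)) (.l 10)) (.l 8), .mul (.mul (.mul (.l 8) (.l 10)) (.l 8)) (.l 8), .mul (.mul (.mul (.l 8) (.l 8)) (.l 8)) (.l 9), .mul (.mul (.mul (.mul (.l 6) (.l 7)) (.l 7)) (.l 9)) (.l 8), .mul (.mul (.mul (.mul (.l 8) (.l 8)) (.l 9)) (.l 7)) (.l 7), .mul (.l 8) (.l 4), .mul (.mul (.l 9) (.l 7)) (.l 7), .mul (.mul (.mul (.mul (.l 6) (.l 9)) (.l 7)) (.l 7)) (.l 9), .mul (.mul (.l 8) (.l 4)) (.l 10)] = true := by decide +kernel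

theorem i1_s2 : sylB i1 2 2 7 4 wz i1_x2 (.mul (.mul (.mul (.mul (.mul (.mul (.mul (.l 7) (.l 7)) (.l 9)) (.l 7)) (.l 7)) (.l 9)) (.l 8)) (.l 2))
    [.mul (.mul (.mul (.l 2) (.l 10)) (.l 7)) (.l 7), .mul (.mul (.l 6) (.l 7)) (.l 7), .mul (.mul (.mul (.l 8) (.l 4)) (.l 10)) (.l 7), .mul (.mul (.mul (.l 2) (.l 8)) (.l 9)) (.l 7), .mul (.mul (.mul (.mul (.mul (.l 7) (.l 9)) (.l 8)) (.l 8)) (.l 8)) (.l 10), .l 3, .mul (.l 3) (.l 5), .mul (.mul (.mul (.mul (.mul (.l 8) (.l 10)) (.l 7)) (.l 7)) (.l 1)) (.l 7), .mul (.mul (.mul (.mul (.l 9) (.l 7)) (.l 2)) (.l 7)) (.l 9), .mul (.mul (.mul (.mul (.mul (.l 7) (.l 9)) (.l 8)) (.l 2)) (.l 8)) (.l 8), .mul (.l 7) (.l 7), .mul (.mul (.mul (.mul (.mul (.mul (.l 8) (.l 2)) (.l 5)) (.l 10)) (.l 7)) (.l 7)) (.l 7), .mul (.mul (.mul (.l 5) (.l 9)) (.l 8)) (.l 8), .mul (.mul (.mul (.mul (.l 7) (.l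 9)) (.l 8)) (.l 2)) (.l 8), .mul (.mul (.mul (.mul (.l 1) (.l 8)) (.l 9)) (.l 7)) (.l 7), .l 10, .mul (.mul (.mul (.mul (.mul (.l 3) (.l 7)) (.l 10)) (.l 7)) (.l 7)) (.l 7), .mul (.mul (.mul (.mul (.mul (.mul (.l 3) (.l 7)) (.l 7)) (.l 10)) (.l 8)) (.l 8)) (.l 8), .mul (.mul (.mul (.mul (.mul (.l 7) (.l 10)) (.l 7)) (.l 2)) (.l 7)) (.l 7), .mul (.mul (.l 8) (.l 1)) (.l 8), .mul (.l 8) (.l 8), .mul (.mul (.mul (.mul (.mul (.mul (.l 7) (.l 7)) (.l 1)) (.l 9)) (.l 8)) (.l 8)) (.l 8), .mul (.mul (.mul (.l 9) (.l 5)) (.l 8)) (.l 8), .l 1, .mul (.mul (.mul (.l 3) (.l 7)) (.l 7)) (.l 7), .mul (.mul (.l 10) (.l 3)) (.l 8), .mul (.mul (.mul (.mul (.l 8) (.l 9)) (.l 7)) (.l 7)) (.l 7), .mul (.mul (.mul (.l 1) (.l 7)) (.l 10)) (.l 8), .mul (.mul (.mul (.mul (.mul (.l 8) (.l 9)) (.l 3)) (.l 7)) (.l 7)) (.l 7), .mul (.mul (.mul (.l 8) (.l 5))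 (.l 2)) (.l 8), .mul (.mul (.l 8) (.l 3)) (.l 8), .mul (.mul (.mul (.mul (.l 1) (.l 4)) (.l 7)) (.l 10)) (.l 8), .mul (.mul (.l 7) (.l 7)) (.l 7), .mul (.mul (.mul (.l 2) (.l 10)) (.l 5)) (.l 8), .mul (.mul (.mul (.mul (.l 10) (.l 8)) (.l 8)) (.l 4)) (.l 8), .mul (.mul (.mul (.l 10) (.l 8)) (.l 8)) (.l 8), .mul (.mul (.mul (.mul (.l 2) (.l 10)) (.l 7)) (.l 7)) (.l 7), .mul (.l 8) (.l 9), .mul (.mul (.mul (.mul (.mul (.l 7) (.l 1)) (.l 9)) (.l 8)) (.l 8)) (.l 8), .mul (.mul (.mul (.l 1) (.l 10)) (.l 8)) (.l 8), .mul (.mul (.mul (.mul (.l 9) (.l 5)) (.l 8)) (.l 8)) (.l 3), .mul (.mul (.mul (.mul (.mul (.l 3) (.l 7)) (.l 10)) (.l 8)) (.l 8)) (.l 8), .mul (.mul (.mul (.l 7) (.l 9)) (.l 1)) (.l 8), .mul (.l 8) (.l 1), .mul (.mul (.l 8) (.l 8)) (.l 8), .mul (.mul (.mul (.l 2) (.l 8)) (.l 8)) (.l 8), .mul (.mul (.mul (.mul (.l 9) (.l 7))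 (.l 2)) (.l 7)) (.l 7), .mul (.mul (.mul (.l 6) (.l 7)) (.l 9)) (.l 8), .mul (.mul (.mul (.l 2) (.l 10)) (.l 8)) (.l 8), .mul (.mul (.l 8) (.l 8)) (.l 10), .mul (.mul (.l 5) (.l 8)) (.l 8), .l 4, .mul (.mul (.mul (.mul (.mul (.l 9) (.l 1)) (.l 7)) (.l 10)) (.l 8)) (.l 8), .mul (.mul (.mul (.mul (.mul (.mul (.l 7) (.l 7)) (.l 9)) (.l 1)) (.l 8)) (.l 8)) (.l 8), .mul (.mul (.mul (.mul (.mul (.l 9) (.l 1)) (.l 8)) (.l 9)) (.l 7)) (.l 7), .mul (.mul (.mul (.mul (.l 7) (.l 3)) (.l 10)) (.l 8)) (.l 8), .mul (.mul (.mul (.mul (.l 8) (.l 9)) (.l 7)) (.l 1)) (.l 7), .mul (.mul (.mul (.mul (.mul (.mul (.l 7) (.l 7)) (.l 9)) (.l 8)) (.l 8)) (.l 3)) (.l 8), .mul (.mul (.l 10) (.l 8)) (.l 8), .l 2, .mul (.mul (.mul (.mul (.mul (.mul (.l 9) (.l 7)) (.l 7)) (.l 10)) (.l 8)) (.l 8)) (.l 8), .mul (.mul (.mul (.mul (.mul (.l 7) (.l 7)) (.l 9)) (.l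 8)) (.l 8)) (.l 8), .l 7, .mul (.mul (.mul (.l 2) (.l 9)) (.l 5)) (.l 7), .mul (.mul (.mul (.mul (.l 5) (.l 9)) (.l 7)) (.l 7)) (.l 7), .mul (.mul (.mul (.mul (.l 7) (.l 7)) (.l 1)) (.l 5)) (.l 7), .mul (.l 6) (.l 7), .mul (.mul (.mul (.mul (.l 10) (.l 5)) (.l 7)) (.l 7)) (.l 7), .mul (.mul (.mul (.l 8) (.l 1)) (.l 10)) (.l 7), .mul (.mul (.mul (.l 8) (.l 3)) (.l 10)) (.l 7), .mul (.mul (.l 3) (.l 9)) (.l 7), .mul (.mul (.mul (.l 1) (.l 7)) (.l 7)) (.l 7), .mul (.l 9) (.l 7), .mul (.mul (.mul (.mul (.mul (.mul (.l 2) (.l 8)) (.l 8)) (.l 10)) (.l 7)) (.l 7)) (.l 7), .mul (.mul (.mul (.mul (.l 8) (.l 8)) (.l 3)) (.l 8)) (.l 10), .mul (.mul (.mul (.l 1) (.l 8)) (.l 8)) (.l 8), .mul (.mul (.l 7) (.l 3)) (.l 7), .mul (.mul (.l 7) (.l 1)) (.l 7), .mul (.mul (.l 3) (.l 9)) (.l 8), .mul (.mul (.mul (.mul (.mul (.mul (.mul (.l 2) (.l 5))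 (.l 8)) (.l 8)) (.l 10)) (.l 7)) (.l 7)) (.l 7), .mul (.mul (.l 9) (.l 4)) (.l 7), .mul (.mul (.mul (.mul (.mul (.l 8) (.l 5)) (.l 10)) (.l 8)) (.l 8)) (.l 8), .mul (.mul (.mul (.mul (.l 8) (.l 9)) (.l 8)) (.l 8)) (.l 8), .mul (.mul (.l 6) (.l 10)) (.l 8), .mul (.mul (.mul (.l 8) (.l 10)) (.l 1)) (.l 7), .mul (.mul (.mul (.mul (.l 5) (.l 8)) (.l 3)) (.l 9)) (.l 7), .mul (.l 4) (.l 7), .mul (.mul (.l 9) (.l 7)) (.l 3), .mul (.mul (.mul (.mul (.l 6) (.l 10)) (.l 7)) (.l 7)) (.l 7), .mul (.mul (.mul (.mul (.l 2) (.l 7)) (.l 7)) (.l 7)) (.l 9), .mul (.l 7) (.l 10), .mul (.mul (.mul (.l 10) (.l 7)) (.l 7)) (.l 7), .mul (.mul (.mul (.mul (.mul (.mul (.l 7) (.l 7)) (.l 9)) (.l 8)) (.l 8)) (.l 8)) (.l 10), .mul (.mul (.mul (.mul (.mul (.mul (.l 1) (.l 7)) (.l 7)) (.l 9)) (.l 8)) (.l 8)) (.l 8), .mul (.mul (.l 9) (.l 3)) (.l 7), .mul (.mul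 (.mul (.l 7) (.l 2)) (.l 7)) (.l 7), .mul (.mul (.l 4) (.l 1)) (.l 7), .mul (.mul (.mul (.mul (.l 9) (.l 3)) (.l 8)) (.l 8)) (.l 8), .mul (.mul (.mul (.mul (.mul (.l 1) (.l 3)) (.l 10)) (.l 8)) (.l 8)) (.l 8), .mul (.mul (.mul (.mul (.mul (.mul (.l 8) (.l 8)) (.l 9)) (.l 7)) (.l 7)) (.l 7)) (.l 10), .mul (.mul (.mul (.l 10) (.l 4)) (.l 7)) (.l 7), .mul (.l 2) (.l 8), .mul (.mul (.mul (.l 1) (.l 10)) (.l 7)) (.l 7), .mul (.mul (.mul (.l 8) (.l 9)) (.l 7)) (.l 7), .mul (.mul (.mul (.mul (.l 7) (.l 5)) (.l 9)) (.l 8)) (.l 8), .mul (.l 3) (.l 8), .mul (.l 7) (.l 3), .mul (.mul (.mul (.mul (.mul (.mul (.l 8) (.l 8)) (.l 10)) (.l 7)) (.l 3)) (.l 7)) (.l 7), .mul (.mul (.mul (.l 7) (.l 7)) (.l 7)) (.l 10), .mul (.mul (.l 9) (.l 8)) (.l 3), .mul (.mul (.mul (.mul (.mul (.l 1) (.l 8)) (.l 10)) (.l 7)) (.l 7)) (.l 7), .mul (.mul (.mul (.l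 7) (.l 2)) (.l 10)) (.l 8), .mul (.mul (.mul (.mul (.mul (.l 8) (.l 9)) (.l 7)) (.l 7)) (.l 7)) (.l 10), .mul (.mul (.mul (.mul (.l 9) (.l 8)) (.l 8)) (.l 8)) (.l 9), .mul (.mul (.mul (.mul (.l 9) (.l 8)) (.l 5)) (.l 8)) (.l 8), .mul (.mul (.mul (.l 7) (.l 9)) (.l 3)) (.l 8), .mul (.mul (.mul (.l 6) (.l 7)) (.l 7)) (.l 7), .mul (.mul (.mul (.l 9) (.l 3)) (.l 5)) (.l 8), .mul (.mul (.mul (.l 8) (.l 6)) (.l 3)) (.l 8), .mul (.mul (.l 8) (.l 8)) (.l 3), .mul (.mul (.l 9) (.l 7)) (.l 1), .mul (.mul (.mul (.mul (.mul (.mul (.l 3) (.l 8)) (.l 8)) (.l 10)) (.l 7)) (.l 7)) (.l 7), .mul (.mul (.mul (.mul (.mul (.l 8) (.l 9)) (.l 8)) (.l 8)) (.l 8)) (.l 9), .mul (.mul (.mul (.mul (.l 7) (.l 10)) (.l 7)) (.l 7)) (.l 7), .mul (.mul (.mul (.l 7) (.l 3)) (.l 7)) (.l 4), .mul (.mul (.mul (.l 7) (.l 1)) (.l 4)) (.l 7), .mul (.l 9) (.l 8), .mul (.mul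 (.mul (.mul (.mul (.mul (.l 8) (.l 8)) (.l 9)) (.l 7)) (.l 2)) (.l 7)) (.l 7), .mul (.mul (.l 4) (.l 10)) (.l 7), .mul (.mul (.mul (.mul (.l 3) (.l 8)) (.l 8)) (.l 8)) (.l 9), .mul (.mul (.mul (.l 8) (.l 1)) (.l 8)) (.l 8), .mul (.mul (.l 9) (.l 8)) (.l 5), .mul (.mul (.mul (.l 10) (.l 7)) (.l 2)) (.l 7), .mul (.mul (.l 7) (.l 7)) (.l 9), .mul (.l 3) (.l 4), .mul (.l 3) (.l 9), .mul (.mul (.mul (.mul (.mul (.l 6) (.l 7)) (.l 10)) (.l 8)) (.l 8)) (.l 8), .mul (.mul (.mul (.l 8) (.l 6)) (.l 10)) (.l 7), .mul (.mul (.l 8) (.l 10)) (.l 7), .mul (.mul (.mul (.mul (.mul (.l 8) (.l 2)) (.l 10)) (.l 7)) (.l 7)) (.l 7), .mul (.mul (.mul (.mul (.l 8) (.l 8)) (.l 9)) (.l 1)) (.l 7), .mul (.mul (.mul (.mul (.l 7) (.l 9)) (.l 8)) (.l 8)) (.l 8), .mul (.mul (.l 3) (.l 7)) (.l 7), .mul (.mul (.mul (.mul (.mul (.l 2) (.l 8)) (.l 10)) (.l 7)) (.l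 7)) (.l 7), .mul (.mul (.mul (.mul (.l 1) (.l 10)) (.l 7)) (.l 7)) (.l 7), .mul (.l 8) (.l 4), .mul (.mul (.mul (.mul (.mul (.l 7) (.l 10)) (.l 8)) (.l 1)) (.l 8)) (.l 8), .mul (.mul (.mul (.l 8) (.l 5)) (.l 8)) (.l 8), .mul (.mul (.mul (.l 8) (.l 8)) (.l 8)) (.l 9), .mul (.mul (.mul (.mul (.mul (.l 7) (.l 9)) (.l 3)) (.l 8)) (.l 8)) (.l 8), .mul (.mul (.l 7) (.l 9)) (.l 8), .l 8, .mul (.mul (.mul (.l 3) (.l 10)) (.l 8)) (.l 8), .mul (.mul (.mul (.mul (.l 1) (.l 10)) (.l 8)) (.l 5)) (.l 8), .mul (.mul (.mul (.mul (.mul (.l 2) (.l 9)) (.l 7)) (.l 7)) (.l 7)) (.l 10), .mul (.mul (.mul (.l 7) (.l 3)) (.l 9)) (.l 8), .mul (.mul (.l 5) (.l 7)) (.l 3), .mul (.mul (.mul (.l 7) (.l 10)) (.l 8)) (.l 8), .mul (.mul (.mul (.mul (.l 8) (.l 9)) (.l 4)) (.l 7)) (.l 7), .mul (.mul (.mul (.mul (.mul (.mul (.l 8) (.l 1)) (.l 8)) (.l 9)) (.l 7)) (.l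 7)) (.l 7), .mul (.mul (.mul (.l 9) (.l 7)) (.l 6)) (.l 7), .mul (.mul (.l 3) (.l 8)) (.l 10), .mul (.mul (.l 9) (.l 7)) (.l 7), .mul (.mul (.mul (.mul (.l 9) (.l 8)) (.l 1)) (.l 8)) (.l 8), .mul (.mul (.mul (.mul (.l 1) (.l 9)) (.l 8)) (.l 8)) (.l 8), .mul (.mul (.l 2) (.l 5)) (.l 8), .mul (.l 3) (.l 7), .mul (.mul (.mul (.mul (.mul (.l 8) (.l 8)) (.l 10)) (.l 7)) (.l 7)) (.l 7)] = true := by decide +kernel

theorem i1_Z_ev : i1.eval (.all 0 40 [(.l 1, .l 1), (.l 2, .l 2), (.l 3, .l 3), (.l 4, .l 4), (.l 5, .l 5), (.l 6, .l 6), (.l 7, .l 7), (.l 9, .l 9)] (.or (.one (.l 40)) (.eq (.l 40) (.pow (.mul (.l 1) (.l 4)) 2)))) = true := by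
  decide +kernel

theorem i1_Z {G : Type*} [Group G] {γ : ℕ → G} (h : IsoW i1.gam γ) :
    ∀ g ∈ genW γ (i1.ws 0), g * γ 1 = γ 1 * g → g * γ 2 = γ 2 * g → g * γ 3 = γ 3 * g → g * γ 4 = γ 4 * g → g * γ 5 = γ 5 * g → g * γ 6 = γ 6 * g → g * γ 7 = γ 7 * g → g * γ 9 = γ 9 * g → g = 1 ∨ g = (γ 1 * γ 4) ^ 2 :=
  i1_ok.transfer h i1_Z_ev

theorem i1_n_ev : i1.eval (.all 1 40 [] (.not (.eq (.mul (.l 40) (.l 40)) (.l 1)))) = true := by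
  decide +kernel

theorem i1_n {G : Type*} [Group G] {γ : ℕ → G} (h : IsoW i1.gam γ) :
    ∀ g ∈ genW γ (i1.ws 1), g * g ≠ γ 1 :=
  i1_ok.transfer h i1_n_ev

theorem i1_y_ev : i1.eval (.ex 2 40 [] (.eq (.mul (.l 40) (.l 40)) (.mul (.mul (.l 4) (.l 10)) (.l 5)))) = true := by
  decide +kernel

theorem i1_y {G : Type*} [Group G] {γ : ℕ → G} (h : IsoW i1.gam γ) :
    ∃ g ∈ genW γ (i1.ws 2), g * g = γ 4 * γ 10 * γ 5 :=
  i1_ok.transfer h i1_y_ev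

end Cfsg.Lib.T2.H
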