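import Cfsg.Agent.Lib.T2.ZR

/-! Coset enumerations (generated). -/

set_option autoImplicit false
set_option maxRecDepth 1000000
set_option maxHeartbeats 0

namespace Cfsg.Lib.T2.Z

open Cfsg.Lib.Calc Cfsg.Lib.Grp Cfsg.Lib.T2

/-- relators -/
def c0_rels : List W := [.mul (.mul (.mul (.mul (.mul (.mul (.mul (.mul (.mul (.mul (.mul (.mul (.l 12) (.l 9)) (.l 12)) (.l 8)) (.l 9)) (.l 2)) (.l 12)) (.l 13)) (.l 12)) (.l 10)) (.l 7)) (.l 3)) (.mul (.mul (.mul (.mul (.mul (.mul (.mul (.mul (.mul (.mul (.mul (.l 12) (.l 9)) (.l 12)) (.l 8)) (.l 9)) (.l 2)) (.l 12)) (.l 13)) (.l 12)) (.l 10)) (.l 7)) (.l 3)), .pow (.mul (.l 1) (.l 2)) 4, .pow (.mul (.l 1) (.l 3)) 2, .pow (.mul (.l 1) (.l 4)) 2, .pow (.mul (.l 1) (.l 5)) 2, .pow (.mul (.l 1) (.l 6)) 2, .pow (.mul (.l 2) (.l 3)) 2, .pow (.mul (.l 2) (.l 4)) 2, .pow (.mul (.l 2) (.l 5)) 2, .pow (.mul (.l 2) (.l 6)) 2, .mul (.pow (.mul (.l 1) (.l 2)) 2) (.pow (.mul (.l 3) (.l 4)) 2), .mul (.pow (.mul (.l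 1) (.l 2)) 2) (.pow (.mul (.l 3) (.l 5)) 2), .mul (.pow (.mul (.l 1) (.l 2)) 2) (.pow (.mul (.l 3) (.l 6)) 2), .mul (.pow (.mul (.l 1) (.l 2)) 2) (.pow (.mul (.l 4) (.l 5)) 2), .mul (.pow (.mul (.l 1) (.l 2)) 2) (.pow (.mul (.l 4) (.l 6)) 2), .mul (.pow (.mul (.l 1) (.l 2)) 2) (.pow (.mul (.l 5) (.l 6)) 2), .mul (.mul (.mul (.l 7) (.l 1)) (.inv (.l 7))) (.inv (.l 3)), .mul (.mul (.mul (.l 7) (.l 2)) (.inv (.l 7))) (.inv (.mul (.mul (.mul (.l 6) (.l 1)) (.l 2)) (.l 1))), .mul (.mul (.mul (.l 7) (.l 3)) (.inv (.l 7))) (.inv (.mul (.mul (.mul (.l 4) (.l 3)) (.l 4)) (.l 1))), .mul (.mul (.mul (.l 7) (.l 4)) (.inv (.l 7))) (.inv (.mul (.mul (.mul (.mul (.l 5) (.l 4)) (.l 3)) (.l 2)) (.l 1))), .mul (.mul (.mul (.l 7) (.l 5)) (.inv (.l 7))) (.inv (.mul (.mul (.mul (.l 6) (.l 4)) (.l 2)) (.l 1))), .mul (.mul (.mul (.l 7) (.l 6)) (.inv (.l 7))) (.inv (.mul (.mul (.l 1) (.l 2)) (.l 1))), .mul (.mul (.mul (.l 9) (.l 1)) (.inv (.l 9))) (.inv (.mul (.mul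 (.mul (.l 3) (.l 6)) (.l 3)) (.l 1))), .mul (.mul (.mul (.l 9) (.l 2)) (.inv (.l 9))) (.inv (.mul (.mul (.l 3) (.l 4)) (.l 3))), .mul (.mul (.mul (.l 9) (.l 3)) (.inv (.l 9))) (.inv (.mul (.mul (.mul (.mul (.l 5) (.l 4)) (.l 3)) (.l 2)) (.l 1))), .mul (.mul (.mul (.l 9) (.l 4)) (.inv (.l 9))) (.inv (.mul (.mul (.mul (.l 4) (.l 1)) (.l 2)) (.l 1))), .mul (.mul (.mul (.l 9) (.l 5)) (.inv (.l 9))) (.inv (.mul (.mul (.mul (.l 6) (.l 3)) (.l 2)) (.l 1))), .mul (.mul (.mul (.l 9) (.l 6)) (.inv (.l 9))) (.inv (.l 1)), .mul (.mul (.mul (.l 11) (.l 1)) (.inv (.l 11))) (.inv (.mul (.l 5) (.l 1))), .mul (.mul (.mul (.l 11) (.l 2)) (.inv (.l 11))) (.inv (.mul (.mul (.l 3) (.l 6)) (.l 3))), .mul (.mul (.mul (.l 11) (.l 3)) (.inv (.l 11))) (.inv (.mul (.mul (.mul (.mul (.l 6) (.l 4)) (.l 3)) (.l 2)) (.l 1))), .mul (.mul (.mul (.l 11) (.l 4)) (.inv (.l 11))) (.inv (.mul (.mul (.mul (.l 5) (.l 3)) (.l 2)) (.l 1))), .mul (.mul (.mul (.l 11) (.l 5)) (.inv (.l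 11))) (.inv (.l 1)), .mul (.mul (.mul (.l 11) (.l 6)) (.inv (.l 11))) (.inv (.mul (.l 6) (.l 2))), .mul (.mul (.mul (.l 13) (.l 1)) (.inv (.l 13))) (.inv (.l 6)), .mul (.mul (.mul (.l 13) (.l 2)) (.inv (.l 13))) (.inv (.mul (.l 3) (.l 2))), .mul (.mul (.mul (.l 13) (.l 3)) (.inv (.l 13))) (.inv (.mul (.mul (.l 1) (.l 2)) (.l 1))), .mul (.mul (.mul (.l 13) (.l 4)) (.inv (.l 13))) (.inv (.mul (.mul (.mul (.l 5) (.l 3)) (.l 2)) (.l 1))), .mul (.mul (.mul (.l 13) (.l 5)) (.inv (.l 13))) (.inv (.mul (.mul (.mul (.mul (.l 6) (.l 5)) (.l 4)) (.l 2)) (.l 1))), .mul (.mul (.mul (.l 13) (.l 6)) (.inv (.l 13))) (.inv (.mul (.l 6) (.l 1))), .mul (.mul (.mul (.mul (.l 7) (.l 9)) (.l 7)) (.inv (.mul (.l 7) (.l 9)))) (.inv (.mul (.mul (.l 0) (.l 9)) (.inv (.l 0)))), .mul (.mul (.mul (.mul (.l 9) (.l 11)) (.l 9)) (.inv (.mul (.l 9) (.l 11)))) (.inv (.mul (.mul (.l 0) (.l 11)) (.inv (.l 0)))), .mul (.mul (.mul (.mul (.l 11) (.l 13)) (.l 11)) (.inv (.mul (.l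 11) (.l 13)))) (.inv (.mul (.mul (.l 0) (.l 13)) (.inv (.l 0)))), .mul (.mul (.mul (.l 7) (.l 11)) (.inv (.l 7))) (.inv (.mul (.mul (.l 0) (.l 11)) (.inv (.l 0)))), .mul (.mul (.mul (.l 7) (.l 13)) (.inv (.l 7))) (.inv (.mul (.mul (.l 0) (.l 13)) (.inv (.l 0)))), .mul (.mul (.mul (.l 9) (.l 13)) (.inv (.l 9))) (.inv (.mul (.mul (.mul (.mul (.mul (.l 6) (.l 5)) (.l 4)) (.l 3)) (.l 13)) (.inv (.mul (.mul (.mul (.l 6) (.l 5)) (.l 4)) (.l 3))))), .pow (.l 7) 3, .pow (.l 9) 3, .pow (.l 11) 3, .pow (.l 13) 3]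
def c0_F : Tr := .leaf (nat_lit 0x1b3ba72ce59c538a734e69c9392754e980738e75cec9d139e70ce19c700e0240480500a0340681902dc3cc881b03a04c4a80b016044478030060220440a81501a034048090520940c8190720d41882d00a0141079d05329648c9192b25646c8d9432731ccb5d632b644c8990b21650d1d9332664730e624c499d336654c998530a634c698330663c4898b316663eb9932aa14bea94b296524a49592ae51ca394d29a514a294f2a250ca195d1b651c839092124148290d21a4748d9171b24548990b21644487903206423a4746e8dd13a274ce99d43a7558eae26a6e754ea5d2ba5750f9dd0ba174710e2244489b13a2144288d11a20c4188b1162638b54ee2184b8a70ae15c2384706e0dc3386704e09c3c28702e05c724d712aa98496a54aa95522a4546a8d532a6544a8953be8542a855718d55c7b4f19e33ca794f21e43c4788f31e63d47a4e59ec3d039cf09e13c8410819032044088310621041d1690e20a414841c7216431251091d64b08090121c3b4718e31ca394720e41c2384758ec1c4388730e61c670ce21c4384708e31c639872d369ce392328e29c539089ce09c139c4b4c198330a614c2184304608c31863146245598c30ed20c098131b1b9e2c658c518a334668c919235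46968718e35bcc8d119e30c618d49252224448a91521a434849092324649cbb52612b482905241a7494d25b234468ad15a1b4369cd35f634b684d09a0b4168cd19a4c2a7caf95f23e47d90adf1be37ccf99f13e27c2f85f6a2e44688d122244548a51122244c89910a2144a8951636b44899132a654c4989332664c2985342672529a9359ac4c698d32c2584909211c2384d09a1142284ec2210c2185cdb611bc378af15e23c4784f09e33c6794f25443c7782f05e4b0a2cac1582304606c0d83306604c0980b0161c6b5822e45cab95712e25ccb9970ae15d0b9d64aea5d6bb171ae35ca594b21642d85acb19632cc598b11622ce5a0b09612dc2b4b13626ccd99b72cd6c8d91b69ae28a694d11a234c698d1b636c8690d19a334ad95b0a81502d85b2a85508a11432c658ab15612c2586a0d4412750ca1941282508b1165289580b0291ac3580b0283146288510a0ac158650ca114228648c929252484909092124448893126254524918c3188310610c218c318608c118e320628c519832c568ce188190310620cc198318630ca194340670c21843608b0da1b8362cb58a514a594c282684d094128a2144208410620c43086104208438881022044708d14628c520a4156130540a714c298528a5144288508a114150053546a83506a3d48a8b516a584ca920a81282504809011823044088138280420841704d04c098140470941242204408a114218430841082084108c1182600b0140240400700c0180280500801001803004008008010133aa25c0c55081c76b2e4d932e174ad797231e5bac61912d8738d5dcab4949ea192428350e90d6730d498a3531a9b42476dad39473ed5188ad43a6851d0b564bca59cc34a3ae829c5b4451291163302606b045508550a934e6a1b5b6c514a2695d2ca0740d642c72925284588c05c0b40684e0000000)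
def c0_T : Tr := .leaf (nat_lit 0xc1c6aa69646a25295d38e12589d24458085595a87dc29b4043de74e2c3341080)
def c0_P : Tr := .node (.node (.node (.node (.leaf (nat_lit 0xa100867014070022a284681c86e1b06a28000878a11c06e1b06a2800087c9522c00150952389400046254932500010c952349400040254180003625491250000d01922c6e1a06e22a010748b1a06c228008848b1c06a228008708b1d88a0042b22c6a228008801805814048100380c028080180419c581906319c6419c5b1886519c0300c00010641845f1745b01483214871e4010b4041845f1745915c05002260105f16c5915c05002250105716457014008900416c590140088c04188050042c01061014008880400c000c404180560140089c0218c030002c1a0701c86f0085b1745f1846500c000b46c1ac0217c031a47100a261b86c1ac021740300c251b00216403008231a80216c031ac0209002180031a00189c021580300622))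
  (.leaf (nat_lit 0x29e9a667996619769f00213a7a67996679769f00212a7a63976619769f00211a7a5d9865da7c0085683a00470002b1104700030119590e613850028a8465994159c4700029a484656c470081c1197c6d0000ac4659447006201115f58d615755b1140087844595615755b1140087c44090bb094450062a1116157d61114008744457d5d11400884445955b114008704456c4500220101d27554810c010a82408c430042c1094b5455555d4710e799ee7d9dc010b4425455555d5353c43002261095551d5353c43002251094f54d4f10c00890425454f10c0089c4251d5310c0088c42530290042c1095110c0088842750000c424390e63b8ec3c041996679a6630042d1001e2bcb52ccb10853f50d454f4010b44039cef3b4e93ac4100226)))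
  (.leaf (nat_lit 0xb1174350746c2d0021f0b1022fd030b4010a42c435094342d0021d0b10941c2d002210b11746c2d0021c0b11b0b4008802c04c000c18e3bced3c4e93ad8f00213638e73b4e93ad8f00214638e73ace93ad8f00211638eb3a4eb63c008558e3c58f002104282b0002e0a96d5a96c0ac028a02a04c150062b0a91b0ac018402844d114150f3dc29002260a1113fd0f3dc29002250a0f743cf70a4008902844cf70a40089c283fd0f0a40088c28028250042c0a1130a400888284b8000c56c45d154350746d6d002185b1094350746d6d0021a5b11546d0746d6d002195b10d4550d5b40085d6c46d6d0021b408270002f0994d5294c09c000a02644c270061b)))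
  (.node (.node (.leaf (nat_lit 0xb805c9a05924478020691e2e41725c1647c02858154811e484b9050008491e05c990591f008170511805401841180491a04c020710b3b10a4591543507006130491604c0188102448fe438f740c0086902410f6438f740c00864fe2fd0e2f8ff0081d028fa3e4f32dc0b00214028fa2dcf32dc0b0021142cea4280184102028082a81f00428408f740c0086d023f9043fd0300217028bc3e0f43ccb702c0084d000440012c0e3f4be802543f00c000390300a3e0f43e4b702e01048f42e8f32ecf50081d3d0082b4093d40205c0a3d00b00210390ee3b0f03a4eb39400860e43c0ec3c0e500217078b52ccb12b4a907c008601e2bcb12b4a907c008681e2cca92b4a907c008641e2c4af2c4a907c008581e2c4b32c41f00217))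
  (.leaf (nat_lit 0x152891540186f1c9de7b9e6759c71d0021ec727d9e6759c71d0021fc72799de79c74008771c9de75c74008868214c000c0529ad414fd399aa831094854d4b088ba3923090e3c6959b5e04db76de0060014a5b7ee5a14c028a8529ad4059c4500829c4052974530081c14a9fa70000ac529a453006201422989e2b886251440084c5087e2788625144008505089e2b89e25144008485087e258862514400844508ce37936fc00228142258862514400854508b4510022c14222144008ac508ac5100210142480002eb9af6be2f413988661966498c13c000b6ecba84e6584fb9ef700a26bd2ecba84e6604f00c25bb04e6504f008238258f13c000b29b13c000c44e856128504f0002aba84e6244fbac020904e64c4fb9c0189c4e0a8310002c)))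
  (.leaf (nat_lit 0xe8d1314cf3143b002190e8cb334cb3143b002160e81a2241b0ec018a43a32cd132c3b002170e8c50ec0086e1464d9962595646150021e8519762595646150021f8518964d89854008761464d95854008858b0e4000c0384a8bb4ac3900a2a0e0377edfc354020a60a0e0b90e402070380519a0002b0e1290e401881fc2749b28ca529cb12ccb52bc1f0022d7f09b28ca5264977f400861fc274a5264977f400869fc28c97264977f400865fc294a3295fd002177f0977f40086c160dc000bc366298d62c3700a290d9ce78032734020a036494370061b5d9725d16e0992e0d5ef7cded7a4038b5ec7a1f0788344883500e18788344b0357b5e3008197a1e20d1180d5e900a167a0344c8357a40205dcc0d4000bde40d0120c5c3705cc0cdd30780620c7f2201b304c32b40902cbf09de601600))))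
  (.node (.node (.node (.leaf (nat_lit 0x1e2a41f0021b078090002f3509d28ca52649735400878d426ca5264973540087cd42949d294d50021d3509d264d5002213509b25cd50021c3509e354010acd425cd50022029c061ec1d34c000a81c0086600c1d00a2a304c8328cf314c000225310c0328c131402090ca30cad308cb0081d31cc431801840c430ca830802070c32a8c20002b30cb430801880c10687b280a70042a068041980506c018a80a2e80b0022b2ecb62e800880080188901c0900a2905c9c0580186c082b8090061b2989d26ca32649729c00898a626ca52649729c00894a625c9925ca7002242989d25ca700227298a5264a7002232989e29c010b0a6274a700222))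
  (.leaf (nat_lit 0x1399113c018884c6058560d7f5ec4d0021e1318760d7f5ec4d0021f131790482fb48008a84cb46c9b404d004291318360583134008744c6057f134008844c61d7b134008704c5f4450042b1317b134008804c6d0000c02809d6e5d1725d84bb1ecbb36c50042d1296c425174550d0bdb36ddb96c4010b44a5bd755cd715a44b00226129755dd715a44b0022512849acc4812c010a84a5a5715a44b002241296f5a44b00227129775c44b002231296a12c010b04a5bc4b00222129f500031adaa8abeacabab400a1aadaa8aaeacaaab400a141216e126b400621acea8ac801888485c56c42e308ca228ae480f81c1e81b33c3d8dc380ddfa81df97aeb000e00ab8485dd6a098bf4b81241d025354852d4851d4c40c2d6ad9b4cc357940100048098bf09c4900029aa0485a4490081c1216b124000ac485d44900620)))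
  (.leaf (nat_lit 0x34049022f82700a290d033784320d4000a0344c4350061b759dc779db7554755d555454a750000b4324752d48d3346433002130c9314b53346433002140c92d48d2d46433002120c9314653346433002110c9194cd190cc00854324bd4d0022c0c81242c008ac3248c33002100c8150002e4c11c4b1224bcfe41110449030c4000b5c06f830458316f5c900a26719c06f8304503100c257003041831008230b831000310c02d6a82c0c4000a9be0c10d0c5bf008240c1090c5bd006270c11b0c4018882e40913445053fc2960d8561d810042d0b90945d1541d1b0bc008982e45d0d41d1b0bc008942e04d2f2fc290042a0b91b41d1b0bc008902e4251b0bc0089c2e435070bc0088c2e4242f0022266d2f2f92e668028a82c425154350746c2d0021e)))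
  (.node (.node (.leaf (nat_lit 0x80093e8bc3e0f40956158d6557c010b4243ecbd3e4f32dc2500226090bd3d4f32dc2500225090b73ccb709400890243ecb70940089c243d4f30940088c243ec25002220912b0003153111414ff43cf75340084d4c44d0543cf7534008514c44cf743cf7534008454c3dd0f3dd4d00215530ff534008400a08c000b822020ab0242300a28088bb08c018ac222dc2300610080af2d4b32b4a908400898202d4b12b4a90840089420308c030c210042a080a92b4a908400890202bca90840089c202c4ad0840088c202ac210042c080af0840088820298000c52f4392e48c0188d2f3d92e006220552a02c008b0154a120479272e414002133d0f82f0fa020a6059244a120478038b520479272e4172941600e18))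
  (.leaf (nat_lit 0x1ff001ff001ff001ff001ff001ff001ff001ff001ff001ff001ff001ff001ff001ff001ff001ff001ff001ff001ff001ff001ff001ff001ffcb330cdb321528d15733cdf31cb4038b730cb334c9854a405500e18c9854a3855cc72700819cb326152861572d00a16cb054a2855cb40205f17154000bf281529da6e15866113601c1d0a02949e7f5fa96a839d67fa00451572a016001529da629c154028a454b5adfb5c5500028)))
  (.leaf (nat_lit 0x100ef3c4e93ac4100225100eb3a4eb104008904039ceb1040089c403c4e91040088c404282f0042c100e71040088840820000c64c85e0f86e1d84a1d86e0f85e4d0022d9320f86e1d8660b934008624c85e1d8660b9340086a4c86e0b8660b934008664c8761b8764d002179320b9340086e110fc000bc3e070740743f00a290f8d8842368c8000a03e3743f0061b8f19d69da968d9f8f40084e3c69da969d9f8f40084a3c6859f68d9f8f4008463c67da367e3d0021566c338d4000ae34755497523500a2a8ba34746350081c8d1cf0e4000ade174c1e3083d00a290e83d0002f0f0c3024bb390028a43c3343d0061b0e8cd324d132cc032cd1324cd0ec008b43a324d132ccf3143b002180e8cd32ccf3143b0021a))))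
def c0_N_0 : Tr := .node (.node (.node (.node (.leaf (nat_lit 0x19d4c6b0494312c19d4c6b0494312c))
  (.leaf (nat_lit 5125)))
  (.leaf (nat_lit 45227)))
  (.node (.node (.leaf (nat_lit 106535))
  (.leaf (nat_lit 395)))
  (.leaf (nat_lit 11627))))
  (.node (.node (.node (.leaf (nat_lit 166050))
  (.leaf (nat_lit 232)))
  (.leaf (nat_lit 344268071)))
  (.node (.node (.leaf (nat_lit 176196462697))
  (.leaf (nat_lit 14349)))
  (.leaf (nat_lit 99))))
def c0_N_1 : Tr := .node (.node (.node (.node (.leaf (nat_lit 165025))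
  (.leaf (nat_lit 263)))
  (.leaf (nat_lit 35698797)))
  (.node (.node (.leaf (nat_lit 6578806951))
  (.leaf (nat_lit 364)))
  (.leaf (nat_lit 1025))))
  (.node (.node (.node (.leaf (nat_lit 209584194625))
  (.leaf (nat_lit 10249)))
  (.leaf (nat_lit 467367)))
  (.node (.node (.leaf (nat_lit 5287979))
  (.leaf (nat_lit 0)))
  (.leaf (nat_lit 132))))
def c0_N_2 : Tr := .node (.node (.node (.node (.leaf (nat_lit 99425))
  (.leaf (nat_lit 198)))
  (.leaf (nat_lit 210989)))
  (.node (.node (.leaf (nat_lit 4399865959))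
  (.leaf (nat_lit 12299)))
  (.leaf (nat_lit 33))))
  (.node (.node (.node (.leaf (nat_lit 140797609025))
  (.leaf (nat_lit 329)))
  (.leaf (nat_lit 482815403)))
  (.node (.node (.leaf (nat_lit 6545254569))
  (.leaf (nat_lit 430)))
  (.leaf (nat_lit 3075))))
def c0_N_3 : Tr := .node (.node (.node (.node (.leaf (nat_lit 100450))
  (.leaf (nat_lit 8199)))
  (.leaf (nat_lit 211663501485)))
  (.node (.node (.leaf (nat_lit 3425740841))
  (.leaf (nat_lit 461)))
  (.leaf (nat_lit 66))))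
  (.node (.node (.node (.leaf (nat_lit 210658985025))
  (.leaf (nat_lit 298)))
  (.leaf (nat_lit 7399)))
  (.node (.leaf (nat_lit 210556203115))
  (.leaf (nat_lit 165))))
def c0_N_4 : Tr := .node (.node (.node (.node (.leaf (nat_lit 69861442625))
  (.leaf (nat_lit 198)))
  (.leaf (nat_lit 6369483)))
  (.node (.node (.leaf (nat_lit 6478143559))
  (.leaf (nat_lit 395)))
  (.leaf (nat_lit 13741))))
  (.node (.node (.node (.leaf (nat_lit 198850))
  (.leaf (nat_lit 7176)))
  (.leaf (nat_lit 413541737)))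
  (.node (.node (.leaf (nat_lit 4330662025))
  (.leaf (nat_lit 430)))
  (.leaf (nat_lit 99))))
def c0_N_5 : Tr := .node (.node (.node (.node (.leaf (nat_lit 197825))
  (.leaf (nat_lit 263)))
  (.leaf (nat_lit 5471516813)))
  (.node (.node (.leaf (nat_lit 35692743))
  (.leaf (nat_lit 11276)))
  (.leaf (nat_lit 66))))
  (.node (.node (.node (.leaf (nat_lit 176265692225))
  (.leaf (nat_lit 298)))
  (.leaf (nat_lit 0x3148370c85329a9)))
  (.node (.node (.leaf (nat_lit 107065419))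
  (.leaf (nat_lit 0)))
  (.leaf (nat_lit 4100))))
def c0_N_6 : Tr := .node (.node (.node (.node (.leaf (nat_lit 132225))
  (.leaf (nat_lit 6150)))
  (.leaf (nat_lit 3225677)))
  (.node (.node (.leaf (nat_lit 176196460679))
  (.leaf (nat_lit 364)))
  (.leaf (nat_lit 33))))
  (.node (.node (.node (.leaf (nat_lit 175190901825))
  (.leaf (nat_lit 329)))
  (.leaf (nat_lit 401767)))
  (.node (.node (.leaf (nat_lit 43209))
  (.leaf (nat_lit 13326)))
  (.leaf (nat_lit 132))))
def c0_N_7 : Tr := .node (.node (.node (.node (.leaf (nat_lit 133250))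
  (.leaf (nat_lit 232)))
  (.leaf (nat_lit 6338765)))
  (.node (.node (.leaf (nat_lit 104966217))
  (.leaf (nat_lit 461)))
  (.leaf (nat_lit 2050))))
  (.node (.node (.node (.leaf (nat_lit 211733775425))
  (.leaf (nat_lit 9226)))
  (.leaf (nat_lit 9513)))
  (.node (.leaf (nat_lit 5471514763))
  (.leaf (nat_lit 165))))
def c0_N : Tr := .node (.node (.node c0_N_0
  c0_N_1)
  (.node c0_N_2
  c0_N_3))
  (.node (.node c0_N_4
  c0_N_5)
  (.node c0_N_6
  c0_N_7))
noncomputable def c0 : TC :=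
  ⟨[.l 0, .l 1, .l 2, .l 3, .l 4, .l 5, .l 6, .l 7, .l 8, .l 9, .l 10, .l 11, .l 12, .l 13, .l 14],
    (nat_lit 6), (nat_lit 10), (nat_lit 0x35cb62547418a418820), (nat_lit 2815), (nat_lit 43), (nat_lit 9), (nat_lit 32), (nat_lit 12), (nat_lit 94),
    get (nat_lit 10) (nat_lit 0x1003010030080400c02010030080400c02010030080400c02010030080400c02010030080400c02010030080400c02010030080400c0200c0300c030300401006018060140801c06014040140401c08018050100701c0801807018070200701c040200802008020080100401004010040100402018), Tr.get c0_N, get (nat_lit 20) (nat_lit 0x3ff003ff003ff003ff003ff003ff003ff003ff003ff003ff003ff003ff003ff003ff003ff003ff003ff003ff003ff003ff003ff003ff003ff003ff003ff003ff003ff003ff003ff003ff003ff003ff003ff003ff003ff003ff003ff003ff003ff003ff003ff003ff003ff003ff00031000300002f0002e0002d0002c0002b0002a000290002800027000260002500024000230002200021000200001f0001e0001d0001c0001b0001a000190001800017000160001500014000130001200011000100000f0000e0000d0000c0000b0000a00009000080000700006000050000400003000020000100000),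
    Tr.get3 c0_F (nat_lit 22) (nat_lit 5), Tr.get3 c0_T (nat_lit 6) (nat_lit 7), Tr.get c0_P⟩

theorem c0_head : c0.headOK c0_rels iv1 = true := by decide +kernel

theorem c0_b0 : allFrom (nat_lit 0) (nat_lit 12) c0.blockOK = true := by decide +kernel

def c0_Q13 : Tr := .leaf (nat_lit 0xce6e0af2b27d68d5e3197104abc26e4b83113d58108289682ea6dd46af02962134ae084d0241023b8b0d329820304031e804)
theorem c0_f13_0 : allFrom (nat_lit 0) (nat_lit 40) (c0.finOK (nat_lit 40) (Tr.get3 c0_Q13 (nat_lit 10) (nat_lit 6)) (nat_lit 13)) = true := by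
  decide +kernel

def c0_Q11 : Tr := .leaf (nat_lit 0xcaed2b2049ac69c130536d1e711f1c04dc2bb844524bea082c851d266b0092c3962dfb500bb8c63588c1d35007308a106866)
theorem c0_f11_0 : allFrom (nat_lit 0) (nat_lit 40) (c0.finOK (nat_lit 40) (Tr.get3 c0_Q11 (nat_lit 10) (nat_lit 6)) (nat_lit 11)) = true := by
  decide +kernel

def c0_Q9 : Tr := .leaf (nat_lit 0x156deb46ae0d7176ef2eb3c27a627f731eabe96752d029b56c635e0693060fe4c058379ac093903d8ca117f01e0e87422464)
theorem c0_f9_0 : allFrom (nat_lit 0) (nat_lit 40) (c0.finOK (nat_lit 40) (Tr.get3 c0_Q9 (nat_lit 10) (nat_lit 6)) (nat_lit 9)) = true := by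
  decide +kernel

def c0_Q7 : Tr := .leaf (nat_lit 0xca31bb06aa792d79cf1297d6aa52810c9f9ba17d08d4ca790a0adce8f2fc9220c056f24e40a63a36140d9278ab318761fc62)
theorem c0_f7_0 : allFrom (nat_lit 0) (nat_lit 40) (c0.finOK (nat_lit 40) (Tr.get3 c0_Q7 (nat_lit 10) (nat_lit 6)) (nat_lit 7)) = true := by
  decide +kernel

def c0_Q6 : Tr := .leaf (nat_lit 0xccadab12b47ba886031e6c16ea82764c1bcb995e5411298908649d66830493a16491fe4f0fa39a3e878dc270ae330681e060)
theorem c0_f6_0 : allFrom (nat_lit 0) (nat_lit 40) (c0.finOK (nat_lit 40) (Tr.get3 c0_Q6 (nat_lit 10) (nat_lit 6)) (nat_lit 6)) = true := by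
  decide +kernel

def c0_Q5 : Tr := .leaf (nat_lit 0xcdad4b32ac7ca8461b146e174a5a7c471c8bd964551109a116659dc6730c9520e4a204510bc3ba388a0d6268b4320702185e)
theorem c0_f5_0 : allFrom (nat_lit 0) (nat_lit 40) (c0.finOK (nat_lit 40) (Tr.get3 c0_Q5 (nat_lit 10) (nat_lit 6)) (nat_lit 5)) = true := by
  decide +kernel

def c0_Q4 : Tr := .leaf (nat_lit 0xcc2e2b2ab87b28e613226d972a9a7a4b1cabe1625590499914661de69b0e94a1a48202508f83b244898e0288b2340722105c)
theorem c0_f4_0 : allFrom (nat_lit 0) (nat_lit 40) (c0.finOK (nat_lit 40) (Tr.get3 c0_Q4 (nat_lit 10) (nat_lit 6)) (nat_lit 4)) = true := by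
  decide +kernel

def c0_Q3 : Tr := .leaf (nat_lit 0xcb2e4b1aba7a29060b246c976a9278489c6bd160518fe9910c621da6a30a95a1c47a064f8f43c2428a8e2290b03286e2085a)
theorem c0_f3_0 : allFrom (nat_lit 0) (nat_lit 40) (c0.finOK (nat_lit 40) (Tr.get3 c0_Q3 (nat_lit 10) (nat_lit 6)) (nat_lit 3)) = true := by
  decide +kernel

def c0_Q2 : Tr := .leaf (nat_lit 0xcd2dcb0ab67c28a5fb206b970a8a744c9c0bb15c5490e98106651d868b089421849a004e8f23a240880de260ac3386c20058)
theorem c0_f2_0 : allFrom (nat_lit 0) (nat_lit 40) (c0.finOK (nat_lit 40) (Tr.get3 c0_Q2 (nat_lit 10) (nat_lit 6)) (nat_lit 2)) = true := by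
  decide +kernel

def c0_Q1 : Tr := .leaf (nat_lit 0xc9ad8afaa878a865eb106b168a4a70461beba95a538f69711a641d067afe91a0a2e1f64d8b63aa2e890da258a83106a1f056)
theorem c0_f1_0 : allFrom (nat_lit 0) (nat_lit 40) (c0.finOK (nat_lit 40) (Tr.get3 c0_Q1 (nat_lit 10) (nat_lit 6)) (nat_lit 1)) = true := by
  decide +kernel

theorem c0_blocks : ∀ t < c0.k, c0.blockOK t = true :=
  (of_allFrom_append of_lt_zero c0_b0)

/-- index 40 max 40 total 43 facts 413 | needed cosets 43 facts 413 steps 1855 trivial 9 -/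
theorem c0_index {G : Type*} [Group G] {γ : ℕ → G} (hL : Lab γ iv1) (hr : ∀ t ∈ c0_rels, t.ev γ = 1) {K : Subgroup G}
    (hK : ∀ t ∈ ([.l 1, .l 2, .l 3, .l 4, .l 5, .l 6, .l 7, .l 9, .l 11] : List W), t.ev γ ∈ K) :
    K.relIndex (genW γ [.l 1, .l 2, .l 3, .l 4, .l 5, .l 6, .l 7, .l 9, .l 11, .l 13]) ≠ 0 ∧ K.relIndex (genW γ [.l 1, .l 2, .l 3, .l 4, .l 5, .l 6, .l 7, .l 9, .l 11, .l 13]) ≤ 40 :=
  TC.relIndex_le (D := c0) (gens := [1, 2, 3, 4, 5, 6, 7, 9, 11, 13]) hL (List.forall_mem_cons.2 ⟨hL.zero_mem K, hK⟩) hr c0_head c0_blocks (by decide) (by decide)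
   (List.forall_mem_cons.2 ⟨⟨_, (of_allFrom_append of_lt_zero c0_f1_0)⟩,
    List.forall_mem_cons.2 ⟨⟨_, (of_allFrom_append of_lt_zero c0_f2_0)⟩,
    List.forall_mem_cons.2 ⟨⟨_, (of_allFrom_append of_lt_zero c0_f3_0)⟩,
    List.forall_mem_cons.2 ⟨⟨_, (of_allFrom_append of_lt_zero c0_f4_0)⟩,
    List.forall_mem_cons.2 ⟨⟨_, (of_allFrom_append of_lt_zero c0_f5_0)⟩,
    List.forall_mem_cons.2 ⟨⟨_, (of_allFrom_append of_lt_zero c0_f6_0)⟩,
    List.forall_mem_cons.2 ⟨⟨_, (of_allFrom_append of_lt_zero c0_f7_0)⟩,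
    List.forall_mem_cons.2 ⟨⟨_, (of_allFrom_append of_lt_zero c0_f9_0)⟩,
    List.forall_mem_cons.2 ⟨⟨_, (of_allFrom_append of_lt_zero c0_f11_0)⟩,
    List.forall_mem_cons.2 ⟨⟨_, (of_allFrom_append of_lt_zero c0_f13_0)⟩,
    fun _ h => absurd h List.not_mem_nil⟩⟩⟩⟩⟩⟩⟩⟩⟩⟩)

/-- relators -/
def c1_rels : List W := [.pow (.mul (.l 1) (.l 2)) 4, .pow (.mul (.l 1) (.l 3)) 2, .pow (.mul (.l 1) (.l 4)) 2, .pow (.mul (.l 1) (.l 5)) 2, .pow (.mul (.l 1) (.l 6)) 2, .pow (.mul (.l 2) (.l 3)) 2, .pow (.mul (.l 2) (.l 4)) 2, .pow (.mul (.l 2) (.l 5)) 2, .pow (.mul (.l 2) (.l 6)) 2, .mul (.pow (.mul (.l 1) (.l 2)) 2) (.pow (.mul (.l 3) (.l 4)) 2), .mul (.pow (.mul (.l 1) (.l 2)) 2) (.pow (.mul (.l 3) (.l 5)) 2), .mul (.pow (.mul (.l 1) (.l 2)) 2) (.pow (.mul (.l 3) (.l 6)) 2), .mul (.pow (.mul (.l 1) (.l 2)) 2) (.pow (.mul (.l 4) (.l 5)) 2), .mul (.pow (.mul (.l 1) (.l 2)) 2) (.pow (.mul (.l 4) (.l 6)) 2), .mul (.pow (.mul (.l 1) (.l 2)) 2) (.pow (.mul (.l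 5) (.l 6)) 2), .mul (.mul (.mul (.l 7) (.l 1)) (.inv (.l 7))) (.inv (.l 3)), .mul (.mul (.mul (.l 7) (.l 2)) (.inv (.l 7))) (.inv (.mul (.mul (.mul (.l 6) (.l 1)) (.l 2)) (.l 1))), .mul (.mul (.mul (.l 7) (.l 3)) (.inv (.l 7))) (.inv (.mul (.mul (.mul (.l 4) (.l 3)) (.l 4)) (.l 1))), .mul (.mul (.mul (.l 7) (.l 4)) (.inv (.l 7))) (.inv (.mul (.mul (.mul (.mul (.l 5) (.l 4)) (.l 3)) (.l 2)) (.l 1))), .mul (.mul (.mul (.l 7) (.l 5)) (.inv (.l 7))) (.inv (.mul (.mul (.mul (.l 6) (.l 4)) (.l 2)) (.l 1))), .mul (.mul (.mul (.l 7) (.l 6)) (.inv (.l 7))) (.inv (.mul (.mul (.l 1) (.l 2)) (.l 1))), .mul (.mul (.mul (.l 9) (.l 1)) (.inv (.l 9))) (.inv (.mul (.mul (.mul (.l 3) (.l 6)) (.l 3)) (.l 1))), .mul (.mul (.mul (.l 9) (.l 2)) (.inv (.l 9))) (.inv (.mul (.mul (.l 3) (.l 4)) (.l 3))), .mul (.mul (.mul (.l 9) (.l 3)) (.inv (.l 9))) (.inv (.mul (.mul (.mul (.mul (.l 5) (.l 4)) (.l 3)) (.l 2)) (.l 1))), .mul (.mul (.mul (.l 9) (.l 4)) (.inv (.l 9)))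 (.inv (.mul (.mul (.mul (.l 4) (.l 1)) (.l 2)) (.l 1))), .mul (.mul (.mul (.l 9) (.l 5)) (.inv (.l 9))) (.inv (.mul (.mul (.mul (.l 6) (.l 3)) (.l 2)) (.l 1))), .mul (.mul (.mul (.l 9) (.l 6)) (.inv (.l 9))) (.inv (.l 1)), .mul (.mul (.mul (.l 11) (.l 1)) (.inv (.l 11))) (.inv (.mul (.l 5) (.l 1))), .mul (.mul (.mul (.l 11) (.l 2)) (.inv (.l 11))) (.inv (.mul (.mul (.l 3) (.l 6)) (.l 3))), .mul (.mul (.mul (.l 11) (.l 3)) (.inv (.l 11))) (.inv (.mul (.mul (.mul (.mul (.l 6) (.l 4)) (.l 3)) (.l 2)) (.l 1))), .mul (.mul (.mul (.l 11) (.l 4)) (.inv (.l 11))) (.inv (.mul (.mul (.mul (.l 5) (.l 3)) (.l 2)) (.l 1))), .mul (.mul (.mul (.l 11) (.l 5)) (.inv (.l 11))) (.inv (.l 1)), .mul (.mul (.mul (.l 11) (.l 6)) (.inv (.l 11))) (.inv (.mul (.l 6) (.l 2))), .mul (.mul (.mul (.mul (.l 7) (.l 9)) (.l 7)) (.inv (.mul (.l 7) (.l 9)))) (.inv (.mul (.mul (.l 0) (.l 9)) (.inv (.l 0)))), .mul (.mul (.mul (.mul (.l 9) (.l 11)) (.l 9)) (.inv (.mul (.l 9) (.l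 11)))) (.inv (.mul (.mul (.l 0) (.l 11)) (.inv (.l 0)))), .mul (.mul (.mul (.l 7) (.l 11)) (.inv (.l 7))) (.inv (.mul (.mul (.l 0) (.l 11)) (.inv (.l 0)))), .pow (.l 7) 3, .pow (.l 9) 3, .pow (.l 11) 3]
def c1_F : Tr := .leaf (nat_lit 0x2689a2e8ba1e87a1685a5693a368da6697a0e83a45cfa1e4792649916459364d966578565392e4b9464f90e4391e0782e0b82609816058360d8561375cd98460f80e0381dc772dcb725c970dc375dd97458f715c5735cd71d8762d8b62589615856358d6559355d9960d8361d4752549515455354d5655744c5552d4b5454f50d4351d074250945513415054350d40d0343d1142d0b41cc732ccb324c930cc3344cf314c5334cd3539333c90b1c8722489214852348d20c8323c5122c8b2635721c4712449114451344d10c4313ad112c4b1631711c0702c0b0240900c030440f014050340d05253023c8f2bcaf13c4f33ccf0bc2f43cee4bd4f5bd8f1bc6f2388e2b8ae1b86e1384e5352e338ce6396e0b82e2348d1344d334cd2b4ad0b42d5b58a434ec1b46d2308c2b0ac1b06c1304c4b14c330cc6256c0b02c1ac6b22c8b52d2b12c4b32ccb0ac2b2acab6156b2288a2a8aa1284a328ca0a82a428e94a94a1a86a224892a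4a91a4691244952129324c90a429220882a0a812048320c80a028420e75a1881a06821c8729ca719c6711c4749d4731cc761d6709c2719866298a62188611846318c651925599860982619465294a521485094256116511445314c519064290a42108411044310c4511230902418c6328ca320c8308c2358d8310c4330cc3188622088210842308c260961288a2408e208822184612048110441304c10842138501284a150120400e0300c0280a020080180601004008020468f65e5934e15255d324d9515d5906517054d2d6496a64569541283bd06438e63b505430e562d643a904424e43a10341ce349942515224914150d21589806056000000)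
def c1_T : Tr := .leaf (nat_lit 0x6b38bdab49ca307b9ac5a928398a418820)
def c1_P : Tr := .node (.node (.node (.leaf (nat_lit 0xa0104500c0900222028631846302c008580a1540b0021a1d06f1b47119c6b1d40085c741947119c6b1d400864741b46b19c6b1d400860741c46d1c475002161d06b1d400868060240009408134090061a018471445313c4b01c0085c061345313c4b01c00864061444b13c4b01c008600614c4d14c4b01c00854060084400c0700622018531445301c008580612c070021a1684d1445313c4b16c008745a11c5313c4b16c008785a14c4d14c5b0021c1684d13c5b002200080500026150040dc050081b010430140008c040fc050061f008410f43b0e43700c00874020fc3b0e43700c00878020ec410ec030021c008410e403002200083f0dc030021b0084200c0108c020dc030021f))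
  (.leaf (nat_lit 0x6002a4dc2b0081b0a9350ac0008c2a4ec2b0061f0a1314e53d4cd370a400874284ed3d4cd370a40087828080b008429004220a13d4c53d0a400870284c5330a400880284ed370a40086c284d029004230a1370a40087c264150b3f50940c2700217099073f50940c27002190990b40d0940c2700218098fd41cfd40c2700215098fe3c8ff09c01084263f50b3f427002160990309c008682644800094160542500423090d536ccd35cd30940087424364cd35cd30940087824334d5334250021c090d535c2500220090d934c250021b090d008c0108c2434c250021f0910100026088c132cc7314bf08c0087422324c7314bf08c008782231cc131c230021c088c13142300220)))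
  (.node (.leaf (nat_lit 0x4090034d010081b400d94040187c142101b006230601b000240688706c0183c1822c892348321c1900212060812248321c1900213060892348921c19002110608121c8321c19002100600a1580b064018841821c8321c19002140608504c0088c18234190020f058771ec7f1e47305c00874161f47f1e47305c00878161d0681d417004220587f1dc7f05c00870161dc7905c00880161f47305c0086c161cc170021f0588400026340c932cc7314bf34400848d0304cb314bf3440084cd0304bf314bf34400840d02fcc52fcd100214340c73440083c120540009014020490241500a21050730540183c121f47b1fc791cc1300212048771ec791cc13002130487b1fc7b1cc1300211))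
  (.leaf (nat_lit 0x7fc007fc007fc007fc007fc007fc007fc007fc007fc007fc007fc007fc007fc007fc007fc3467d9d6859b64c35002120d1996759b64c35002130d19d6859d64c35002110d19964d9b64c35002100d02c5482f758008843464d9b64c35002140d1940d40088c34684350020f0d1a600024731bb6fdc36f5b373400875cc705c36f5b373400879cc70dbb70dcd0021c731bb6f5cd002206dc33000260c96143d600cc00089c40c9690cc0206c3259c3300023))))
  (.node (.node (.leaf (nat_lit 0x121dc731e47304c00840120204801c1100221048731e47304c00850121fc130020f2c8ab2b4a929c9f2cc00848b228cad29c9f2cc0084cb228c9f29c9f2cc00840b227ca727cb3002142c8a92cc0083c0e04400090101a411006230406b0440183c0e1bc6d1c4671ac0f00212038651b4671ac0f002130386d1c46d1ac0f00211038651ac671ac0f00210038061240703c018840e1ac671ac0f002140386803c0088c0e1c40f0020f2488b2248d20c8724c0085c922048d20c8724c00864922248720c8724c00860922348923493002162488724c008680a034000940c010440140d00a220305d034018680a1646118c5f1540b002170285d18c5f1540b00219028611545f1540b0021802863174631540b00215))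
  (.leaf (nat_lit 0xc96d0cc0187db86bdad6c5a56adb9002176e1a36c5a56adb9002196e1ad6ada56adb9002186e1b16b5b16e400859b86adb90021a0b831000250c14f4490e5800288830578e757c31000210c1570c4018682e5455b575595542f002170b957575595542f002190b95b555595542f002180b95d55d5d5542f002150b82433c250bc018882e54d8660d97004210b95d56d5d0bc008582e5542f0021a6598563d916358165c0085d9662d916358165c008659663d816358165c00861966458f64597002166598165c00869870b4000942c4fcf34f82d00a220b1470b401869885dd7d5fd795d5890021d621715fd795d5890021e6217f5dd7f62400871885dd7962400880280ac000982a080b13082300822)))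
  (.leaf (nat_lit 0x22324bf08c0086c220481700423088bf08c0087c223b800098202ecbd2bcb92d42100217080b72bcb92d42100219080bd2d4b92d42100218080af2dcaf2d42100215080b2290b308401084202bcbd2bc2100216080b5084008682030800095224651b45d1543523002124891146d154352300213489114351543523002104890d4550d48c008512245d230020f0701f000240780c1580d07c028841e2441f006230788f07c0183c1c26c992749723c1d00212070952649723c1d00213070992749923c1d002110709523c9723c1d002100700c15c0b06c008841c23c9723c1d00214070900740088c1c2741d0020f3f108409003350141c0307502400db405053f402078fc400d7404fd0081c)))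
def c1_N_0 : Tr := .node (.node (.node (.node (.leaf (nat_lit 69861442625))
  (.leaf (nat_lit 329)))
  (.leaf (nat_lit 6369483)))
  (.node (.node (.leaf (nat_lit 6478143559))
  (.leaf (nat_lit 13326)))
  (.leaf (nat_lit 132))))
  (.node (.node (.node (.leaf (nat_lit 198850))
  (.leaf (nat_lit 364)))
  (.leaf (nat_lit 33)))
  (.node (.leaf (nat_lit 4330662025))
  (.leaf (nat_lit 6150))))
def c1_N_1 : Tr := .node (.node (.node (.node (.leaf (nat_lit 197825))
  (.leaf (nat_lit 9226)))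
  (.leaf (nat_lit 7399)))
  (.node (.leaf (nat_lit 35692743))
  (.leaf (nat_lit 165))))
  (.node (.node (.node (.leaf (nat_lit 176265692225))
  (.leaf (nat_lit 461)))
  (.leaf (nat_lit 2050)))
  (.node (.leaf (nat_lit 107065419))
  (.leaf (nat_lit 232))))
def c1_N_2 : Tr := .node (.node (.node (.node (.leaf (nat_lit 132225))
  (.leaf (nat_lit 298)))
  (.leaf (nat_lit 413541737)))
  (.node (.node (.leaf (nat_lit 176196460679))
  (.leaf (nat_lit 0)))
  (.leaf (nat_lit 4100))))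
  (.node (.node (.node (.leaf (nat_lit 175190901825))
  (.leaf (nat_lit 11276)))
  (.leaf (nat_lit 66)))
  (.node (.leaf (nat_lit 43209))
  (.leaf (nat_lit 263))))
def c1_N_3 : Tr := .node (.node (.node (.node (.leaf (nat_lit 133250))
  (.leaf (nat_lit 395)))
  (.leaf (nat_lit 11627)))
  (.node (.leaf (nat_lit 104966217))
  (.leaf (nat_lit 198))))
  (.node (.node (.node (.leaf (nat_lit 211733775425))
  (.leaf (nat_lit 430)))
  (.leaf (nat_lit 99)))
  (.node (.leaf (nat_lit 5471514763))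
  (.leaf (nat_lit 7176))))
def c1_N_4 : Tr := .node (.node (.node (.node (.leaf (nat_lit 99425))
  (.leaf (nat_lit 10249)))
  (.leaf (nat_lit 344268071)))
  (.node (.node (.leaf (nat_lit 4399865959))
  (.leaf (nat_lit 0)))
  (.leaf (nat_lit 132))))
  (.node (.node (.node (.leaf (nat_lit 140797609025))
  (.leaf (nat_lit 364)))
  (.leaf (nat_lit 1025)))
  (.node (.leaf (nat_lit 6545254569))
  (.leaf (nat_lit 263))))
def c1_N_5 : Tr := .node (.node (.node (.node (.leaf (nat_lit 100450))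
  (.leaf (nat_lit 395)))
  (.leaf (nat_lit 9513)))
  (.node (.leaf (nat_lit 3425740841))
  (.leaf (nat_lit 5125))))
  (.node (.node (.node (.leaf (nat_lit 210658985025))
  (.leaf (nat_lit 14349)))
  (.leaf (nat_lit 99)))
  (.node (.leaf (nat_lit 210556203115))
  (.leaf (nat_lit 232))))
def c1_N_6 : Tr := .node (.node (.node (.node (.leaf (nat_lit 165025))
  (.leaf (nat_lit 298)))
  (.leaf (nat_lit 401767)))
  (.node (.leaf (nat_lit 6578806951))
  (.leaf (nat_lit 165))))
  (.node (.node (.node (.leaf (nat_lit 209584194625))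
  (.leaf (nat_lit 461)))
  (.leaf (nat_lit 66)))
  (.node (.leaf (nat_lit 5287979))
  (.leaf (nat_lit 8199))))
def c1_N_7 : Tr := .node (.node (.node (.node (.leaf (nat_lit 166050))
  (.leaf (nat_lit 12299)))
  (.leaf (nat_lit 33)))
  (.node (.leaf (nat_lit 176196462697))
  (.leaf (nat_lit 198))))
  (.node (.node (.node (.leaf (nat_lit 106535))
  (.leaf (nat_lit 430)))
  (.leaf (nat_lit 3075)))
  (.node (.leaf (nat_lit 45227))
  (.leaf (nat_lit 329))))
def c1_N : Tr := .node (.node (.node c1_N_0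
  c1_N_1)
  (.node c1_N_2
  c1_N_3))
  (.node (.node c1_N_4
  c1_N_5)
  (.node c1_N_6
  c1_N_7))
noncomputable def c1 : TC :=
  ⟨[.l 0, .l 1, .l 2, .l 3, .l 4, .l 5, .l 6, .l 7, .l 8, .l 9, .l 10, .l 11, .l 12, .l 13, .l 14],
    (nat_lit 5), (nat_lit 10), (nat_lit 0x35cb62547418a418820), (nat_lit 767), (nat_lit 27), (nat_lit 8), (nat_lit 32), (nat_lit 7), (nat_lit 83),
    get (nat_lit 10) (nat_lit 0x400c0400c02010030080400c02010030080400c02010030080400c02010030080400c02010030080400c02010030080400c02010030080300c03010060180501007020060140401c070200601c0601c0801c070100802008020080200401004010040100401008), Tr.get c1_N, get (nat_lit 20) (nat_lit 0x3ff003ff003ff003ff003ff003ff003ff003ff003ff003ff003ff003ff003ff003ff003ff003ff003ff003ff003ff003ff003ff003ff003ff003ff003ff003ff003ff003ff003ff003ff003ff003ff003ff003ff003ff003ff003ff003ff003ff003ff003ff003ff003ff003ff000260002500024000230002200021000200001f0001e0001d0001c0001b0001a000190001800017000160001500014000130001200011000100000f0000e0000d0000c0000b0000a00009000080000700006000050000400003000020000100000),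
    Tr.get3 c1_F (nat_lit 20) (nat_lit 5), Tr.get3 c1_T (nat_lit 5) (nat_lit 7), Tr.get c1_P⟩

theorem c1_head : c1.headOK c1_rels iv1 = true := by decide +kernel

theorem c1_b0 : allFrom (nat_lit 0) (nat_lit 7) c1.blockOK = true := by decide +kernel

def c1_Q11 : Tr := .leaf (nat_lit 0x76867ccd4e545788dbd3a7c288fc3a02ee6e09044b150245081634814b402)
theorem c1_f11_0 : allFrom (nat_lit 0) (nat_lit 27) (c1.finOK (nat_lit 27) (Tr.get3 c1_Q11 (nat_lit 9) (nat_lit 6)) (nat_lit 11)) = true := by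
  decide +kernel

def c1_Q9 : Tr := .leaf (nat_lit 0x77b9431dc0b72d7ab00bb0f2e90c484cf37333d84205283524093a0280c44)
theorem c1_f9_0 : allFrom (nat_lit 0) (nat_lit 27) (c1.finOK (nat_lit 27) (Tr.get3 c1_Q9 (nat_lit 9) (nat_lit 6)) (nat_lit 9)) = true := by
  decide +kernel

def c1_Q7 : Tr := .leaf (nat_lit 0x75b8db4d30d30573b357ea7340fc8836fea1855a011590703012071589242)
theorem c1_f7_0 : allFrom (nat_lit 0) (nat_lit 27) (c1.finOK (nat_lit 27) (Tr.get3 c1_Q7 (nat_lit 9) (nat_lit 6)) (nat_lit 7)) = true := by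
  decide +kernel

def c1_Q6 : Tr := .leaf (nat_lit 0x7739dbad16631576b155a8d30934420cf07135180b6512510076321709840)
theorem c1_f6_0 : allFrom (nat_lit 0) (nat_lit 27) (c1.finOK (nat_lit 27) (Tr.get3 c1_Q6 (nat_lit 9) (nat_lit 6)) (nat_lit 6)) = true := by
  decide +kernel

def c1_Q5 : Tr := .leaf (nat_lit 0x79391c0d767b0970b6542813a9546208f86f36190ba55269147c371608c3e)
theorem c1_f5_0 : allFrom (nat_lit 0) (nat_lit 27) (c1.finOK (nat_lit 27) (Tr.get3 c1_Q5 (nat_lit 9) (nat_lit 6)) (nat_lit 5)) = true := by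
  decide +kernel

def c1_Q4 : Tr := .leaf (nat_lit 0x79ba5bed66731d7cb556a95389646a14fa7436994bc56261107a36180a03c)
theorem c1_f4_0 : allFrom (nat_lit 0) (nat_lit 27) (c1.finOK (nat_lit 27) (Tr.get3 c1_Q4 (nat_lit 9) (nat_lit 6)) (nat_lit 4)) = true := by
  decide +kernel

def c1_Q3 : Tr := .leaf (nat_lit 0x78ba9c2d8683217eb7572993c8e459f8f6753318cae54271187e38188a43a)
theorem c1_f3_0 : allFrom (nat_lit 0) (nat_lit 27) (c1.finOK (nat_lit 27) (Tr.get3 c1_Q3 (nat_lit 9) (nat_lit 6)) (nat_lit 3)) = true := by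
  decide +kernel

def c1_Q2 : Tr := .leaf (nat_lit 0x783a1bcd266b1978b256291329445210f47235988b8532590478331789c38)
theorem c1_f2_0 : allFrom (nat_lit 0) (nat_lit 27) (c1.finOK (nat_lit 27) (Tr.get3 c1_Q2 (nat_lit 9) (nat_lit 6)) (nat_lit 2)) = true := by
  decide +kernel

def c1_Q1 : Tr := .leaf (nat_lit 0x76389b2d564b0174b455289369243204ec703497cb44f2390c72351509436)
theorem c1_f1_0 : allFrom (nat_lit 0) (nat_lit 27) (c1.finOK (nat_lit 27) (Tr.get3 c1_Q1 (nat_lit 9) (nat_lit 6)) (nat_lit 1)) = true := by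
  decide +kernel

theorem c1_blocks : ∀ t < c1.k, c1.blockOK t = true :=
  (of_allFrom_append of_lt_zero c1_b0)

/-- index 27 max 27 total 27 facts 244 | needed cosets 27 facts 244 steps 984 trivial 0 -/
theorem c1_index {G : Type*} [Group G] {γ : ℕ → G} (hL : Lab γ iv1) (hr : ∀ t ∈ c1_rels, t.ev γ = 1) {K : Subgroup G}
    (hK : ∀ t ∈ ([.l 1, .l 2, .l 3, .l 4, .l 5, .l 6, .l 7, .l 9] : List W), t.ev γ ∈ K) :
    K.relIndex (genW γ [.l 1, .l 2, .l 3, .l 4, .l 5, .l 6, .l 7, .l 9, .l 11]) ≠ 0 ∧ K.relIndex (genW γ [.l 1, .l 2, .l 3, .l 4, .l 5, .l 6, .l 7, .l 9, .l 11]) ≤ 27 :=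
  TC.relIndex_le (D := c1) (gens := [1, 2, 3, 4, 5, 6, 7, 9, 11]) hL (List.forall_mem_cons.2 ⟨hL.zero_mem K, hK⟩) hr c1_head c1_blocks (by decide) (by decide)
   (List.forall_mem_cons.2 ⟨⟨_, (of_allFrom_append of_lt_zero c1_f1_0)⟩,
    List.forall_mem_cons.2 ⟨⟨_, (of_allFrom_append of_lt_zero c1_f2_0)⟩,
    List.forall_mem_cons.2 ⟨⟨_, (of_allFrom_append of_lt_zero c1_f3_0)⟩,
    List.forall_mem_cons.2 ⟨⟨_, (of_allFrom_append of_lt_zero c1_f4_0)⟩,
    List.forall_mem_cons.2 ⟨⟨_, (of_allFrom_append of_lt_zero c1_f5_0)⟩,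
    List.forall_mem_cons.2 ⟨⟨_, (of_allFrom_append of_lt_zero c1_f6_0)⟩,
    List.forall_mem_cons.2 ⟨⟨_, (of_allFrom_append of_lt_zero c1_f7_0)⟩,
    List.forall_mem_cons.2 ⟨⟨_, (of_allFrom_append of_lt_zero c1_f9_0)⟩,
    List.forall_mem_cons.2 ⟨⟨_, (of_allFrom_append of_lt_zero c1_f11_0)⟩,
    fun _ h => absurd h List.not_mem_nil⟩⟩⟩⟩⟩⟩⟩⟩⟩)

/-- relators -/
def c2_rels : List W := [.pow (.mul (.l 1) (.l 2)) 4, .pow (.mul (.l 1) (.l 3)) 2, .pow (.mul (.l 1) (.l 4)) 2, .pow (.mul (.l 1) (.l 5)) 2, .pow (.mul (.l 1) (.l 6)) 2, .pow (.mul (.l 2) (.l 3)) 2, .pow (.mul (.l 2) (.l 4)) 2, .pow (.mul (.l 2) (.l 5)) 2, .pow (.mul (.l 2) (.l 6)) 2, .mul (.pow (.mul (.l 1) (.l 2)) 2) (.pow (.mul (.l 3) (.l 4)) 2), .mul (.pow (.mul (.l 1) (.l 2)) 2) (.pow (.mul (.l 3) (.l 5)) 2), .mul (.pow (.mul (.l 1) (.l 2)) 2) (.pow (.mul (.l 3) (.l 6)) 2), .mul (.pow (.mul (.l 1) (.l 2)) 2) (.pow (.mul (.l 4) (.l 5)) 2), .mul (.pow (.mul (.l 1) (.l 2)) 2) (.pow (.mul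 (.l 4) (.l 6)) 2), .mul (.pow (.mul (.l 1) (.l 2)) 2) (.pow (.mul (.l 5) (.l 6)) 2), .mul (.mul (.mul (.l 7) (.l 1)) (.inv (.l 7))) (.inv (.l 3)), .mul (.mul (.mul (.l 7) (.l 2)) (.inv (.l 7))) (.inv (.mul (.mul (.mul (.l 6) (.l 1)) (.l 2)) (.l 1))), .mul (.mul (.mul (.l 7) (.l 3)) (.inv (.l 7))) (.inv (.mul (.mul (.mul (.l 4) (.l 3)) (.l 4)) (.l 1))), .mul (.mul (.mul (.l 7) (.l 4)) (.inv (.l 7))) (.inv (.mul (.mul (.mul (.mul (.l 5) (.l 4)) (.l 3)) (.l 2)) (.l 1))), .mul (.mul (.mul (.l 7) (.l 5)) (.inv (.l 7))) (.inv (.mul (.mul (.mul (.l 6) (.l 4)) (.l 2)) (.l 1))), .mul (.mul (.mul (.l 7) (.l 6)) (.inv (.l 7))) (.inv (.mul (.mul (.l 1) (.l 2)) (.l 1))), .mul (.mul (.mul (.l 9) (.l 1)) (.inv (.l 9))) (.inv (.mul (.mul (.mul (.l 3) (.l 6)) (.l 3)) (.l 1))), .mul (.mul (.mul (.l 9) (.l 2)) (.inv (.l 9))) (.inv (.mul (.mul (.l 3) (.l 4)) (.l 3))), .mul (.mul (.mul (.l 9) (.l 3)) (.inv (.l 9))) (.inv (.mul (.mul (.mul (.mul (.l 5) (.l 4)) (.l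 3)) (.l 2)) (.l 1))), .mul (.mul (.mul (.l 9) (.l 4)) (.inv (.l 9))) (.inv (.mul (.mul (.mul (.l 4) (.l 1)) (.l 2)) (.l 1))), .mul (.mul (.mul (.l 9) (.l 5)) (.inv (.l 9))) (.inv (.mul (.mul (.mul (.l 6) (.l 3)) (.l 2)) (.l 1))), .mul (.mul (.mul (.l 9) (.l 6)) (.inv (.l 9))) (.inv (.l 1)), .mul (.mul (.mul (.mul (.l 7) (.l 9)) (.l 7)) (.inv (.mul (.l 7) (.l 9)))) (.inv (.mul (.mul (.l 0) (.l 9)) (.inv (.l 0)))), .pow (.l 7) 3, .pow (.l 9) 3]
def c2_F : Tr := .leaf (nat_lit 0x1f1f2f2f27270f0f473f17173737554f26262e2e161636360e0e463d4e561e1e25252d2d1d1d1515544d35350d0d24242c2c141434340c0c443b1c1c23232b2b1b1b13134b5333330b0b1a1a2a2a22221212323252490a0a1919292921210909111131314038303028282020181810100808574c3e42453a3c4143394a5051480000)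
def c2_T : Tr := .leaf (nat_lit 16434824)
def c2_P : Tr := .node (.leaf (nat_lit 0xa3337332b0b002110a2f2b312b0b002100a041d03090021b0a2b312b0b002140a370b0020f484345413f394900212483b453f394900213483b393f39490021048393f3949002144841490020f06090001c0823090060f0627252921230700212061f252123070021306252925230700211061f232123070021006021c03070061b0623212307002140629070020f2c27252921232d002172c1f2921232d002192c252321232d002182c2925292d002162c232d0021a02050001d041b050061a0219171513110300217021b15131103002190217111311030021802151b151103002150215171503002160211030021a))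
  (.leaf (nat_lit 0x1ff001ff001ff001ff001ff001ff001ff001ff001ff001ff001ff001ff001ff001ff0e5153474f4b0f002170e4d474f4b0f002190e534b4f4b0f002180e474d474b0f002150e483c490f0041b0e4753470f002160e4b0f0021a0e580001d665f615d5b5567002126657615b5567002136657555b55670021066555b556700214665d670020f0a0d0001c0c041c050d00a1b0c2b0d0060f0a353337312b0b002120a2f33312b0b00213))
def c2_N_0 : Tr := .node (.node (.node (.node (.leaf (nat_lit 69861442625))
  (.leaf (nat_lit 364)))
  (.leaf (nat_lit 1025)))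
  (.node (.leaf (nat_lit 6478143559))
  (.leaf (nat_lit 263))))
  (.node (.node (.node (.leaf (nat_lit 198850))
  (.leaf (nat_lit 0)))
  (.leaf (nat_lit 132)))
  (.node (.leaf (nat_lit 4330662025))
  (.leaf (nat_lit 10249))))
def c2_N_1 : Tr := .node (.node (.node (.node (.leaf (nat_lit 197825))
  (.leaf (nat_lit 14349)))
  (.leaf (nat_lit 99)))
  (.node (.leaf (nat_lit 35692743))
  (.leaf (nat_lit 232))))
  (.node (.node (.leaf (nat_lit 176265692225))
  (.leaf (nat_lit 5125)))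
  (.node (.leaf (nat_lit 7399))
  (.leaf (nat_lit 395))))
def c2_N_2 : Tr := .node (.node (.node (.node (.leaf (nat_lit 132225))
  (.leaf (nat_lit 461)))
  (.leaf (nat_lit 66)))
  (.node (.leaf (nat_lit 176196460679))
  (.leaf (nat_lit 8199))))
  (.node (.node (.leaf (nat_lit 175190901825))
  (.leaf (nat_lit 165)))
  (.node (.leaf (nat_lit 43209))
  (.leaf (nat_lit 298))))
def c2_N_3 : Tr := .node (.node (.node (.node (.leaf (nat_lit 133250))
  (.leaf (nat_lit 430)))
  (.leaf (nat_lit 3075)))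
  (.node (.leaf (nat_lit 104966217))
  (.leaf (nat_lit 329))))
  (.node (.node (.leaf (nat_lit 211733775425))
  (.leaf (nat_lit 198)))
  (.node (.leaf (nat_lit 33))
  (.leaf (nat_lit 12299))))
def c2_N_4 : Tr := .node (.node (.node (.node (.leaf (nat_lit 99425))
  (.leaf (nat_lit 11276)))
  (.leaf (nat_lit 66)))
  (.node (.leaf (nat_lit 4399865959))
  (.leaf (nat_lit 263))))
  (.node (.node (.node (.leaf (nat_lit 140797609025))
  (.leaf (nat_lit 0)))
  (.leaf (nat_lit 4100)))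
  (.node (.leaf (nat_lit 6545254569))
  (.leaf (nat_lit 298))))
def c2_N_5 : Tr := .node (.node (.node (.node (.leaf (nat_lit 100450))
  (.leaf (nat_lit 430)))
  (.leaf (nat_lit 99)))
  (.node (.leaf (nat_lit 3425740841))
  (.leaf (nat_lit 7176))))
  (.node (.node (.leaf (nat_lit 210658985025))
  (.leaf (nat_lit 198)))
  (.node (.leaf (nat_lit 9513))
  (.leaf (nat_lit 395))))
def c2_N_6 : Tr := .node (.node (.node (.node (.leaf (nat_lit 165025))
  (.leaf (nat_lit 461)))
  (.leaf (nat_lit 2050)))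
  (.node (.leaf (nat_lit 6578806951))
  (.leaf (nat_lit 232))))
  (.node (.node (.leaf (nat_lit 209584194625))
  (.leaf (nat_lit 165)))
  (.node (.leaf (nat_lit 344268071))
  (.leaf (nat_lit 9226))))
def c2_N_7 : Tr := .node (.node (.node (.node (.leaf (nat_lit 166050))
  (.leaf (nat_lit 13326)))
  (.leaf (nat_lit 132)))
  (.node (.leaf (nat_lit 176196462697))
  (.leaf (nat_lit 329))))
  (.node (.node (.leaf (nat_lit 106535))
  (.leaf (nat_lit 6150)))
  (.node (.leaf (nat_lit 33))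
  (.leaf (nat_lit 364))))
def c2_N : Tr := .node (.node (.node c2_N_0
  c2_N_1)
  (.node c2_N_2
  c2_N_3))
  (.node (.node c2_N_4
  c2_N_5)
  (.node c2_N_6
  c2_N_7))
noncomputable def c2 : TC :=
  ⟨[.l 0, .l 1, .l 2, .l 3, .l 4, .l 5, .l 6, .l 7, .l 8, .l 9, .l 10, .l 11, .l 12, .l 13, .l 14],
    (nat_lit 3), (nat_lit 8), (nat_lit 0x35cb62547418a418820), (nat_lit 255), (nat_lit 8), (nat_lit 7), (nat_lit 32), (nat_lit 2), (nat_lit 74),
    get (nat_lit 10) (nat_lit 0x1003010030080400c02010030080400c02010030080400c02010030080400c02010030080400c02010030080400c02010030080400c0200c030180401c070200601c0601c0801c070100802008020080200401004010040100401008), Tr.get c2_N, get (nat_lit 20) (nat_lit 0x3ff003ff003ff003ff003ff003ff003ff003ff003ff003ff003ff003ff003ff003ff003ff003ff003ff003ff003ff003ff003ff003ff003ff003ff003ff003ff003ff003ff003ff003ff003ff003ff003ff003ff003ff003ff003ff003ff003ff003ff003ff003ff003ff003ff0001d0001c0001b0001a000190001800017000160001500014000130001200011000100000f0000e0000d0000c0000b0000a00009000080000700006000050000400003000020000100000),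
    Tr.get3 c2_F (nat_lit 16) (nat_lit 5), Tr.get3 c2_T (nat_lit 3) (nat_lit 8), Tr.get c2_P⟩

theorem c2_head : c2.headOK c2_rels iv1 = true := by decide +kernel

theorem c2_b0 : allFrom (nat_lit 0) (nat_lit 2) c2.blockOK = true := by decide +kernel

def c2_Q9 : Tr := .leaf (nat_lit 0xe596c0e7a15602)
theorem c2_f9_0 : allFrom (nat_lit 0) (nat_lit 8) (c2.finOK (nat_lit 8) (Tr.get3 c2_Q9 (nat_lit 7) (nat_lit 7)) (nat_lit 9)) = true := by
  decide +kernel

def c2_Q7 : Tr := .leaf (nat_lit 0xf037309902831c)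
theorem c2_f7_0 : allFrom (nat_lit 0) (nat_lit 8) (c2.finOK (nat_lit 8) (Tr.get3 c2_Q7 (nat_lit 7) (nat_lit 7)) (nat_lit 7)) = true := by
  decide +kernel

def c2_Q6 : Tr := .leaf (nat_lit 0xe9aab4c74b8f1a)
theorem c2_f6_0 : allFrom (nat_lit 0) (nat_lit 8) (c2.finOK (nat_lit 8) (Tr.get3 c2_Q6 (nat_lit 7) (nat_lit 7)) (nat_lit 6)) = true := by
  decide +kernel

def c2_Q5 : Tr := .leaf (nat_lit 0xfdbaf5084d1318)
theorem c2_f5_0 : allFrom (nat_lit 0) (nat_lit 8) (c2.finOK (nat_lit 8) (Tr.get3 c2_Q5 (nat_lit 7) (nat_lit 7)) (nat_lit 5)) = true := by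
  decide +kernel

def c2_Q4 : Tr := .leaf (nat_lit 0xf9c305288c9216)
theorem c2_f4_0 : allFrom (nat_lit 0) (nat_lit 8) (c2.finOK (nat_lit 8) (Tr.get3 c2_Q4 (nat_lit 7) (nat_lit 7)) (nat_lit 4)) = true := by
  decide +kernel

def c2_Q3 : Tr := .leaf (nat_lit 0x80625c4640362814)
theorem c2_f3_0 : allFrom (nat_lit 0) (nat_lit 8) (c2.finOK (nat_lit 8) (Tr.get3 c2_Q3 (nat_lit 8) (nat_lit 6)) (nat_lit 3)) = true := by
  decide +kernel

def c2_Q2 : Tr := .leaf (nat_lit 0xedb2d4e7cc1012)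
theorem c2_f2_0 : allFrom (nat_lit 0) (nat_lit 8) (c2.finOK (nat_lit 8) (Tr.get3 c2_Q2 (nat_lit 7) (nat_lit 7)) (nat_lit 2)) = true := by
  decide +kernel

def c2_Q1 : Tr := .leaf (nat_lit 0xf5a2a4a70a9110)
theorem c2_f1_0 : allFrom (nat_lit 0) (nat_lit 8) (c2.finOK (nat_lit 8) (Tr.get3 c2_Q1 (nat_lit 7) (nat_lit 7)) (nat_lit 1)) = true := by
  decide +kernel

theorem c2_blocks : ∀ t < c2.k, c2.blockOK t = true :=
  (of_allFrom_append of_lt_zero c2_b0)

/-- index 8 max 8 total 8 facts 65 | needed cosets 8 facts 65 steps 250 trivial 0 -/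
theorem c2_index {G : Type*} [Group G] {γ : ℕ → G} (hL : Lab γ iv1) (hr : ∀ t ∈ c2_rels, t.ev γ = 1) {K : Subgroup G}
    (hK : ∀ t ∈ ([.l 1, .l 2, .l 3, .l 4, .l 5, .l 6, .l 7] : List W), t.ev γ ∈ K) :
    K.relIndex (genW γ [.l 1, .l 2, .l 3, .l 4, .l 5, .l 6, .l 7, .l 9]) ≠ 0 ∧ K.relIndex (genW γ [.l 1, .l 2, .l 3, .l 4, .l 5, .l 6, .l 7, .l 9]) ≤ 8 :=
  TC.relIndex_le (D := c2) (gens := [1, 2, 3, 4, 5, 6, 7, 9]) hL (List.forall_mem_cons.2 ⟨hL.zero_mem K, hK⟩) hr c2_head c2_blocks (by decide) (by decide)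
   (List.forall_mem_cons.2 ⟨⟨_, (of_allFrom_append of_lt_zero c2_f1_0)⟩,
    List.forall_mem_cons.2 ⟨⟨_, (of_allFrom_append of_lt_zero c2_f2_0)⟩,
    List.forall_mem_cons.2 ⟨⟨_, (of_allFrom_append of_lt_zero c2_f3_0)⟩,
    List.forall_mem_cons.2 ⟨⟨_, (of_allFrom_append of_lt_zero c2_f4_0)⟩,
    List.forall_mem_cons.2 ⟨⟨_, (of_allFrom_append of_lt_zero c2_f5_0)⟩,
    List.forall_mem_cons.2 ⟨⟨_, (of_allFrom_append of_lt_zero c2_f6_0)⟩,
    List.forall_mem_cons.2 ⟨⟨_, (of_allFrom_append of_lt_zero c2_f7_0)⟩,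
    List.forall_mem_cons.2 ⟨⟨_, (of_allFrom_append of_lt_zero c2_f9_0)⟩,
    fun _ h => absurd h List.not_mem_nil⟩⟩⟩⟩⟩⟩⟩⟩)

/-- relators -/
def c3_rels : List W := [.pow (.mul (.l 1) (.l 2)) 4, .pow (.mul (.l 1) (.l 3)) 2, .pow (.mul (.l 1) (.l 4)) 2, .pow (.mul (.l 1) (.l 5)) 2, .pow (.mul (.l 1) (.l 6)) 2, .pow (.mul (.l 2) (.l 3)) 2, .pow (.mul (.l 2) (.l 4)) 2, .pow (.mul (.l 2) (.l 5)) 2, .pow (.mul (.l 2) (.l 6)) 2, .mul (.pow (.mul (.l 1) (.l 2)) 2) (.pow (.mul (.l 3) (.l 4)) 2), .mul (.pow (.mul (.l 1) (.l 2)) 2) (.pow (.mul (.l 3) (.l 5)) 2), .mul (.pow (.mul (.l 1) (.l 2)) 2) (.pow (.mul (.l 3) (.l 6)) 2), .mul (.pow (.mul (.l 1) (.l 2)) 2) (.pow (.mul (.l 4) (.l 5)) 2), .mul (.pow (.mul (.l 1) (.l 2)) 2) (.pow (.mul (.l 4) (.l 6)) 2), .mul (.pow (.mul (.l 1) (.l 2)) 2) (.pow (.mul (.l 5) (.l 6)) 2), .mul (.mul (.mul (.l 7) (.l 1)) (.inv (.l 7))) (.inv (.l 3)), .mul (.mul (.mul (.l 7) (.l 2)) (.inv (.l 7))) (.inv (.mul (.mul (.mul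 (.l 6) (.l 1)) (.l 2)) (.l 1))), .mul (.mul (.mul (.l 7) (.l 3)) (.inv (.l 7))) (.inv (.mul (.mul (.mul (.l 4) (.l 3)) (.l 4)) (.l 1))), .mul (.mul (.mul (.l 7) (.l 4)) (.inv (.l 7))) (.inv (.mul (.mul (.mul (.mul (.l 5) (.l 4)) (.l 3)) (.l 2)) (.l 1))), .mul (.mul (.mul (.l 7) (.l 5)) (.inv (.l 7))) (.inv (.mul (.mul (.mul (.l 6) (.l 4)) (.l 2)) (.l 1))), .mul (.mul (.mul (.l 7) (.l 6)) (.inv (.l 7))) (.inv (.mul (.mul (.l 1) (.l 2)) (.l 1))), .pow (.l 7) 3]
def c3_F : Tr := .leaf (nat_lit 0x2448b161428d1a0c1911d1c388912a5468d1224c990a14c18285081018304080810f204270000)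
def c3_T : Tr := .leaf (nat_lit 36)
def c3_P : Tr := .leaf (nat_lit 0xff800ff800ff800ff800ff800ff800ff800ff800ff800ff800ff800ff800ff800ff800ff800ff800ff800ff800ffa03674c972684008490153a5c9a10021340549972684008410132e4d08010a2032840083c10500015081c280307821e345890e0c008481111a2438300213043458d0e0c008441110e2438300210041c4870600428085830020f)
def c3_N_0 : Tr := .node (.node (.node (.node (.leaf (nat_lit 69861442625))
  (.leaf (nat_lit 0)))
  (.leaf (nat_lit 132)))
  (.node (.leaf (nat_lit 6478143559))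
  (.leaf (nat_lit 10249))))
  (.node (.node (.leaf (nat_lit 198850))
  (.leaf (nat_lit 263)))
  (.node (.leaf (nat_lit 1025))
  (.leaf (nat_lit 364))))
def c3_N_1 : Tr := .node (.node (.node (.node (.leaf (nat_lit 132225))
  (.leaf (nat_lit 165)))
  (.node (.leaf (nat_lit 176196460679))
  (.leaf (nat_lit 298))))
  (.node (.node (.leaf (nat_lit 175190901825))
  (.leaf (nat_lit 8199)))
  (.node (.leaf (nat_lit 66))
  (.leaf (nat_lit 461)))))
  (.node (.node (.node (.leaf (nat_lit 133250))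
  (.leaf (nat_lit 198)))
  (.node (.leaf (nat_lit 33))
  (.leaf (nat_lit 12299))))
  (.node (.node (.leaf (nat_lit 211733775425))
  (.leaf (nat_lit 329)))
  (.node (.leaf (nat_lit 3075))
  (.leaf (nat_lit 430)))))
def c3_N_2 : Tr := .node (.node (.node (.node (.leaf (nat_lit 99425))
  (.leaf (nat_lit 0)))
  (.leaf (nat_lit 4100)))
  (.node (.leaf (nat_lit 4399865959))
  (.leaf (nat_lit 298))))
  (.node (.node (.leaf (nat_lit 140797609025))
  (.leaf (nat_lit 263)))
  (.node (.leaf (nat_lit 66))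
  (.leaf (nat_lit 11276))))
def c3_N_3 : Tr := .node (.node (.node (.node (.leaf (nat_lit 165025))
  (.leaf (nat_lit 165)))
  (.node (.leaf (nat_lit 6578806951))
  (.leaf (nat_lit 9226))))
  (.node (.node (.leaf (nat_lit 209584194625))
  (.leaf (nat_lit 232)))
  (.node (.leaf (nat_lit 2050))
  (.leaf (nat_lit 461)))))
  (.node (.node (.node (.leaf (nat_lit 166050))
  (.leaf (nat_lit 6150)))
  (.node (.leaf (nat_lit 33))
  (.leaf (nat_lit 364))))
  (.node (.node (.leaf (nat_lit 106535))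
  (.leaf (nat_lit 329)))
  (.node (.leaf (nat_lit 132))
  (.leaf (nat_lit 13326)))))
def c3_N : Tr := .node (.node (.node c3_N_0
  (.node (.node (.node (.leaf (nat_lit 197825))
  (.leaf (nat_lit 5125)))
  (.node (.leaf (nat_lit 35692743))
  (.leaf (nat_lit 395))))
  (.node (.node (.leaf (nat_lit 176265692225))
  (.leaf (nat_lit 232)))
  (.node (.leaf (nat_lit 99))
  (.leaf (nat_lit 14349))))))
  c3_N_1)
  (.node (.node c3_N_2
  (.node (.node (.node (.leaf (nat_lit 100450))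
  (.leaf (nat_lit 198)))
  (.node (.leaf (nat_lit 7399))
  (.leaf (nat_lit 395))))
  (.node (.node (.leaf (nat_lit 210658985025))
  (.leaf (nat_lit 7176)))
  (.node (.leaf (nat_lit 99))
  (.leaf (nat_lit 430))))))
  c3_N_3)
noncomputable def c3 : TC :=
  ⟨[.l 0, .l 1, .l 2, .l 3, .l 4, .l 5, .l 6, .l 7, .l 8, .l 9, .l 10, .l 11, .l 12, .l 13, .l 14],
    (nat_lit 2), (nat_lit 7), (nat_lit 0x35cb62547418a418820), (nat_lit 127), (nat_lit 3), (nat_lit 6), (nat_lit 32), (nat_lit 1), (nat_lit 66),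
    get (nat_lit 10) (nat_lit 0x1003010030080400c02010030080400c02010030080400c02010030080400c02010030080400c02010030080400c02010030080400c0200c0601c0801c070100802008020080200401004010040100401008), Tr.get c3_N, get (nat_lit 20) (nat_lit 0x3ff003ff003ff003ff003ff003ff003ff003ff003ff003ff003ff003ff003ff003ff003ff003ff003ff003ff003ff003ff003ff003ff003ff003ff003ff003ff003ff003ff003ff003ff003ff003ff003ff003ff003ff003ff003ff003ff003ff003ff003ff003ff003ff003ff0001500014000130001200011000100000f0000e0000d0000c0000b0000a00009000080000700006000050000400003000020000100000),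
    Tr.get3 c3_F (nat_lit 14) (nat_lit 6), Tr.get3 c3_T (nat_lit 2) (nat_lit 8), Tr.get c3_P⟩

theorem c3_head : c3.headOK c3_rels iv1 = true := by decide +kernel

theorem c3_b0 : allFrom (nat_lit 0) (nat_lit 1) c3.blockOK = true := by decide +kernel

def c3_Q7 : Tr := .leaf (nat_lit 22530)
theorem c3_f7_0 : allFrom (nat_lit 0) (nat_lit 3) (c3.finOK (nat_lit 3) (Tr.get3 c3_Q7 (nat_lit 6) (nat_lit 7)) (nat_lit 7)) = true := by
  decide +kernel

def c3_Q6 : Tr := .leaf (nat_lit 148752)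
theorem c3_f6_0 : allFrom (nat_lit 0) (nat_lit 3) (c3.finOK (nat_lit 3) (Tr.get3 c3_Q6 (nat_lit 6) (nat_lit 7)) (nat_lit 6)) = true := by
  decide +kernel

def c3_Q5 : Tr := .leaf (nat_lit 165518)
theorem c3_f5_0 : allFrom (nat_lit 0) (nat_lit 3) (c3.finOK (nat_lit 3) (Tr.get3 c3_Q5 (nat_lit 6) (nat_lit 7)) (nat_lit 5)) = true := by
  decide +kernel

def c3_Q4 : Tr := .leaf (nat_lit 173836)
theorem c3_f4_0 : allFrom (nat_lit 0) (nat_lit 3) (c3.finOK (nat_lit 3) (Tr.get3 c3_Q4 (nat_lit 6) (nat_lit 7)) (nat_lit 4)) = true := by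
  decide +kernel

def c3_Q3 : Tr := .leaf (nat_lit 31498)
theorem c3_f3_0 : allFrom (nat_lit 0) (nat_lit 3) (c3.finOK (nat_lit 3) (Tr.get3 c3_Q3 (nat_lit 5) (nat_lit 7)) (nat_lit 3)) = true := by
  decide +kernel

def c3_Q2 : Tr := .leaf (nat_lit 157064)
theorem c3_f2_0 : allFrom (nat_lit 0) (nat_lit 3) (c3.finOK (nat_lit 3) (Tr.get3 c3_Q2 (nat_lit 6) (nat_lit 7)) (nat_lit 2)) = true := by
  decide +kernel

def c3_Q1 : Tr := .leaf (nat_lit 140422)
theorem c3_f1_0 : allFrom (nat_lit 0) (nat_lit 3) (c3.finOK (nat_lit 3) (Tr.get3 c3_Q1 (nat_lit 6) (nat_lit 7)) (nat_lit 1)) = true := by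
  decide +kernel

theorem c3_blocks : ∀ t < c3.k, c3.blockOK t = true :=
  (of_allFrom_append of_lt_zero c3_b0)

/-- index 3 max 3 total 3 facts 22 | needed cosets 3 facts 22 steps 65 trivial 0 -/
theorem c3_index {G : Type*} [Group G] {γ : ℕ → G} (hL : Lab γ iv1) (hr : ∀ t ∈ c3_rels, t.ev γ = 1) {K : Subgroup G}
    (hK : ∀ t ∈ ([.l 1, .l 2, .l 3, .l 4, .l 5, .l 6] : List W), t.ev γ ∈ K) :
    K.relIndex (genW γ [.l 1, .l 2, .l 3, .l 4, .l 5, .l 6, .l 7]) ≠ 0 ∧ K.relIndex (genW γ [.l 1, .l 2, .l 3, .l 4, .l 5, .l 6, .l 7]) ≤ 3 :=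
  TC.relIndex_le (D := c3) (gens := [1, 2, 3, 4, 5, 6, 7]) hL (List.forall_mem_cons.2 ⟨hL.zero_mem K, hK⟩) hr c3_head c3_blocks (by decide) (by decide)
   (List.forall_mem_cons.2 ⟨⟨_, (of_allFrom_append of_lt_zero c3_f1_0)⟩,
    List.forall_mem_cons.2 ⟨⟨_, (of_allFrom_append of_lt_zero c3_f2_0)⟩,
    List.forall_mem_cons.2 ⟨⟨_, (of_allFrom_append of_lt_zero c3_f3_0)⟩,
    List.forall_mem_cons.2 ⟨⟨_, (of_allFrom_append of_lt_zero c3_f4_0)⟩,
    List.forall_mem_cons.2 ⟨⟨_, (of_allFrom_append of_lt_zero c3_f5_0)⟩,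
    List.forall_mem_cons.2 ⟨⟨_, (of_allFrom_append of_lt_zero c3_f6_0)⟩,
    List.forall_mem_cons.2 ⟨⟨_, (of_allFrom_append of_lt_zero c3_f7_0)⟩,
    fun _ h => absurd h List.not_mem_nil⟩⟩⟩⟩⟩⟩⟩)

/-- relators -/
def c4_rels : List W := [.pow (.mul (.l 1) (.l 2)) 4, .pow (.mul (.l 1) (.l 3)) 2, .pow (.mul (.l 1) (.l 4)) 2, .pow (.mul (.l 1) (.l 5)) 2, .pow (.mul (.l 1) (.l 6)) 2, .pow (.mul (.l 2) (.l 3)) 2, .pow (.mul (.l 2) (.l 4)) 2, .pow (.mul (.l 2) (.l 5)) 2, .pow (.mul (.l 2) (.l 6)) 2, .mul (.pow (.mul (.l 1) (.l 2)) 2) (.pow (.mul (.l 3) (.l 4)) 2), .mul (.pow (.mul (.l 1) (.l 2)) 2) (.pow (.mul (.l 3) (.l 5)) 2), .mul (.pow (.mul (.l 1) (.l 2)) 2) (.pow (.mul (.l 3) (.l 6)) 2), .mul (.pow (.mul (.l 1) (.l 2)) 2) (.pow (.mul (.l 4) (.l 5)) 2), .mul (.pow (.mul (.l 1) (.l 2)) 2) (.pow (.mul (.l 4) (.l 6)) 2), .mul (.pow (.mul (.l 1) (.l 2)) 2) (.pow (.mul (.l 5) (.l 6)) 2)]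
def c4_F : Tr := .leaf (nat_lit 0xcd467d23691f46dc37d13889f42fc17d2b615f08d647c1b78df04e027c0bf85f0cba67a23091e86ce37a13f09e82e017a2af15ec8c847b1b30dec4fe27b0b885ecce867f23b91fc6f037f2bb15f88ea47e1bc8df8c8067022211c06943702a095c488e4711a48dc4c7466f21f11bc49426f0bc05bcc4c66621511984f02660a48598a7a56e21d91b849226e0bc85b8a4e567216919c4f22670a5059cc7266d19f0db448e26d0ba85b4c6c66c19e8db048c26c0b985b0c466611950d844ea2610a20584c4465e1938d784e625e0a08578aea559239916426a159317996464235929e15ac67636b12209ac2ee16b29b15a867436a12189a82e416a292159065a36413b899028e164291157464c35d139097428015d21e11a467036912089a42ec16921c91a066e36812009a02e8168212118c65836313b098c28c163211918065236013a098028616033b9958a5e556239115845025609a0558cae67922d91e4c2a64920c9124ab457822c11e0cec6532ba154c85e453112894c26615328b152883844a1ad8ddc6b43763091910632344308990462c341290956c45a25b09d856c6b03751ab8dd0a2654718e0d1ca2254018a8d0084245a116096827015a210115c45225709b855c6aa3731aa0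dc882644618d8d1882444318c0d0ca545622139188648362119098828a16231e1930a7254c21b113049024c08f0530c426070a78484c1462a115096027c15802c0214c7c64e29f144043823e10c88eca8a519304989c44e25509e85540aa08431e993487a41010d88f442c2382229058a4c509113095027415404181508be42629d153487440f10c08e842a237221105465e30c08684bcc106241120948278152029020867831010d08f046a213122893cc96645291942044625109c85441020511af8c8c67230f10b88e44242341a10c48844408111094026c15004001406b832219b0c3842823610888cc67e3112a794ec4be2310a1057c25a11c28594b489e438096046c81642c22710dc4b823009f857025211820510a4c3a64f095846861632b127090829c12028e95382501171850ca049a23f0a6847c83a44d0a4059424a1141848c94264110103084026210f102883c26010e102083840620d1050880a645582831470864455203106c41221f218915080a41830618c860c31a28614c460a31710408788184301820c504002023001818a0050520010106003032be95a4cf86682bd158ccf66602bf95cccfc6722b81518ce26432b794e0acc52c33718dccce6292b694d48d84352b094ac8bc42b12c88accd663423510d0cc8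62822e90a0cd26332b414cccc66252b014946ac3202bc9554a9251b33c19506a631f3251860aee55223b1148a8851a2209068cb663133a99448e8451323985c88041732d18c0aae5303399940ae45503231850a8651433118b869831d110882c27c18514288a825411930c981427a184142089c24e11630b1810274183141889824c11528a941045e26509e0608504224092044c68a313309980c272181140888c246112289140c26c1801400888244111208900cc7660f316997cabe52e31c1838c5865c29b9438a5255c22e10b869e33531a9834c566651a70cd0a6850d294159469a333219903484a4651b28cb8c20602287940881c4021868c08cb0620290141cc386422a1152ccaa61f30d98fcaa851f20f901ca3053f21f912c6643523291878c346481988d44aa251e28b9520660350228107863c30720a112069034b081043041822e097052c49621d08e841c40e201083042cc166010828428a14501082042481240108184206103010808400000000)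
def c4_T : Tr := .leaf (nat_lit 0x534f4b46413d8180858482836b69666561605b5a7e7f7d7b79787473706f7a7c29726e57776d38767133625d75245c6c201e68191613322f2c560c676a105f5944645821635e1b5450473a4c4237353e312e2b1a1714480d39363052342d4e4a2a45403c55231d120b221f18511c154d4911433f3b282726250e080604020a090705030f0100)
def c4_P : Tr := .node (.node (.node (.node (.leaf (nat_lit 0xe81752000008581584a454030541700e091554408800009170294200001150520741f454030240302450079220000414115448000204e0791e00003139154400001c4c079180000213115438000184a4550c00005118140340001c4811814009140792200c0e11042060160500244803038400e814009140792200c0d0f8360601605002448030343a05009000060f03a050024501e47803030380d818058140091000c0c0d03209014009140780382c3008018058140091200c0b0b82c0901400914078038282a08018058140091000c0a09014014000142809824050024501e00e09088200601605002438030241e0701a06016050020020004810008008100e03002002030280800800808060100200201))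
  (.leaf (nat_lit 0x7fc007fc007fc007fc007fc007fc007fc007fc007fc007fc007fc007fc007fc007fc007fc007fc007fc007fc007fd0a9dea6aa6b6af69200a0e42a7b68d5b3aea13cc030310a9e5c9275d474ed400c0a42a77ba80001d0a9d6f600003420de5ec7961985af003039089cd8f5465494ce900c0d422716d495709c1b900302d089bef0000084226dbf0000110699e749dea6ab68200a0e41a6b6a9a968d5b3bc03031069a616855c9276cc00c0a)))
  (.leaf (nat_lit 0x3512b4f9417e9f976003030d20f12902d364e4bb00c0e349275d57355d5412403034d04a40b4d9392ee3400a0b3412902d364e4b988802828d04a40b4d939465b100a093412950800014d052c5800001338385354a4a40b26c03038ce4953a4f5755cc4500c0d330357e9f9679ea8a803028ca0d5fa7e59e7aa1800c09321a26a1ab228861fc02838c84853e505fa7e5d800c0a319a26a1ab228861dc02834c64853e505fa7e5c600c093111f0701a060167b403038c45d473000083113c1d400010c20bd755cd575504900c0b3002f5d57355d5484803024be0a9f07bd1b01c8700c0e2f91d4e93d5d5731140302cbc63996664801f87700a0c2f11d4e93d5d5736c803024ba4641c06818059ed00c0d2e9651b400020ba4e06f000042e1190701a0601611c03030b859469000072e1381ac0000cb60a56558d4d5284100c0b)))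
  (.node (.leaf (nat_lit 0xa02789c2690f4492a0060d5b59f718000189a43d140781c0699c00c0d0201505c1906c716f002831bf2580004dbf26400041275d5bc25e0001897265b758468198710080c530396d80081d3b491b600206260962509243d104900183167559b2000062490f4501e0701a10c030301f12dae002012414708d1743d0c4d001025aa0c91b002086988c000136988f0001023da450434802014fd20688008148e2308a2190d449200060b2259e190000155d0659c0000822086435140781c0680382c04054170641b1c59200a0a654820001365485000100bd75648838000520c8563d51168521c4020293b4718e00205210822007e43510470018285f5598a00005))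
  (.leaf (nat_lit 0x3d15f4c955559721cc03034f484250000083d16033c00010f26808b6a9a97d9f500a0e3c86567df87ed4077c03028f268220000073caa0a940000cf06808b6a9a97d9f300a0d3c06567df87ed4073403024f068208000063c2a0a8c00008ee3aea16808b6b59b00a0e3b9592adeb67df880403028ee3aea5000073b95a3240000cec3aea16808b6b58900a0d3b1592adeb67df87fc03024ec3aea3000063b15a31c00008ea569a26a0320b4c30080e3a95a689a80c8272dc02034ea569a26a1ab229a1000003a86024400820ea564ab002053a05c4d406469ee7dc03038e817d565c9744f07500c0b3a18d8c800020e894a5b000043998d2059865df47cc02830e617d565c9744f1b900c093998d81000018e694a5700002))))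
  (.node (.node (.leaf (nat_lit 0x7e435140781c0684300c0a0101505c1906c6760002825831e80004d831f40004029595801ee000147b1f57d5145414867008094dd165f0008147c1e8781d90d43916006091654c5e00001476435140781c0683700c091d04e4540305417570030393c4ec0e4c95555972002001cd6f0400d4c955558000392f0496e000031c8700741f45403044030386e1311500c1505d5c00c0d4ac125a0000086c1981d07d1500c1100c0d1a84c454030541754803031384dc0a4a14b53162002001a55f030094a14b53000031250395e000021a0660741f4540303403030641884a454030541700e0b4841256000004601481d07d1500c1100c0b108185480001c4605d52000031785c1291500c1505c038291d0394e00001168520741f4540303403028360614800006))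
  (.leaf (nat_lit 0x3905a245af4d4066b003038e453d32555565c87300c0b3925496c00020e4540bf0000438a5494d8d2059a62402830e253d32555565c9bc00c0938a5495c00018e2540bd00002380564d406469ee7dc03034e01654c589644e06f00c0b3817b8b800020e08f24500004378564d406469ee7d403030de1654c589644e06b00c0a3797b8700001cde8f2430000337054245af4d4066b003034dc50d2852d4c5886d00c0b3723e91400020dc510b30000436854245af4d40666c03030da50d2852d4c5886900c0a36a3e90c0001cda510b1000033613303d3a4f4c58d80282cd84cc0f4e93d47db100a0a3613303d3a4f52682802824d84cd4e000053615517800004d67549c722142e8b900a0e3592d7e9f9679ea8a803030d4729d27549c2689300a0e)))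
  (.node (.leaf (nat_lit 0x2d029595635354a0f403028b2089f07bd1b01c8700c0d2c9174d939595630fc0302cb0089f07bd1b01c7f00c0c2c1174d939595630e403028ae1c5744f13b039e800c0e2b867591384dc0a75803034ae14c916bd35019ac00c0b2b81d48800020ae0699c000042b01906c1d07c516940282cac0641b0741f13d9100a0a2b01906c1d07c4d5fc02824ac06421000052b0160940000417571ea002042a81344d0c21c896780102de61213300208788a600013788a9000102a5e0550498020455845770008213f4b9dc002072a0a6290a2445124b8018397767dd800007289114501e0701a67003039d410129002087409e00013740a100010285ce52841802045303f728008213f4a9ca00206))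
  (.leaf (nat_lit 0x41a67bd80001d06994ff00003410da8fa3d5ec79ab0030390498d9865d8f544e500c0d412618420f6d495b700302d0497efc000084125d3f40001102aa2a79da759124300a0e40aa23a95a689a83340303102835d5271c88524800c0a400b461c785ea3c914030390095a555418e658c300c0d4020b70c946d20e9400302cfeae2b7aa2a78be1c00a0e3fa09686a03a95a32403030fe81dca749d52723a00c0a3f0b05f18461c788b803038fc8158c94a55540bf00c0d3f2036d9c070c949300302cfa7249d751d3739bb00a0e3e96d67df87ed4077c03030fa7263a000073ea149200000cf885a157249d75dc500a0e3e1692adeb67df880403030f885a48000073e16a3540000cf61a9370292852dcf00c0e3d967559725d13c1d403034f66d64c000083da0e94000010f41a1644e137029d600c0e))))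
def c4_N_0 : Tr := .node (.node (.node (.node (.leaf (nat_lit 69861442625))
  (.leaf (nat_lit 6150)))
  (.node (.leaf (nat_lit 33))
  (.leaf (nat_lit 364))))
  (.node (.node (.leaf (nat_lit 198850))
  (.leaf (nat_lit 329)))
  (.node (.leaf (nat_lit 132))
  (.leaf (nat_lit 13326)))))
  (.node (.node (.node (.leaf (nat_lit 197825))
  (.leaf (nat_lit 232)))
  (.node (.leaf (nat_lit 2050))
  (.leaf (nat_lit 461))))
  (.node (.node (.leaf (nat_lit 176265692225))
  (.leaf (nat_lit 9226)))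
  (.leaf (nat_lit 165))))
def c4_N_1 : Tr := .node (.node (.node (.node (.leaf (nat_lit 132225))
  (.leaf (nat_lit 263)))
  (.node (.leaf (nat_lit 66))
  (.leaf (nat_lit 11276))))
  (.node (.node (.leaf (nat_lit 175190901825))
  (.leaf (nat_lit 298)))
  (.node (.leaf (nat_lit 4100))
  (.leaf (nat_lit 0)))))
  (.node (.node (.node (.leaf (nat_lit 133250))
  (.leaf (nat_lit 7176)))
  (.node (.leaf (nat_lit 99))
  (.leaf (nat_lit 430))))
  (.node (.node (.leaf (nat_lit 211733775425))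
  (.leaf (nat_lit 395)))
  (.leaf (nat_lit 198))))
def c4_N_2 : Tr := .node (.node (.node (.node (.leaf (nat_lit 99425))
  (.leaf (nat_lit 263)))
  (.node (.leaf (nat_lit 1025))
  (.leaf (nat_lit 364))))
  (.node (.node (.leaf (nat_lit 140797609025))
  (.leaf (nat_lit 10249)))
  (.node (.leaf (nat_lit 132))
  (.leaf (nat_lit 0)))))
  (.node (.node (.node (.leaf (nat_lit 100450))
  (.leaf (nat_lit 232)))
  (.node (.leaf (nat_lit 99))
  (.leaf (nat_lit 14349))))
  (.node (.node (.leaf (nat_lit 210658985025))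
  (.leaf (nat_lit 395)))
  (.leaf (nat_lit 5125))))
def c4_N_3 : Tr := .node (.node (.node (.node (.leaf (nat_lit 165025))
  (.leaf (nat_lit 8199)))
  (.node (.leaf (nat_lit 66))
  (.leaf (nat_lit 461))))
  (.node (.node (.leaf (nat_lit 209584194625))
  (.leaf (nat_lit 298)))
  (.leaf (nat_lit 165))))
  (.node (.node (.node (.leaf (nat_lit 166050))
  (.leaf (nat_lit 329)))
  (.node (.leaf (nat_lit 3075))
  (.leaf (nat_lit 430))))
  (.node (.node (.leaf (nat_lit 33))
  (.leaf (nat_lit 12299)))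
  (.leaf (nat_lit 198))))
def c4_N : Tr := .node (.node c4_N_0
  c4_N_1)
  (.node c4_N_2
  c4_N_3)
noncomputable def c4 : TC :=
  ⟨[.l 0, .l 1, .l 2, .l 3, .l 4, .l 5, .l 6, .l 7, .l 8, .l 9, .l 10, .l 11, .l 12, .l 13, .l 14],
    (nat_lit 8), (nat_lit 10), (nat_lit 0x35cb62547418a418820), (nat_lit 1), (nat_lit 134), (nat_lit 0), (nat_lit 32), (nat_lit 9), (nat_lit 59),
    get (nat_lit 10) (nat_lit 0x400c0400c02010030080400c02010030080400c02010030080400c02010030080400c02010030080400c02010030080400c02010030080802008020080200401004010040100401008), Tr.get c4_N, get (nat_lit 20) (nat_lit 0x3ff003ff003ff003ff003ff003ff003ff003ff003ff003ff003ff003ff003ff003ff003ff003ff003ff003ff003ff003ff003ff003ff003ff003ff003ff003ff003ff003ff003ff003ff003ff003ff003ff003ff003ff003ff003ff003ff003ff003ff003ff003ff003ff003ff0000e0000d0000c0000b0000a00009000080000700006000050000400003000020000100000),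
    Tr.get3 c4_F (nat_lit 26) (nat_lit 5), Tr.get3 c4_T (nat_lit 8) (nat_lit 6), Tr.get c4_P⟩

theorem c4_head : c4.headOK c4_rels iv1 = true := by decide +kernel

theorem c4_b0 : allFrom (nat_lit 0) (nat_lit 9) c4.blockOK = true := by decide +kernel

def c4_Q6 : Tr := .leaf (nat_lit 0xbf101c910941710940d396e4530efd2dd003f6f0b90f7b12bc3a725385083d6dc180e5374afad1041caacc446c314bba78499465a104d291033308b6571e0739f6674cf930302fcb3672323f0448baf10f9e173df71d6e5b146f3dabd18ce838122310baa7cae1cc6d185e83d0e475add371acad6ad7b44810032574450fc3128cce2f89b934b221e338bc511d06e18923045e975dad7b1122889a2185004113)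
theorem c4_f6_0 : allFrom (nat_lit 0) (nat_lit 128) (c4.finOK (nat_lit 128) (Tr.get3 c4_Q6 (nat_lit 10) (nat_lit 6)) (nat_lit 6)) = true := by
  decide +kernel

def c4_Q5 : Tr := .leaf (nat_lit 0x40ef642f1ac190735e48336f7a9643408b5ba8ff3eed43cf1ba6a92428dfb30f916a8a41a003bcdb1c707a08688aa49a91302e6583583d908cc0b4b45dd526e9f410a3a3542a880fe764c92c443bae1c0e1dfb569b5d9bb7d4fa1ae933c85d37931478b8964705b8f83ba011a45bb35c536a8b66e838ac470f02c54d2e350c8760390ae3b24cb08847f875de13c6a1711f5bc0d7119a1192f440921f84e03111)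
theorem c4_f5_0 : allFrom (nat_lit 0) (nat_lit 128) (c4.finOK (nat_lit 128) (Tr.get3 c4_Q5 (nat_lit 10) (nat_lit 6)) (nat_lit 5)) = true := by
  decide +kernel

def c4_Q4 : Tr := .leaf (nat_lit 0xbeaf4c8b18c130e93a46beccbbd4c1a8e57ba2eeb8ad2c8cf1c64e79ea72b2ada153059a9fec3e626f4ed38c6793e18a8a4784a564b126900ca300275b567521f20da3892822ba60871eef811b331cbd0dee37367bb4db99cd6c599f33c0e615d2d49d1890466b2d683b2db578e27fdbc1566b98d89866130ec26526394a8c692d242f1c66c823826051ddcc6e04d159195a55f025880e92b4950e1d84c0210f)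
theorem c4_f4_0 : allFrom (nat_lit 0) (nat_lit 128) (c4.finOK (nat_lit 128) (Tr.get3 c4_Q4 (nat_lit 10) (nat_lit 6)) (nat_lit 4)) = true := by
  decide +kernel

def c4_Q3 : Tr := .leaf (nat_lit 0xbe2f2c8316c0b0cbcef98da34892228320ab9aecc5f21b0abaa62909e270c370314e889a1fcaca6064eaaa01818de35a722588cd98360b344340b8281945f164ad082edb9c2187a06226308098b8b21a5e6c3aeda5a6691646799c57f1905e160350bc296c452a2669562b39854eaae81509fd64980a74d8340252b21f81d208c6034722d86d162218a5e1a46417e12db05654f50c0509121475174304a0110d)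
theorem c4_f3_0 : allFrom (nat_lit 0) (nat_lit 128) (c4.finOK (nat_lit 128) (Tr.get3 c4_Q3 (nat_lit 10) (nat_lit 6)) (nat_lit 3)) = true := by
  decide +kernel

def c4_Q2 : Tr := .leaf (nat_lit 0xc070bc7b14c030ab26d9a1e67ac65faa67fc7f15b82d0b02b8a5a8e9da6eb22d824286999faac25e5d6a89f9658a2163ade684254751c28f9aa6618667957535f0066e1b45f1b06b967e97a3d569de6f531dc729a2769b6639c86d17c6858c5e9fb5d1642441c8a6173a9e784655755c38fdab665872ad324a11a061dd72da376db763dc96d57d6818d5ed3e4e9364d01d2a9334a51b0553f4ed374d51405115)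
theorem c4_f2_0 : allFrom (nat_lit 0) (nat_lit 128) (c4.finOK (nat_lit 128) (Tr.get3 c4_Q2 (nat_lit 10) (nat_lit 6)) (nat_lit 2)) = true := by
  decide +kernel

def c4_Q1 : Tr := .leaf (nat_lit 0xc4f1dc7312bfb08b3edfa5675afe6dade8dbff09b7aceafab6a528c9d26cb1ad651a84991f8aba5c5caa69f16289a14a81e483a52749c08f1a8659847ad5552dee06ac7b5d47a16657e6af97573a9e7d58de574da989dc165e1583d85a86538f5414f5396b81b5c56b56ca558551274955148b204797a954529ef05d705a95a291605409c25144228801e1404f1386bc1e0480e028060581303c0b01c1f00c02)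
theorem c4_f1_0 : allFrom (nat_lit 0) (nat_lit 128) (c4.finOK (nat_lit 128) (Tr.get3 c4_Q1 (nat_lit 10) (nat_lit 6)) (nat_lit 1)) = true := by
  decide +kernel

theorem c4_blocks : ∀ t < c4.k, c4.blockOK t = true :=
  (of_allFrom_append of_lt_zero c4_b0)

/-- index 128 max 128 total 134 facts 403 | needed cosets 134 facts 403 steps 1397 trivial 12 -/
theorem c4_index {G : Type*} [Group G] {γ : ℕ → G} (hL : Lab γ iv1) (hr : ∀ t ∈ c4_rels, t.ev γ = 1) {K : Subgroup G}
    (hK : ∀ t ∈ ([] : List W), t.ev γ ∈ K) :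
    K.relIndex (genW γ [.l 1, .l 2, .l 3, .l 4, .l 5, .l 6]) ≠ 0 ∧ K.relIndex (genW γ [.l 1, .l 2, .l 3, .l 4, .l 5, .l 6]) ≤ 128 :=
  TC.relIndex_le (D := c4) (gens := [1, 2, 3, 4, 5, 6]) hL (List.forall_mem_cons.2 ⟨hL.zero_mem K, hK⟩) hr c4_head c4_blocks (by decide) (by decide)
   (List.forall_mem_cons.2 ⟨⟨_, (of_allFrom_append of_lt_zero c4_f1_0)⟩,
    List.forall_mem_cons.2 ⟨⟨_, (of_allFrom_append of_lt_zero c4_f2_0)⟩,
    List.forall_mem_cons.2 ⟨⟨_, (of_allFrom_append of_lt_zero c4_f3_0)⟩,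
    List.forall_mem_cons.2 ⟨⟨_, (of_allFrom_append of_lt_zero c4_f4_0)⟩,
    List.forall_mem_cons.2 ⟨⟨_, (of_allFrom_append of_lt_zero c4_f5_0)⟩,
    List.forall_mem_cons.2 ⟨⟨_, (of_allFrom_append of_lt_zero c4_f6_0)⟩,
    fun _ h => absurd h List.not_mem_nil⟩⟩⟩⟩⟩⟩)

theorem card_H {G : Type*} [Group G] {γ : ℕ → G} (hL : Lab γ iv1) (hr : ∀ t ∈ rel1, t.ev γ = 1) :
    Nat.card (genW γ (au.ws 0)) ≠ 0 ∧ Nat.card (genW γ (au.ws 0)) ≤ 40 * (27 * (8 * (3 * (128 * (1))))) :=
  (card_le_of_relIndex (K := genW γ [.l 1, .l 2, .l 3, .l 4, .l 5, .l 6, .l 7, .l 9, .l 11]) (genW_mono _ (subset_of_all_isIn (by decide)))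
    (c0_index hL (rels_of_isIn hr (by decide +kernel)) fun _ => mem_genW γ)
    (card_le_of_relIndex (K := genW γ [.l 1, .l 2, .l 3, .l 4, .l 5, .l 6, .l 7, .l 9]) (genW_mono _ (subset_of_all_isIn (by decide)))
    (c1_index hL (rels_of_isIn hr (by decide +kernel)) fun _ => mem_genW γ)
    (card_le_of_relIndex (K := genW γ [.l 1, .l 2, .l 3, .l 4, .l 5, .l 6, .l 7]) (genW_mono _ (subset_of_all_isIn (by decide)))
    (c2_index hL (rels_of_isIn hr (by decide +kernel)) fun _ => mem_genW γ)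
    (card_le_of_relIndex (K := genW γ [.l 1, .l 2, .l 3, .l 4, .l 5, .l 6]) (genW_mono _ (subset_of_all_isIn (by decide)))
    (c3_index hL (rels_of_isIn hr (by decide +kernel)) fun _ => mem_genW γ)
    (card_le_of_relIndex bot_le (c4_index hL (rels_of_isIn hr (by decide +kernel)) (by simp)) card_bot_le)))))

def t0_F : Tr := .leaf (nat_lit 0xbcbc9c9c1414aba41c1c1a1aaaa10b0bb3b38a8a828212129a9a7a7aa9a2090989898181797919199191a8a0989890908888808078781818101008080c0a1311bab8b1b00000)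
def t0_T : Tr := .leaf (nat_lit 18056)
def t0_P : Tr := .leaf (nat_lit 0x3fe003fe003fe003fe003fe003fe003fe003fe003fe003fe003fefda3e0007b790042f5a240186043850bc48012008521c0087443b120000ea4f076e193a800c460edc32750010801909f427d09f427d3870120f0c086830e004f4c14a4500043ea51280003e529940021ea938a0000854a0500003c10d830027b388111c4071220388901c4481221460002c08a8300079044c18003c02220c001dc11706000ec0878300476)
def t0_N_0 : Tr := .node (.node (.node (.node (.leaf (nat_lit 553139727))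
  (.leaf (nat_lit 66)))
  (.node (.leaf (nat_lit 692126785))
  (.leaf (nat_lit 23575))))
  (.node (.node (.leaf (nat_lit 0x1f2a49f2ac9f2ac841))
  (.leaf (nat_lit 461)))
  (.leaf (nat_lit 2183759459))))
  (.node (.node (.node (.leaf (nat_lit 0x1f183e2f1be2f8c1e3))
  (.leaf (nat_lit 8199)))
  (.leaf (nat_lit 724651649)))
  (.node (.node (.leaf (nat_lit 523324898))
  (.leaf (nat_lit 594)))
  (.leaf (nat_lit 37163666003))))
def t0_N_1 : Tr := .node (.node (.node (.node (.leaf (nat_lit 80975))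
  (.leaf (nat_lit 165)))
  (.leaf (nat_lit 741589273218)))
  (.node (.node (.leaf (nat_lit 636275408399))
  (.leaf (nat_lit 15375)))
  (.leaf (nat_lit 53755334227))))
  (.node (.node (.node (.leaf (nat_lit 2786692161))
  (.leaf (nat_lit 298)))
  (.leaf (nat_lit 691169342325825)))
  (.node (.node (.leaf (nat_lit 672818857025))
  (.leaf (nat_lit 661)))
  (.leaf (nat_lit 738000))))
def t0_N_2 : Tr := .node (.node (.node (.node (.leaf (nat_lit 527875))
  (.leaf (nat_lit 3075)))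
  (.leaf (nat_lit 22097253936)))
  (.node (.node (.leaf (nat_lit 591425))
  (.leaf (nat_lit 430)))
  (.leaf (nat_lit 1730203203))))
  (.node (.node (.node (.leaf (nat_lit 20326455429601))
  (.leaf (nat_lit 329)))
  (.leaf (nat_lit 676108239937)))
  (.node (.node (.leaf (nat_lit 669581426274))
  (.leaf (nat_lit 19475)))
  (.leaf (nat_lit 1169911564899))))
def t0_N_3 : Tr := .node (.node (.node (.node (.leaf (nat_lit 83025))
  (.leaf (nat_lit 198)))
  (.leaf (nat_lit 2905632050241)))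
  (.node (.node (.leaf (nat_lit 626275))
  (.leaf (nat_lit 561)))
  (.leaf (nat_lit 37146397267))))
  (.node (.node (.node (.leaf (nat_lit 0x9c9f3941f284df29be0f))
  (.leaf (nat_lit 12299)))
  (.leaf (nat_lit 638682723)))
  (.node (.node (.leaf (nat_lit 685565988585058))
  (.leaf (nat_lit 726)))
  (.leaf (nat_lit 33))))
def t0_N_4 : Tr := .node (.node (.node (.node (.leaf (nat_lit 615227808333359))
  (.leaf (nat_lit 99)))
  (.node (.leaf (nat_lit 626086465))
  (.leaf (nat_lit 0))))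
  (.node (.node (.leaf (nat_lit 593475))
  (.leaf (nat_lit 14349)))
  (.leaf (nat_lit 2201028195))))
  (.node (.node (.node (.leaf (nat_lit 606800))
  (.leaf (nat_lit 232)))
  (.leaf (nat_lit 21090717232)))
  (.node (.node (.leaf (nat_lit 566502211074))
  (.leaf (nat_lit 627)))
  (.leaf (nat_lit 54814362675))))
def t0_N_5 : Tr := .node (.node (.node (.node (.leaf (nat_lit 82000))
  (.leaf (nat_lit 5125)))
  (.leaf (nat_lit 741603953296)))
  (.node (.node (.leaf (nat_lit 600827313697))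
  (.leaf (nat_lit 528)))
  (.leaf (nat_lit 53755873875))))
  (.node (.node (.node (.leaf (nat_lit 0x4de37cde378441))
  (.leaf (nat_lit 395)))
  (.leaf (nat_lit 51250)))
  (.node (.node (.leaf (nat_lit 687763430587919))
  (.leaf (nat_lit 20501)))
  (.leaf (nat_lit 741018306))))
def t0_N_6 : Tr := .node (.node (.node (.node (.leaf (nat_lit 68675))
  (.leaf (nat_lit 132)))
  (.leaf (nat_lit 691123848257)))
  (.node (.node (.leaf (nat_lit 522242529))
  (.leaf (nat_lit 495)))
  (.leaf (nat_lit 36543483475))))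
  (.node (.node (.node (.leaf (nat_lit 0x24f849f28be507ca0f8be01))
  (.leaf (nat_lit 10249)))
  (.leaf (nat_lit 2873422875713)))
  (.node (.node (.leaf (nat_lit 624479825))
  (.leaf (nat_lit 692)))
  (.leaf (nat_lit 740035))))
def t0_N_7 : Tr := .node (.node (.node (.node (.leaf (nat_lit 36542908450))
  (.leaf (nat_lit 263)))
  (.leaf (nat_lit 708242)))
  (.node (.node (.leaf (nat_lit 625250))
  (.leaf (nat_lit 17425)))
  (.leaf (nat_lit 70417156691))))
  (.node (.node (.node (.leaf (nat_lit 704143))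
  (.leaf (nat_lit 364)))
  (.leaf (nat_lit 1697696355)))
  (.node (.node (.leaf (nat_lit 705168))
  (.leaf (nat_lit 759)))
  (.leaf (nat_lit 1025))))
def t0_N_8 : Tr := .node (.node (.node (.node (.leaf (nat_lit 574000))
  (.leaf (nat_lit 2050)))
  (.node (.leaf (nat_lit 726729793))
  (.leaf (nat_lit 0))))
  (.node (.node (.leaf (nat_lit 707219))
  (.leaf (nat_lit 461)))
  (.leaf (nat_lit 1698236003))))
  (.node (.node (.node (.leaf (nat_lit 0x45e38be237c46f88de3))
  (.leaf (nat_lit 232)))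
  (.leaf (nat_lit 659052144)))
  (.node (.node (.leaf (nat_lit 670668701199))
  (.leaf (nat_lit 18450)))
  (.leaf (nat_lit 54846851667))))
def t0_N_9 : Tr := .node (.node (.node (.node (.leaf (nat_lit 48175))
  (.leaf (nat_lit 165)))
  (.leaf (nat_lit 741590321795)))
  (.node (.node (.leaf (nat_lit 566467575297))
  (.leaf (nat_lit 528)))
  (.leaf (nat_lit 55384788563))))
  (.node (.node (.node (.leaf (nat_lit 21427041848802))
  (.leaf (nat_lit 9226)))
  (.leaf (nat_lit 85075)))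
  (.node (.node (.leaf (nat_lit 2868014320705))
  (.leaf (nat_lit 661)))
  (.leaf (nat_lit 739025))))
def t0_N_10 : Tr := .node (.node (.node (.node (.leaf (nat_lit 560675))
  (.leaf (nat_lit 132)))
  (.leaf (nat_lit 20050495056)))
  (.node (.node (.leaf (nat_lit 589842992))
  (.leaf (nat_lit 13326)))
  (.leaf (nat_lit 1159792195))))
  (.node (.node (.node (.leaf (nat_lit 0x49e37c86f1bc61))
  (.leaf (nat_lit 329)))
  (.leaf (nat_lit 738300903041)))
  (.node (.node (.leaf (nat_lit 624447056))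
  (.leaf (nat_lit 692)))
  (.leaf (nat_lit 2252779145827))))
def t0_N_11 : Tr := .node (.node (.node (.node (.leaf (nat_lit 50225))
  (.leaf (nat_lit 6150)))
  (.leaf (nat_lit 723601765499969)))
  (.node (.node (.leaf (nat_lit 640625))
  (.leaf (nat_lit 561)))
  (.leaf (nat_lit 54829582931))))
  (.node (.node (.node (.leaf (nat_lit 690817))
  (.leaf (nat_lit 364)))
  (.leaf (nat_lit 2803976803)))
  (.node (.node (.leaf (nat_lit 658081))
  (.leaf (nat_lit 22550)))
  (.leaf (nat_lit 33))))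
def t0_N_12 : Tr := .node (.node (.node (.node (.leaf (nat_lit 0x45f08be117c22f845f0))
  (.leaf (nat_lit 99)))
  (.leaf (nat_lit 626545232)))
  (.node (.node (.leaf (nat_lit 607825))
  (.leaf (nat_lit 430)))
  (.leaf (nat_lit 1712934467))))
  (.node (.node (.node (.leaf (nat_lit 18958434))
  (.leaf (nat_lit 7176)))
  (.leaf (nat_lit 675000943681)))
  (.node (.node (.leaf (nat_lit 600861949474))
  (.leaf (nat_lit 627)))
  (.leaf (nat_lit 36560734259))))
def t0_N_13 : Tr := .node (.node (.node (.node (.leaf (nat_lit 49200))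
  (.leaf (nat_lit 198)))
  (.leaf (nat_lit 741605001873)))
  (.node (.node (.leaf (nat_lit 635187052097))
  (.leaf (nat_lit 16400)))
  (.leaf (nat_lit 619617815123))))
  (.node (.node (.node (.leaf (nat_lit 0x117c26f84df38be707ce0f))
  (.leaf (nat_lit 395)))
  (.leaf (nat_lit 2689603)))
  (.node (.node (.leaf (nat_lit 616262396264994))
  (.leaf (nat_lit 726)))
  (.leaf (nat_lit 711319))))
def t0_N_14 : Tr := .node (.node (.node (.node (.leaf (nat_lit 35875))
  (.leaf (nat_lit 4100)))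
  (.leaf (nat_lit 535430842849)))
  (.node (.node (.leaf (nat_lit 19833276514))
  (.leaf (nat_lit 495)))
  (.leaf (nat_lit 69861985875))))
  (.node (.node (.node (.leaf (nat_lit 639600))
  (.leaf (nat_lit 298)))
  (.leaf (nat_lit 690619570783297)))
  (.node (.node (.leaf (nat_lit 604097858096))
  (.leaf (nat_lit 21524)))
  (.leaf (nat_lit 736975))))
def t0_N_15 : Tr := .node (.node (.node (.node (.leaf (nat_lit 0x882278de378de3))
  (.leaf (nat_lit 263)))
  (.leaf (nat_lit 675506)))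
  (.node (.node (.leaf (nat_lit 590892592))
  (.leaf (nat_lit 594)))
  (.leaf (nat_lit 88100342355))))
  (.node (.node (.node (.leaf (nat_lit 22598192))
  (.leaf (nat_lit 11276)))
  (.leaf (nat_lit 1160809059)))
  (.node (.node (.leaf (nat_lit 21550640))
  (.leaf (nat_lit 759)))
  (.leaf (nat_lit 66))))
def t0_N : Tr := .node (.node (.node (.node t0_N_0
  t0_N_1)
  (.node t0_N_2
  t0_N_3))
  (.node (.node t0_N_4
  t0_N_5)
  (.node t0_N_6
  t0_N_7)))
  (.node (.node (.node t0_N_8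
  t0_N_9)
  (.node t0_N_10
  t0_N_11))
  (.node (.node t0_N_12
  t0_N_13)
  (.node t0_N_14
  t0_N_15)))
noncomputable def t0 : TC :=
  ⟨[.l 0, .l 1, .l 2, .l 3, .l 4, .l 5, .l 6, .l 7, .l 8, .l 9, .l 10, .l 11, .l 12, .l 13, .l 14, .l 15, .l 16, .l 17, .l 18, .l 19, .l 20, .l 21, .l 22, .l 23],
    (nat_lit 3), (nat_lit 7), (nat_lit 0xbda959ca307b5cb62547418a418820), (nat_lit 2064399), (nat_lit 5), (nat_lit 9), (nat_lit 32), (nat_lit 1), (nat_lit 195),
    get (nat_lit 10) (nat_lit 0x400c0400c02010030080400c02010030080400c02010030080400c02010030080400c02010030080400c02010030080400c02010030080400c02010030080400c02010030080400c02010030080400c02010030080400c02010060100401004024090200802008020080200802008020080200801c0701c0701c0701c0701c06014040100a02809020080200701806010040280902008020080200801c070180601806014040100a0280a02408020060180802008020060180401004020080200801c0601804010040100e01404010100440b024070101202c090140403c0e03008010040100401004010040100403c0a01006),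 Tr.get t0_N, get (nat_lit 20) (nat_lit 0x3ff003ff003ff003ff003ff003ff003ff003ff003ff003ff003ff003ff003ff003ff003ff003ff003ff003ff003ff003ff003ff003ff003ff003ff003ff003ff003ff003ff003ff003ff003ff003ff003ff003ff003ff003ff003ff003ff003ff003ff003ff003ff003ff003ff003ff003ff003ff003ff003ff003ff003ff003ff003ff003ff003ff003ff003ff003ff003ff003ff003ff003ff003ff003ff003ff003ff003ff003ff003ff003ff003ff0007b0007a000790007800077000760007500074000730007200071000700006f0006e0006d0006c0006b0006a000690006800067000660006500064000630006200061000600005f0005e0005d0005c0005b0005a000590005800057000560005500054000530005200051000500004f0004e0004d0004c0004b0004a000490004800047000460004500044000430004200041000400003f0003e0003d0003c0003b0003a000390003800037000360003500034000330003200031000300002f0002e0002d0002c0002b0002a000290002800027000260002500024000230002200021000200001f0001e0001d0001c0001b0001a000190001800017000160001500014000130001200011000100000f0000e0000d0000c0000b0000a00009000080000700006000050000400003000020000100000),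
    Tr.get3 t0_F (nat_lit 16) (nat_lit 5), Tr.get3 t0_T (nat_lit 3) (nat_lit 8), Tr.get t0_P⟩

theorem t0_head : t0.headOK R0 iv = true := by decide +kernel

theorem t0_b0 : allFrom (nat_lit 0) (nat_lit 1) t0.blockOK = true := by decide +kernel

theorem t0_blocks : ∀ t < t0.k, t0.blockOK t = true :=
  (of_allFrom_append of_lt_zero t0_b0)

theorem t0_mem0 {G : Type*} [Group G] {γ : ℕ → G} (hL : Lab γ iv) (hr : ∀ t ∈ R0, t.ev γ = 1) {K : Subgroup G}
    (hK : ∀ t ∈ ([.l 1, .l 2, .l 3, .l 15, .l 16, .l 17, .l 18, .l 19, .l 20] : List W), t.ev γ ∈ K) :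
    W.ev γ (.mul (.mul (.mul (.mul (.mul (.l 2) (.l 3)) (.l 2)) (.l 22)) (.l 18)) (.l 22)) ∈ K :=
  TC.mem (D := t0) hL (List.forall_mem_cons.2 ⟨hL.zero_mem K, hK⟩) hr t0_head t0_blocks
    (n := (nat_lit 6)) (w := (nat_lit 757794914)) (st := (nat_lit 110599800588)) (by decide +kernel) (by decide +kernel)

theorem t0_mem1 {G : Type*} [Group G] {γ : ℕ → G} (hL : Lab γ iv) (hr : ∀ t ∈ R0, t.ev γ = 1) {K : Subgroup G}
    (hK : ∀ t ∈ ([.l 1, .l 2, .l 3, .l 15, .l 16, .l 17, .l 18, .l 19, .l 20] : List W), t.ev γ ∈ K) :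
    W.ev γ (.mul (.mul (.mul (.mul (.mul (.l 2) (.l 15)) (.l 2)) (.l 22)) (.l 15)) (.l 22)) ∈ K :=
  TC.mem (D := t0) hL (List.forall_mem_cons.2 ⟨hL.zero_mem K, hK⟩) hr t0_head t0_blocks
    (n := (nat_lit 6)) (w := (nat_lit 754649570)) (st := (nat_lit 111673542668)) (by decide +kernel) (by decide +kernel)

theorem t0_mem2 {G : Type*} [Group G] {γ : ℕ → G} (hL : Lab γ iv) (hr : ∀ t ∈ R0, t.ev γ = 1) {K : Subgroup G}
    (hK : ∀ t ∈ ([.l 1, .l 2, .l 3, .l 15, .l 16, .l 17, .l 18, .l 19, .l 20] : List W), t.ev γ ∈ K) :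
    W.ev γ (.mul (.mul (.mul (.mul (.mul (.l 2) (.l 16)) (.l 2)) (.l 22)) (.l 16)) (.l 22)) ∈ K :=
  TC.mem (D := t0) hL (List.forall_mem_cons.2 ⟨hL.zero_mem K, hK⟩) hr t0_head t0_blocks
    (n := (nat_lit 6)) (w := (nat_lit 755698178)) (st := (nat_lit 112210413836)) (by decide +kernel) (by decide +kernel)

theorem t0_mem3 {G : Type*} [Group G] {γ : ℕ → G} (hL : Lab γ iv) (hr : ∀ t ∈ R0, t.ev γ = 1) {K : Subgroup G}
    (hK : ∀ t ∈ ([.l 1, .l 2, .l 3, .l 15, .l 16, .l 17, .l 18, .l 19, .l 20] : List W), t.ev γ ∈ K) :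
    W.ev γ (.mul (.mul (.mul (.mul (.mul (.l 2) (.l 17)) (.l 2)) (.l 22)) (.l 17)) (.l 22)) ∈ K :=
  TC.mem (D := t0) hL (List.forall_mem_cons.2 ⟨hL.zero_mem K, hK⟩) hr t0_head t0_blocks
    (n := (nat_lit 6)) (w := (nat_lit 756746786)) (st := (nat_lit 112747285004)) (by decide +kernel) (by decide +kernel)

theorem t0_mem4 {G : Type*} [Group G] {γ : ℕ → G} (hL : Lab γ iv) (hr : ∀ t ∈ R0, t.ev γ = 1) {K : Subgroup G}
    (hK : ∀ t ∈ ([.l 1, .l 2, .l 3, .l 15, .l 16, .l 17, .l 18, .l 19, .l 20] : List W), t.ev γ ∈ K) :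
    W.ev γ (.mul (.mul (.mul (.mul (.mul (.mul (.l 2) (.l 18)) (.l 2)) (.l 22)) (.l 3)) (.l 18)) (.l 22)) ∈ K :=
  TC.mem (D := t0) hL (List.forall_mem_cons.2 ⟨hL.zero_mem K, hK⟩) hr t0_head t0_blocks
    (n := (nat_lit 7)) (w := (nat_lit 24230169154)) (st := (nat_lit 14164269665036)) (by decide +kernel) (by decide +kernel)

theorem t0_mem5 {G : Type*} [Group G] {γ : ℕ → G} (hL : Lab γ iv) (hr : ∀ t ∈ R0, t.ev γ = 1) {K : Subgroup G}
    (hK : ∀ t ∈ ([.l 1, .l 2, .l 3, .l 15, .l 16, .l 17, .l 18, .l 19, .l 20] : List W), t.ev γ ∈ K) :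
    W.ev γ (.mul (.mul (.mul (.mul (.mul (.mul (.l 1) (.l 2)) (.l 1)) (.l 2)) (.l 22)) (.l 1)) (.l 22)) ∈ K :=
  TC.mem (D := t0) hL (List.forall_mem_cons.2 ⟨hL.zero_mem K, hK⟩) hr t0_head t0_blocks
    (n := (nat_lit 7)) (w := (nat_lit 23679009857)) (st := (nat_lit 14500371793418)) (by decide +kernel) (by decide +kernel)

theorem t0_mem6 {G : Type*} [Group G] {γ : ℕ → G} (hL : Lab γ iv) (hr : ∀ t ∈ R0, t.ev γ = 1) {K : Subgroup G}
    (hK : ∀ t ∈ ([.l 1, .l 2, .l 3, .l 15, .l 16, .l 17, .l 18, .l 19, .l 20] : List W), t.ev γ ∈ K) :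
    W.ev γ (.mul (.mul (.mul (.mul (.mul (.mul (.mul (.l 1) (.l 2)) (.l 22)) (.l 2)) (.l 1)) (.l 2)) (.l 22)) (.l 2)) ∈ K :=
  TC.mem (D := t0) hL (List.forall_mem_cons.2 ⟨hL.zero_mem K, hK⟩) hr t0_head t0_blocks
    (n := (nat_lit 8)) (w := (nat_lit 92410042433)) (st := (nat_lit 0x180c3b60c0860a)) (by decide +kernel) (by decide +kernel)

theorem t0_mem7 {G : Type*} [Group G] {γ : ℕ → G} (hL : Lab γ iv) (hr : ∀ t ∈ R0, t.ev γ = 1) {K : Subgroup G}
    (hK : ∀ t ∈ ([.l 1, .l 2, .l 3, .l 15, .l 16, .l 17, .l 18, .l 19, .l 20] : List W), t.ev γ ∈ K) :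
    W.ev γ (.mul (.mul (.mul (.l 15) (.l 23)) (.l 15)) (.l 23)) ∈ K :=
  TC.mem (D := t0) hL (List.forall_mem_cons.2 ⟨hL.zero_mem K, hK⟩) hr t0_head t0_blocks
    (n := (nat_lit 4)) (w := (nat_lit 769775)) (st := (nat_lit 11174416)) (by decide +kernel) (by decide +kernel)

theorem t0_mem8 {G : Type*} [Group G] {γ : ℕ → G} (hL : Lab γ iv) (hr : ∀ t ∈ R0, t.ev γ = 1) {K : Subgroup G}
    (hK : ∀ t ∈ ([.l 1, .l 2, .l 3, .l 15, .l 16, .l 17, .l 18, .l 19, .l 20] : List W), t.ev γ ∈ K) :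
    W.ev γ (.mul (.mul (.mul (.l 16) (.l 23)) (.l 16)) (.l 23)) ∈ K :=
  TC.mem (D := t0) hL (List.forall_mem_cons.2 ⟨hL.zero_mem K, hK⟩) hr t0_head t0_blocks
    (n := (nat_lit 4)) (w := (nat_lit 770800)) (st := (nat_lit 11272722)) (by decide +kernel) (by decide +kernel)

theorem t0_mem9 {G : Type*} [Group G] {γ : ℕ → G} (hL : Lab γ iv) (hr : ∀ t ∈ R0, t.ev γ = 1) {K : Subgroup G}
    (hK : ∀ t ∈ ([.l 1, .l 2, .l 3, .l 15, .l 16, .l 17, .l 18, .l 19, .l 20] : List W), t.ev γ ∈ K) :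
    W.ev γ (.mul (.mul (.mul (.l 17) (.l 23)) (.l 17)) (.l 23)) ∈ K :=
  TC.mem (D := t0) hL (List.forall_mem_cons.2 ⟨hL.zero_mem K, hK⟩) hr t0_head t0_blocks
    (n := (nat_lit 4)) (w := (nat_lit 771825)) (st := (nat_lit 11305492)) (by decide +kernel) (by decide +kernel)

theorem t0_mem10 {G : Type*} [Group G] {γ : ℕ → G} (hL : Lab γ iv) (hr : ∀ t ∈ R0, t.ev γ = 1) {K : Subgroup G}
    (hK : ∀ t ∈ ([.l 1, .l 2, .l 3, .l 15, .l 16, .l 17, .l 18, .l 19, .l 20] : List W), t.ev γ ∈ K) :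
    W.ev γ (.mul (.mul (.mul (.mul (.l 2) (.l 19)) (.l 23)) (.l 3)) (.l 23)) ∈ K :=
  TC.mem (D := t0) hL (List.forall_mem_cons.2 ⟨hL.zero_mem K, hK⟩) hr t0_head t0_blocks
    (n := (nat_lit 5)) (w := (nat_lit 24239714)) (st := (nat_lit 1463880716)) (by decide +kernel) (by decide +kernel)

theorem t0_mem11 {G : Type*} [Group G] {γ : ℕ → G} (hL : Lab γ iv) (hr : ∀ t ∈ R0, t.ev γ = 1) {K : Subgroup G}
    (hK : ∀ t ∈ ([.l 1, .l 2, .l 3, .l 15, .l 16, .l 17, .l 18, .l 19, .l 20] : List W), t.ev γ ∈ K) :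
    W.ev γ (.mul (.mul (.mul (.mul (.mul (.l 1) (.l 15)) (.l 1)) (.l 23)) (.l 15)) (.l 23)) ∈ K :=
  TC.mem (D := t0) hL (List.forall_mem_cons.2 ⟨hL.zero_mem K, hK⟩) hr t0_head t0_blocks
    (n := (nat_lit 6)) (w := (nat_lit 788235745)) (st := (nat_lit 183081535498)) (by decide +kernel) (by decide +kernel)

theorem t0_mem12 {G : Type*} [Group G] {γ : ℕ → G} (hL : Lab γ iv) (hr : ∀ t ∈ R0, t.ev γ = 1) {K : Subgroup G}
    (hK : ∀ t ∈ ([.l 1, .l 2, .l 3, .l 15, .l 16, .l 17, .l 18, .l 19, .l 20] : List W), t.ev γ ∈ K) :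
    W.ev γ (.mul (.mul (.mul (.mul (.mul (.l 1) (.l 16)) (.l 1)) (.l 23)) (.l 16)) (.l 23)) ∈ K :=
  TC.mem (D := t0) hL (List.forall_mem_cons.2 ⟨hL.zero_mem K, hK⟩) hr t0_head t0_blocks
    (n := (nat_lit 6)) (w := (nat_lit 789284353)) (st := (nat_lit 184692148490)) (by decide +kernel) (by decide +kernel)

theorem t0_mem13 {G : Type*} [Group G] {γ : ℕ → G} (hL : Lab γ iv) (hr : ∀ t ∈ R0, t.ev γ = 1) {K : Subgroup G}
    (hK : ∀ t ∈ ([.l 1, .l 2, .l 3, .l 15, .l 16, .l 17, .l 18, .l 19, .l 20] : List W), t.ev γ ∈ K) :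
    W.ev γ (.mul (.mul (.mul (.mul (.mul (.l 1) (.l 17)) (.l 1)) (.l 23)) (.l 17)) (.l 23)) ∈ K :=
  TC.mem (D := t0) hL (List.forall_mem_cons.2 ⟨hL.zero_mem K, hK⟩) hr t0_head t0_blocks
    (n := (nat_lit 6)) (w := (nat_lit 790332961)) (st := (nat_lit 185229019658)) (by decide +kernel) (by decide +kernel)

theorem t0_mem14 {G : Type*} [Group G] {γ : ℕ → G} (hL : Lab γ iv) (hr : ∀ t ∈ R0, t.ev γ = 1) {K : Subgroup G}
    (hK : ∀ t ∈ ([.l 1, .l 2, .l 3, .l 15, .l 16, .l 17, .l 18, .l 19, .l 20] : List W), t.ev γ ∈ K) :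
    W.ev γ (.mul (.mul (.mul (.mul (.mul (.l 1) (.l 23)) (.l 1)) (.l 23)) (.l 1)) (.l 23)) ∈ K :=
  TC.mem (D := t0) hL (List.forall_mem_cons.2 ⟨hL.zero_mem K, hK⟩) hr t0_head t0_blocks
    (n := (nat_lit 6)) (w := (nat_lit 773555937)) (st := (nat_lit 174357348874)) (by decide +kernel) (by decide +kernel)

theorem t0_mem15 {G : Type*} [Group G] {γ : ℕ → G} (hL : Lab γ iv) (hr : ∀ t ∈ R0, t.ev γ = 1) {K : Subgroup G}
    (hK : ∀ t ∈ ([.l 1, .l 2, .l 3, .l 15, .l 16, .l 17, .l 18, .l 19, .l 20] : List W), t.ev γ ∈ K) :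
    W.ev γ (.mul (.mul (.mul (.mul (.mul (.mul (.l 1) (.l 3)) (.l 1)) (.l 23)) (.l 2)) (.l 19)) (.l 23)) ∈ K :=
  TC.mem (D := t0) hL (List.forall_mem_cons.2 ⟨hL.zero_mem K, hK⟩) hr t0_head t0_blocks
    (n := (nat_lit 7)) (w := (nat_lit 25336448097)) (st := (nat_lit 23514417628938)) (by decide +kernel) (by decide +kernel)

theorem t0_mem16 {G : Type*} [Group G] {γ : ℕ → G} (hL : Lab γ iv) (hr : ∀ t ∈ R0, t.ev γ = 1) {K : Subgroup G}
    (hK : ∀ t ∈ ([.l 1, .l 2, .l 3, .l 15, .l 16, .l 17, .l 18, .l 19, .l 20] : List W), t.ev γ ∈ K) :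
    W.ev γ (.mul (.mul (.mul (.mul (.mul (.mul (.l 1) (.l 19)) (.l 1)) (.l 19)) (.l 23)) (.l 19)) (.l 23)) ∈ K :=
  TC.mem (D := t0) hL (List.forall_mem_cons.2 ⟨hL.zero_mem K, hK⟩) hr t0_head t0_blocks
    (n := (nat_lit 7)) (w := (nat_lit 25358337633)) (st := (nat_lit 23503185284106)) (by decide +kernel) (by decide +kernel)

theorem t0_mem17 {G : Type*} [Group G] {γ : ℕ → G} (hL : Lab γ iv) (hr : ∀ t ∈ R0, t.ev γ = 1) {K : Subgroup G}
    (hK : ∀ t ∈ ([.l 1, .l 2, .l 3, .l 15, .l 16, .l 17, .l 18, .l 19, .l 20] : List W), t.ev γ ∈ K) :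
    W.ev γ (.mul (.mul (.mul (.mul (.mul (.mul (.l 1) (.l 2)) (.l 1)) (.l 2)) (.l 23)) (.l 2)) (.l 23)) ∈ K :=
  TC.mem (D := t0) hL (List.forall_mem_cons.2 ⟨hL.zero_mem K, hK⟩) hr t0_head t0_blocks
    (n := (nat_lit 7)) (w := (nat_lit 24787354689)) (st := (nat_lit 23571879593482)) (by decide +kernel) (by decide +kernel)

theorem t0_mem18 {G : Type*} [Group G] {γ : ℕ → G} (hL : Lab γ iv) (hr : ∀ t ∈ R0, t.ev γ = 1) {K : Subgroup G}
    (hK : ∀ t ∈ ([.l 1, .l 2, .l 3, .l 15, .l 16, .l 17, .l 18, .l 19, .l 20] : List W), t.ev γ ∈ K) :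
    W.ev γ (.mul (.mul (.mul (.mul (.mul (.mul (.mul (.l 1) (.l 19)) (.l 1)) (.l 23)) (.l 1)) (.l 19)) (.l 1)) (.l 23)) ∈ K :=
  TC.mem (D := t0) hL (List.forall_mem_cons.2 ⟨hL.zero_mem K, hK⟩) hr t0_head t0_blocks
    (n := (nat_lit 8)) (w := (nat_lit 791987062369)) (st := (nat_lit 0xa261080828c0a)) (by decide +kernel) (by decide +kernel)

theorem t0_mem19 {G : Type*} [Group G] {γ : ℕ → G} (hL : Lab γ iv) (hr : ∀ t ∈ R0, t.ev γ = 1) {K : Subgroup G}
    (hK : ∀ t ∈ ([.l 1, .l 2, .l 3, .l 15, .l 16, .l 17, .l 18, .l 19, .l 20] : List W), t.ev γ ∈ K) :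
    W.ev γ (.mul (.mul (.mul (.mul (.mul (.mul (.mul (.l 1) (.l 2)) (.l 1)) (.l 23)) (.l 1)) (.l 2)) (.l 1)) (.l 23)) ∈ K :=
  TC.mem (D := t0) hL (List.forall_mem_cons.2 ⟨hL.zero_mem K, hK⟩) hr t0_head t0_blocks
    (n := (nat_lit 8)) (w := (nat_lit 791416636481)) (st := (nat_lit 0xa26008082860a)) (by decide +kernel) (by decide +kernel)

theorem t0_mem20 {G : Type*} [Group G] {γ : ℕ → G} (hL : Lab γ iv) (hr : ∀ t ∈ R0, t.ev γ = 1) {K : Subgroup G}
    (hK : ∀ t ∈ ([.l 1, .l 2, .l 3, .l 15, .l 16, .l 17, .l 18, .l 19, .l 20] : List W), t.ev γ ∈ K) :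
    W.ev γ (.mul (.mul (.mul (.mul (.mul (.mul (.l 22) (.l 1)) (.l 2)) (.l 1)) (.l 2)) (.l 22)) (.l 1)) ∈ K :=
  TC.mem (D := t0) hL (List.forall_mem_cons.2 ⟨hL.zero_mem K, hK⟩) hr t0_head t0_blocks
    (n := (nat_lit 7)) (w := (nat_lit 1814071350)) (st := (nat_lit 44085536723714)) (by decide +kernel) (by decide +kernel)

theorem t0_mem21 {G : Type*} [Group G] {γ : ℕ → G} (hL : Lab γ iv) (hr : ∀ t ∈ R0, t.ev γ = 1) {K : Subgroup G}
    (hK : ∀ t ∈ ([.l 1, .l 2, .l 3, .l 15, .l 16, .l 17, .l 18, .l 19, .l 20] : List W), t.ev γ ∈ K) :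
    W.ev γ (.mul (.mul (.mul (.mul (.mul (.mul (.l 23) (.l 1)) (.l 2)) (.l 1)) (.l 2)) (.l 23)) (.l 2)) ∈ K :=
  TC.mem (D := t0) hL (List.forall_mem_cons.2 ⟨hL.zero_mem K, hK⟩) hr t0_head t0_blocks
    (n := (nat_lit 7)) (w := (nat_lit 2921367607)) (st := (nat_lit 52960724780036)) (by decide +kernel) (by decide +kernel)

theorem t0_mem22 {G : Type*} [Group G] {γ : ℕ → G} (hL : Lab γ iv) (hr : ∀ t ∈ R0, t.ev γ = 1) {K : Subgroup G}
    (hK : ∀ t ∈ ([.l 1, .l 2, .l 3, .l 15, .l 16, .l 17, .l 18, .l 19, .l 20] : List W), t.ev γ ∈ K) :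
    W.ev γ (.pow (.mul (.l 23) (.l 1)) 3) ∈ K :=
  TC.mem (D := t0) hL (List.forall_mem_cons.2 ⟨hL.zero_mem K, hK⟩) hr t0_head t0_blocks
    (n := (nat_lit 6)) (w := (nat_lit 57728055)) (st := (nat_lit 344959550468)) (by decide +kernel) (by decide +kernel)

def t0_loops : List W := [.mul (.mul (.mul (.mul (.mul (.l 2) (.l 3)) (.l 2)) (.l 22)) (.l 18)) (.l 22), .mul (.mul (.mul (.mul (.mul (.l 2) (.l 15)) (.l 2)) (.l 22)) (.l 15)) (.l 22), .mul (.mul (.mul (.mul (.mul (.l 2) (.l 16)) (.l 2)) (.l 22)) (.l 16)) (.l 22), .mul (.mul (.mul (.mul (.mul (.l 2) (.l 17)) (.l 2)) (.l 22)) (.l 17)) (.l 22), .mul (.mul (.mul (.mul (.mul (.mul (.l 2) (.l 18)) (.l 2)) (.l 22)) (.l 3)) (.l 18)) (.l 22), .mul (.mul (.mul (.mul (.mul (.mul (.l 1) (.l 2)) (.l 1)) (.l 2)) (.l 22)) (.l 1)) (.l 22), .mul (.mul (.mul (.mul (.mul (.mul (.mul (.l 1) (.l 2)) (.l 22)) (.l 2)) (.l 1)) (.l 2)) (.l 22)) (.l 2), .mul (.mul (.mul (.l 15) (.l 23)) (.l 15)) (.l 23), .mul (.mul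 (.mul (.l 16) (.l 23)) (.l 16)) (.l 23), .mul (.mul (.mul (.l 17) (.l 23)) (.l 17)) (.l 23), .mul (.mul (.mul (.mul (.l 2) (.l 19)) (.l 23)) (.l 3)) (.l 23), .mul (.mul (.mul (.mul (.mul (.l 1) (.l 15)) (.l 1)) (.l 23)) (.l 15)) (.l 23), .mul (.mul (.mul (.mul (.mul (.l 1) (.l 16)) (.l 1)) (.l 23)) (.l 16)) (.l 23), .mul (.mul (.mul (.mul (.mul (.l 1) (.l 17)) (.l 1)) (.l 23)) (.l 17)) (.l 23), .mul (.mul (.mul (.mul (.mul (.l 1) (.l 23)) (.l 1)) (.l 23)) (.l 1)) (.l 23), .mul (.mul (.mul (.mul (.mul (.mul (.l 1) (.l 3)) (.l 1)) (.l 23)) (.l 2)) (.l 19)) (.l 23), .mul (.mul (.mul (.mul (.mul (.mul (.l 1) (.l 19)) (.l 1)) (.l 19)) (.l 23)) (.l 19)) (.l 23), .mul (.mul (.mul (.mul (.mul (.mul (.l 1) (.l 2)) (.l 1)) (.l 2)) (.l 23)) (.l 2)) (.l 23), .mul (.mul (.mul (.mul (.mul (.mul (.mul (.l 1) (.l 19)) (.l 1)) (.l 23)) (.l 1)) (.l 19)) (.l 1)) (.l 23), .mul (.mul (.mul (.mul (.mul (.mul (.mul (.l 1) (.l 2)) (.l 1)) (.l 23)) (.l 1)) (.l 2)) (.l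 1)) (.l 23), .mul (.mul (.mul (.mul (.mul (.mul (.l 22) (.l 1)) (.l 2)) (.l 1)) (.l 2)) (.l 22)) (.l 1), .mul (.mul (.mul (.mul (.mul (.mul (.l 23) (.l 1)) (.l 2)) (.l 1)) (.l 2)) (.l 23)) (.l 2), .pow (.mul (.l 23) (.l 1)) 3]

theorem t0_mems {G : Type*} [Group G] {γ : ℕ → G} (hL : Lab γ iv) (hr : ∀ t ∈ R0, t.ev γ = 1) {K : Subgroup G}
    (hK : ∀ t ∈ ([.l 1, .l 2, .l 3, .l 15, .l 16, .l 17, .l 18, .l 19, .l 20] : List W), t.ev γ ∈ K) :
    ∀ t ∈ t0_loops, t.ev γ ∈ K :=
  List.forall_mem_cons.2 ⟨t0_mem0 hL hr hK,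
    List.forall_mem_cons.2 ⟨t0_mem1 hL hr hK,
    List.forall_mem_cons.2 ⟨t0_mem2 hL hr hK,
    List.forall_mem_cons.2 ⟨t0_mem3 hL hr hK,
    List.forall_mem_cons.2 ⟨t0_mem4 hL hr hK,
    List.forall_mem_cons.2 ⟨t0_mem5 hL hr hK,
    List.forall_mem_cons.2 ⟨t0_mem6 hL hr hK,
    List.forall_mem_cons.2 ⟨t0_mem7 hL hr hK,
    List.forall_mem_cons.2 ⟨t0_mem8 hL hr hK,
    List.forall_mem_cons.2 ⟨t0_mem9 hL hr hK,
    List.forall_mem_cons.2 ⟨t0_mem10 hL hr hK,
    List.forall_mem_cons.2 ⟨t0_mem11 hL hr hK,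
    List.forall_mem_cons.2 ⟨t0_mem12 hL hr hK,
    List.forall_mem_cons.2 ⟨t0_mem13 hL hr hK,
    List.forall_mem_cons.2 ⟨t0_mem14 hL hr hK,
    List.forall_mem_cons.2 ⟨t0_mem15 hL hr hK,
    List.forall_mem_cons.2 ⟨t0_mem16 hL hr hK,
    List.forall_mem_cons.2 ⟨t0_mem17 hL hr hK,
    List.forall_mem_cons.2 ⟨t0_mem18 hL hr hK,
    List.forall_mem_cons.2 ⟨t0_mem19 hL hr hK,
    List.forall_mem_cons.2 ⟨t0_mem20 hL hr hK,
    List.forall_mem_cons.2 ⟨t0_mem21 hL hr hK,
    List.forall_mem_cons.2 ⟨t0_mem22 hL hr hK,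
    fun _ h => absurd h List.not_mem_nil⟩⟩⟩⟩⟩⟩⟩⟩⟩⟩⟩⟩⟩⟩⟩⟩⟩⟩⟩⟩⟩⟩⟩

def t13_F : Tr := .leaf (nat_lit 0xb02c000003004000040400004004030040900801004060080900806008050100200c02008050140300c0b0140b01805014090180b0240609829010080240c02c090240c1184b02c0cb26cba1aab0340bb36c904009a9a8c0300ea968802808ba2ec0bc31b36d0baaeeb32ccbaeeb12449aa2890a0281144509c27a9e85b06c7b12c4a8a8409024a0ea1a06a308c231084210441a8280100400802014448ac28713c47a3aa6ab686130460ac26a2aa5ba6e4b22c2b9ee6b1ac5b96e311043b0ec008821b86e000000)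
def t13_T : Tr := .leaf (nat_lit 0x2307b9ac5a928398a418820)
def t13_P : Tr := .node (.leaf (nat_lit 0x6618000981817635a181780440615e000d4611a000d1165a181b8023d5d4f000d44523511e3f2180a41581c000ce4d5452802d75514000ce23511e3f3c1580840180f1f50224300c8d224310043a1f00481200e1b0047b1c0c150007b180c410d190027a160f3f0e170028a12082f09351300a8d1237110027b102d042b051100a813d3e3c0043d3b2a052c043a00a810a323a0027b0e0c0a06030009308062707090027a0832050063d082e06240709004812a052c0430008410628030067b06262426240700a81040227032b050028d02272527250300a8d))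
  (.leaf (nat_lit 0x1ff001ff001ff001ff001ff9c06000d4959a000d99699000d98690000d9139302802d78490000d98d90000d98e8b000d9728d0480295748b000d97a89000d98084000d9117139802d48280000d9567137802ce7e7d000d9487d0a802d7777a000d97874000d964770c802d46c74000d9686c47802986d1600095526f12802d7676c000d96a67000d94a6765802d4))
def t13_N_0 : Tr := .node (.node (.node (.node (.leaf (nat_lit 553139727))
  (.leaf (nat_lit 24230169154)))
  (.node (.leaf (nat_lit 692126785))
  (.leaf (nat_lit 15375))))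
  (.node (.node (.leaf (nat_lit 0x1f2a49f2ac9f2ac841))
  (.leaf (nat_lit 165)))
  (.leaf (nat_lit 2183759459))))
  (.node (.node (.node (.leaf (nat_lit 0x1f183e2f1be2f8c1e3))
  (.leaf (nat_lit 1814071350)))
  (.node (.leaf (nat_lit 724651649))
  (.leaf (nat_lit 661))))
  (.node (.node (.leaf (nat_lit 523324898))
  (.leaf (nat_lit 298)))
  (.leaf (nat_lit 37163666003))))
def t13_N_1 : Tr := .node (.node (.node (.node (.leaf (nat_lit 80975))
  (.leaf (nat_lit 789284353)))
  (.node (.leaf (nat_lit 741589273218))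
  (.leaf (nat_lit 594))))
  (.node (.node (.leaf (nat_lit 636275408399))
  (.leaf (nat_lit 8199)))
  (.leaf (nat_lit 53755334227))))
  (.node (.node (.node (.leaf (nat_lit 2786692161))
  (.leaf (nat_lit 66)))
  (.node (.leaf (nat_lit 691169342325825))
  (.leaf (nat_lit 23575))))
  (.node (.node (.leaf (nat_lit 672818857025))
  (.leaf (nat_lit 461)))
  (.leaf (nat_lit 738000))))
def t13_N_2 : Tr := .node (.node (.node (.node (.leaf (nat_lit 527875))
  (.leaf (nat_lit 770800)))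
  (.node (.leaf (nat_lit 22097253936))
  (.leaf (nat_lit 561))))
  (.node (.node (.leaf (nat_lit 591425))
  (.leaf (nat_lit 198)))
  (.leaf (nat_lit 1730203203))))
  (.node (.node (.node (.leaf (nat_lit 20326455429601))
  (.leaf (nat_lit 33)))
  (.node (.leaf (nat_lit 676108239937))
  (.leaf (nat_lit 726))))
  (.node (.node (.leaf (nat_lit 669581426274))
  (.leaf (nat_lit 12299)))
  (.leaf (nat_lit 1169911564899))))
def t13_N_3 : Tr := .node (.node (.node (.node (.leaf (nat_lit 83025))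
  (.leaf (nat_lit 25358337633)))
  (.node (.leaf (nat_lit 2905632050241))
  (.leaf (nat_lit 19475))))
  (.node (.node (.leaf (nat_lit 626275))
  (.leaf (nat_lit 329)))
  (.leaf (nat_lit 37146397267))))
  (.node (.node (.node (.leaf (nat_lit 0x9c9f3941f284df29be0f))
  (.leaf (nat_lit 3075)))
  (.leaf (nat_lit 638682723)))
  (.node (.node (.leaf (nat_lit 685565988585058))
  (.leaf (nat_lit 430)))
  (.leaf (nat_lit 757794914))))
def t13_N_4 : Tr := .node (.node (.node (.node (.leaf (nat_lit 615227808333359))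
  (.leaf (nat_lit 92410042433)))
  (.node (.leaf (nat_lit 626086465))
  (.leaf (nat_lit 528))))
  (.node (.node (.leaf (nat_lit 593475))
  (.leaf (nat_lit 5125)))
  (.leaf (nat_lit 2201028195))))
  (.node (.node (.node (.leaf (nat_lit 606800))
  (.leaf (nat_lit 57728055)))
  (.node (.leaf (nat_lit 21090717232))
  (.leaf (nat_lit 20501))))
  (.node (.node (.leaf (nat_lit 566502211074))
  (.leaf (nat_lit 395)))
  (.leaf (nat_lit 54814362675))))
def t13_N_5 : Tr := .node (.node (.node (.node (.leaf (nat_lit 82000))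
  (.leaf (nat_lit 773555937)))
  (.node (.leaf (nat_lit 741603953296))
  (.leaf (nat_lit 627))))
  (.node (.node (.leaf (nat_lit 600827313697))
  (.leaf (nat_lit 232)))
  (.leaf (nat_lit 53755873875))))
  (.node (.node (.node (.leaf (nat_lit 0x4de37cde378441))
  (.leaf (nat_lit 99)))
  (.node (.leaf (nat_lit 51250))
  (.leaf (nat_lit 0))))
  (.node (.node (.leaf (nat_lit 687763430587919))
  (.leaf (nat_lit 14349)))
  (.leaf (nat_lit 741018306))))
def t13_N_6 : Tr := .node (.node (.node (.node (.leaf (nat_lit 68675))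
  (.leaf (nat_lit 24239714)))
  (.node (.leaf (nat_lit 691123848257))
  (.leaf (nat_lit 17425))))
  (.node (.node (.leaf (nat_lit 522242529))
  (.leaf (nat_lit 263)))
  (.leaf (nat_lit 36543483475))))
  (.node (.node (.node (.leaf (nat_lit 0x24f849f28be507ca0f8be01))
  (.leaf (nat_lit 1025)))
  (.node (.leaf (nat_lit 2873422875713))
  (.leaf (nat_lit 759))))
  (.node (.node (.leaf (nat_lit 624479825))
  (.leaf (nat_lit 364)))
  (.leaf (nat_lit 740035))))
def t13_N_7 : Tr := .node (.node (.node (.node (.leaf (nat_lit 36542908450))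
  (.leaf (nat_lit 791987062369)))
  (.node (.leaf (nat_lit 708242))
  (.leaf (nat_lit 692))))
  (.node (.node (.leaf (nat_lit 625250))
  (.leaf (nat_lit 10249)))
  (.leaf (nat_lit 70417156691))))
  (.node (.node (.node (.leaf (nat_lit 704143))
  (.leaf (nat_lit 132)))
  (.leaf (nat_lit 1697696355)))
  (.node (.node (.leaf (nat_lit 705168))
  (.leaf (nat_lit 495)))
  (.leaf (nat_lit 755698178))))
def t13_N_8 : Tr := .node (.node (.node (.node (.leaf (nat_lit 574000))
  (.leaf (nat_lit 23679009857)))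
  (.node (.leaf (nat_lit 726729793))
  (.leaf (nat_lit 528))))
  (.node (.node (.leaf (nat_lit 707219))
  (.leaf (nat_lit 165)))
  (.leaf (nat_lit 1698236003))))
  (.node (.node (.node (.leaf (nat_lit 0x45e38be237c46f88de3))
  (.leaf (nat_lit 2921367607)))
  (.node (.leaf (nat_lit 659052144))
  (.leaf (nat_lit 661))))
  (.node (.node (.leaf (nat_lit 670668701199))
  (.leaf (nat_lit 9226)))
  (.leaf (nat_lit 54846851667))))
def t13_N_9 : Tr := .node (.node (.node (.node (.leaf (nat_lit 48175))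
  (.leaf (nat_lit 790332961)))
  (.node (.leaf (nat_lit 741590321795))
  (.leaf (nat_lit 18450))))
  (.node (.node (.leaf (nat_lit 566467575297))
  (.leaf (nat_lit 232)))
  (.leaf (nat_lit 55384788563))))
  (.node (.node (.node (.leaf (nat_lit 21427041848802))
  (.leaf (nat_lit 2050)))
  (.node (.leaf (nat_lit 85075))
  (.leaf (nat_lit 0))))
  (.node (.node (.leaf (nat_lit 2868014320705))
  (.leaf (nat_lit 461)))
  (.leaf (nat_lit 739025))))
def t13_N_10 : Tr := .node (.node (.node (.node (.leaf (nat_lit 560675))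
  (.leaf (nat_lit 771825)))
  (.node (.leaf (nat_lit 20050495056))
  (.leaf (nat_lit 561))))
  (.node (.node (.leaf (nat_lit 589842992))
  (.leaf (nat_lit 6150)))
  (.leaf (nat_lit 1159792195))))
  (.node (.node (.node (.leaf (nat_lit 0x49e37c86f1bc61))
  (.leaf (nat_lit 33)))
  (.node (.leaf (nat_lit 738300903041))
  (.leaf (nat_lit 22550))))
  (.node (.node (.leaf (nat_lit 624447056))
  (.leaf (nat_lit 364)))
  (.leaf (nat_lit 2252779145827))))
def t13_N_11 : Tr := .node (.node (.node (.node (.leaf (nat_lit 50225))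
  (.leaf (nat_lit 24787354689)))
  (.node (.leaf (nat_lit 723601765499969))
  (.leaf (nat_lit 692))))
  (.node (.node (.leaf (nat_lit 640625))
  (.leaf (nat_lit 329)))
  (.leaf (nat_lit 54829582931))))
  (.node (.node (.node (.leaf (nat_lit 690817))
  (.leaf (nat_lit 132)))
  (.leaf (nat_lit 2803976803)))
  (.node (.node (.leaf (nat_lit 658081))
  (.leaf (nat_lit 13326)))
  (.leaf (nat_lit 754649570))))
def t13_N_12 : Tr := .node (.node (.node (.node (.leaf (nat_lit 0x45f08be117c22f845f0))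
  (.leaf (nat_lit 769775)))
  (.node (.leaf (nat_lit 626545232))
  (.leaf (nat_lit 16400))))
  (.node (.node (.leaf (nat_lit 607825))
  (.leaf (nat_lit 198)))
  (.leaf (nat_lit 1712934467))))
  (.node (.node (.node (.leaf (nat_lit 18958434))
  (.leaf (nat_lit 795597558)))
  (.node (.leaf (nat_lit 675000943681))
  (.leaf (nat_lit 726))))
  (.node (.node (.leaf (nat_lit 600861949474))
  (.leaf (nat_lit 395)))
  (.leaf (nat_lit 36560734259))))
def t13_N_13 : Tr := .node (.node (.node (.node (.leaf (nat_lit 49200))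
  (.leaf (nat_lit 25336448097)))
  (.node (.leaf (nat_lit 741605001873))
  (.leaf (nat_lit 627))))
  (.node (.node (.leaf (nat_lit 635187052097))
  (.leaf (nat_lit 7176)))
  (.leaf (nat_lit 619617815123))))
  (.node (.node (.node (.leaf (nat_lit 0x117c26f84df38be707ce0f))
  (.leaf (nat_lit 99)))
  (.leaf (nat_lit 2689603)))
  (.node (.node (.leaf (nat_lit 616262396264994))
  (.leaf (nat_lit 430)))
  (.leaf (nat_lit 711319))))
def t13_N_14 : Tr := .node (.node (.node (.node (.leaf (nat_lit 35875))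
  (.leaf (nat_lit 788235745)))
  (.node (.leaf (nat_lit 535430842849))
  (.leaf (nat_lit 594))))
  (.node (.node (.leaf (nat_lit 19833276514))
  (.leaf (nat_lit 263)))
  (.leaf (nat_lit 69861985875))))
  (.node (.node (.node (.leaf (nat_lit 639600))
  (.leaf (nat_lit 66)))
  (.node (.leaf (nat_lit 690619570783297))
  (.leaf (nat_lit 759))))
  (.node (.node (.leaf (nat_lit 604097858096))
  (.leaf (nat_lit 11276)))
  (.leaf (nat_lit 736975))))
def t13_N_15 : Tr := .node (.node (.node (.node (.leaf (nat_lit 0x882278de378de3))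
  (.leaf (nat_lit 791416636481)))
  (.node (.leaf (nat_lit 675506))
  (.leaf (nat_lit 21524))))
  (.node (.node (.leaf (nat_lit 590892592))
  (.leaf (nat_lit 298)))
  (.leaf (nat_lit 88100342355))))
  (.node (.node (.node (.leaf (nat_lit 22598192))
  (.leaf (nat_lit 4100)))
  (.leaf (nat_lit 1160809059)))
  (.node (.node (.leaf (nat_lit 21550640))
  (.leaf (nat_lit 495)))
  (.leaf (nat_lit 756746786))))
def t13_N : Tr := .node (.node (.node (.node t13_N_0
  t13_N_1)
  (.node t13_N_2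
  t13_N_3))
  (.node (.node t13_N_4
  t13_N_5)
  (.node t13_N_6
  t13_N_7)))
  (.node (.node (.node t13_N_8
  t13_N_9)
  (.node t13_N_10
  t13_N_11))
  (.node (.node t13_N_12
  t13_N_13)
  (.node t13_N_14
  t13_N_15)))
noncomputable def t13 : TC :=
  ⟨[.l 0, .l 1, .l 2, .l 3, .l 4, .l 5, .l 6, .l 7, .l 8, .l 9, .l 10, .l 11, .l 12, .l 13, .l 14, .l 15, .l 16, .l 17, .l 18, .l 19, .l 20, .l 21, .l 22, .l 23],
    (nat_lit 5), (nat_lit 8), (nat_lit 0xbda959ca307b5cb62547418a418820), (nat_lit 2064399), (nat_lit 18), (nat_lit 3), (nat_lit 32), (nat_lit 2), (nat_lit 219),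
    get (nat_lit 10) (nat_lit 0x400c0400c02010030080400c02010030080400c02010030080400c02010030080400c02010030080400c02010030080400c02010030080400c02010030080400c02010030080400c02010030080400c02010030080400c020180601c070200801c0701c060180601805010040100801c070180601806010060100401004024090200802008020080200802008020080200801c0701c0701c0701c0701c06014040100a02809020080200701806010040280902008020080200801c070180601806014040100a0280a02408020060180802008020060180401004020080200801c0601804010040100e01404010100440b024070101202c090140403c0e03008010040100401004010040100403c0a01006), Tr.get t13_N, get (nat_lit 20) (nat_lit 0x3ff003ff003ff003ff003ff003ff003ff003ff003ff003ff003ff003ff003ff003ff003ff003ff003ff003ff003ff003ff003ff003ff003ff003ff003ff003ff003ff003ff003ff003ff003ff003ff003ff003ff003ff003ff003ff003ff003ff003ff003ff003ff003ff003ff003ff003ff003ff003ff003ff003ff003ff003ff003ff003ff003ff003ff003ff003ff003ff003ff003ff003ff003ff003ff003ff003ff003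ff003ff003ff003ff003ff000930009200091000900008f0008e0008d0008c0008b0008a000890008800087000860008500084000830008200081000800007f0007e0007d0007c0007b0007a000790007800077000760007500074000730007200071000700006f0006e0006d0006c0006b0006a000690006800067000660006500064000630006200061000600005f0005e0005d0005c0005b0005a000590005800057000560005500054000530005200051000500004f0004e0004d0004c0004b0004a000490004800047000460004500044000430004200041000400003f0003e0003d0003c0003b0003a000390003800037000360003500034000330003200031000300002f0002e0002d0002c0002b0002a000290002800027000260002500024000230002200021000200001f0001e0001d0001c0001b0001a000190001800017000160001500014000130001200011000100000f0000e0000d0000c0000b0000a00009000080000700006000050000400003000020000100000),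
    Tr.get3 t13_F (nat_lit 20) (nat_lit 5), Tr.get3 t13_T (nat_lit 5) (nat_lit 7), Tr.get t13_P⟩

theorem t13_head : t13.headOK (R1 ++ [.pow (.mul (.l 22) (.l 23)) 3]) iv = true := by decide +kernel

theorem t13_b0 : allFrom (nat_lit 0) (nat_lit 2) t13.blockOK = true := by decide +kernel

theorem t13_blocks : ∀ t < t13.k, t13.blockOK t = true :=
  (of_allFrom_append of_lt_zero t13_b0)

theorem t13_mem0 {G : Type*} [Group G] {γ : ℕ → G} (hL : Lab γ iv) (hr : ∀ t ∈ (R1 ++ [.pow (.mul (.l 22) (.l 23)) 3]), t.ev γ = 1) {K : Subgroup G}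
    (hK : ∀ t ∈ ([.l 1, .l 2, .l 3, .l 15, .l 16, .l 17, .l 18, .l 19, .l 20] : List W), t.ev γ ∈ K) :
    W.ev γ (.l 22) ∈ K :=
  TC.mem (D := t13) hL (List.forall_mem_cons.2 ⟨hL.zero_mem K, hK⟩) hr t13_head t13_blocks
    (n := (nat_lit 1)) (w := (nat_lit 22)) (st := (nat_lit 158)) (by decide +kernel) (by decide +kernel)

def t13_loops : List W := [.l 22]

theorem t13_mems {G : Type*} [Group G] {γ : ℕ → G} (hL : Lab γ iv) (hr : ∀ t ∈ (R1 ++ [.pow (.mul (.l 22) (.l 23)) 3]), t.ev γ = 1) {K : Subgroup G}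
    (hK : ∀ t ∈ ([.l 1, .l 2, .l 3, .l 15, .l 16, .l 17, .l 18, .l 19, .l 20] : List W), t.ev γ ∈ K) :
    ∀ t ∈ t13_loops, t.ev γ ∈ K :=
  List.forall_mem_cons.2 ⟨t13_mem0 hL hr hK,
    fun _ h => absurd h List.not_mem_nil⟩

def t14_F : Tr := .leaf (nat_lit 0x2c058000000c018210000840a80000c0840000602a0840381200a00c0180c03c0540e80800a030070180200440301c028080038130aa156d0da10bc18689d60b3b64aa951ebb3776e85dbab94428e551bb974c2c05c13c2568ed5813027ecf59e120276c5d8ea1153807017b2f62c0d00b1102440b01101a02aa651bb957582c85bb2f66accd99a19566eadd8b21652e6dd1b99732a550b09412824849a93416c0d89b09612a1504a0750680d4308610c41082102206a050010020020040bc374ad05910be13eef5ceabb43ace58c13622aad5091322268c548aaf4204b088a2b51eaa50712621c29047a2351aa850611e21827046a1b51426045b97712c5582b93722c4587b8f71ac3585b8b70c42083b0760021041b8370000000)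
def t14_T : Tr := .leaf (nat_lit 0x8607de75c6da6585d65544d24503ce34c2ca2481c61440c2040)
def t14_P : Tr := .node (.node (.leaf (nat_lit 0x78850b15c2e841e800498e838210041d401f800351002e000d1171e8441d8003d3e9bc00350c237388c8ba3580a413c8b000260ca76394016b8dce2322e9683701080362f0dce26b008401604c66701b17c032346c5f0a010b033004811a0485e008f6322c92cb0330027a191683200c3a30080ac001ec500e108023d888181b0007b0c0289e0b0c80145058aa150027b0a134084b0285402a04b24a02930085800a8105148b0004f61208038180a0300c0024c10062381c12004f40829014018f4940526010a001082062400c019ec0c4622118880700a81020088e032581400a3404472291c8a0300a8d))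
  (.leaf (nat_lit 0x1ff001ff001ff001ff001ff001ff001ff001ff001ff001ff001ff001ff001ff001ff001ff001ff001ff001ff001ff001ff001ff001ff001ff001ff001ff001ff001ff001ff001ff001ff650180035190c7000d9)))
  (.leaf (nat_lit 0x5231c0f005a8bf620006cb0184bf000da212f41d005ae0c5d01a00b5146b653c014aa7d6810802d45c2cc00364c4b3054016b9a1623d802d73d2bd0d00530395683200b5120ad0ec014a9055667802d4492a41d005aea1548a600b384c2b530aa018751ea25228d128e004812127d366d4d278860012642120383a3d0008a202552400cf69c1e0ec011ed1c2a128031ea1d30362f8dce20191a751ca58001ed0c8c480031e9ec62900061d130383e3f45a400323470180687c7e8b00081342287c1e0e8f402a35143e0f07476010823e0f075063100640))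
def t14_N_0 : Tr := .node (.node (.node (.node (.leaf (nat_lit 553139727))
  (.leaf (nat_lit 24230169154)))
  (.node (.leaf (nat_lit 692126785))
  (.leaf (nat_lit 15375))))
  (.node (.node (.leaf (nat_lit 0x1f2a49f2ac9f2ac841))
  (.leaf (nat_lit 165)))
  (.leaf (nat_lit 2183759459))))
  (.node (.node (.node (.leaf (nat_lit 0x1f183e2f1be2f8c1e3))
  (.leaf (nat_lit 1814071350)))
  (.node (.leaf (nat_lit 724651649))
  (.leaf (nat_lit 661))))
  (.node (.node (.leaf (nat_lit 523324898))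
  (.leaf (nat_lit 298)))
  (.leaf (nat_lit 37163666003))))
def t14_N_1 : Tr := .node (.node (.node (.node (.leaf (nat_lit 80975))
  (.leaf (nat_lit 789284353)))
  (.node (.leaf (nat_lit 741589273218))
  (.leaf (nat_lit 594))))
  (.node (.node (.leaf (nat_lit 636275408399))
  (.leaf (nat_lit 8199)))
  (.leaf (nat_lit 53755334227))))
  (.node (.node (.node (.leaf (nat_lit 2786692161))
  (.leaf (nat_lit 66)))
  (.node (.leaf (nat_lit 691169342325825))
  (.leaf (nat_lit 23575))))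
  (.node (.node (.leaf (nat_lit 672818857025))
  (.leaf (nat_lit 461)))
  (.leaf (nat_lit 738000))))
def t14_N_2 : Tr := .node (.node (.node (.node (.leaf (nat_lit 527875))
  (.leaf (nat_lit 770800)))
  (.node (.leaf (nat_lit 22097253936))
  (.leaf (nat_lit 561))))
  (.node (.node (.leaf (nat_lit 591425))
  (.leaf (nat_lit 198)))
  (.leaf (nat_lit 1730203203))))
  (.node (.node (.node (.leaf (nat_lit 20326455429601))
  (.leaf (nat_lit 33)))
  (.node (.leaf (nat_lit 676108239937))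
  (.leaf (nat_lit 726))))
  (.node (.node (.leaf (nat_lit 669581426274))
  (.leaf (nat_lit 12299)))
  (.leaf (nat_lit 1169911564899))))
def t14_N_3 : Tr := .node (.node (.node (.node (.leaf (nat_lit 83025))
  (.leaf (nat_lit 25358337633)))
  (.node (.leaf (nat_lit 2905632050241))
  (.leaf (nat_lit 19475))))
  (.node (.node (.leaf (nat_lit 626275))
  (.leaf (nat_lit 329)))
  (.leaf (nat_lit 37146397267))))
  (.node (.node (.node (.leaf (nat_lit 0x9c9f3941f284df29be0f))
  (.leaf (nat_lit 3075)))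
  (.leaf (nat_lit 638682723)))
  (.node (.node (.leaf (nat_lit 685565988585058))
  (.leaf (nat_lit 430)))
  (.leaf (nat_lit 757794914))))
def t14_N_4 : Tr := .node (.node (.node (.node (.leaf (nat_lit 615227808333359))
  (.leaf (nat_lit 92410042433)))
  (.node (.leaf (nat_lit 626086465))
  (.leaf (nat_lit 528))))
  (.node (.node (.leaf (nat_lit 593475))
  (.leaf (nat_lit 5125)))
  (.leaf (nat_lit 2201028195))))
  (.node (.node (.node (.leaf (nat_lit 606800))
  (.leaf (nat_lit 57728055)))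
  (.node (.leaf (nat_lit 21090717232))
  (.leaf (nat_lit 20501))))
  (.node (.node (.leaf (nat_lit 566502211074))
  (.leaf (nat_lit 395)))
  (.leaf (nat_lit 54814362675))))
def t14_N_5 : Tr := .node (.node (.node (.node (.leaf (nat_lit 82000))
  (.leaf (nat_lit 773555937)))
  (.node (.leaf (nat_lit 741603953296))
  (.leaf (nat_lit 627))))
  (.node (.node (.leaf (nat_lit 600827313697))
  (.leaf (nat_lit 232)))
  (.leaf (nat_lit 53755873875))))
  (.node (.node (.node (.leaf (nat_lit 0x4de37cde378441))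
  (.leaf (nat_lit 99)))
  (.node (.leaf (nat_lit 51250))
  (.leaf (nat_lit 0))))
  (.node (.node (.leaf (nat_lit 687763430587919))
  (.leaf (nat_lit 14349)))
  (.leaf (nat_lit 741018306))))
def t14_N_6 : Tr := .node (.node (.node (.node (.leaf (nat_lit 68675))
  (.leaf (nat_lit 24239714)))
  (.node (.leaf (nat_lit 691123848257))
  (.leaf (nat_lit 17425))))
  (.node (.node (.leaf (nat_lit 522242529))
  (.leaf (nat_lit 263)))
  (.leaf (nat_lit 36543483475))))
  (.node (.node (.node (.leaf (nat_lit 0x24f849f28be507ca0f8be01))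
  (.leaf (nat_lit 1025)))
  (.node (.leaf (nat_lit 2873422875713))
  (.leaf (nat_lit 759))))
  (.node (.node (.leaf (nat_lit 624479825))
  (.leaf (nat_lit 364)))
  (.leaf (nat_lit 740035))))
def t14_N_7 : Tr := .node (.node (.node (.node (.leaf (nat_lit 36542908450))
  (.leaf (nat_lit 791987062369)))
  (.node (.leaf (nat_lit 708242))
  (.leaf (nat_lit 692))))
  (.node (.node (.leaf (nat_lit 625250))
  (.leaf (nat_lit 10249)))
  (.leaf (nat_lit 70417156691))))
  (.node (.node (.node (.leaf (nat_lit 704143))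
  (.leaf (nat_lit 132)))
  (.leaf (nat_lit 1697696355)))
  (.node (.node (.leaf (nat_lit 705168))
  (.leaf (nat_lit 495)))
  (.leaf (nat_lit 755698178))))
def t14_N_8 : Tr := .node (.node (.node (.node (.leaf (nat_lit 574000))
  (.leaf (nat_lit 23679009857)))
  (.node (.leaf (nat_lit 726729793))
  (.leaf (nat_lit 528))))
  (.node (.node (.leaf (nat_lit 707219))
  (.leaf (nat_lit 165)))
  (.leaf (nat_lit 1698236003))))
  (.node (.node (.node (.leaf (nat_lit 0x45e38be237c46f88de3))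
  (.leaf (nat_lit 2921367607)))
  (.node (.leaf (nat_lit 659052144))
  (.leaf (nat_lit 661))))
  (.node (.node (.leaf (nat_lit 670668701199))
  (.leaf (nat_lit 9226)))
  (.leaf (nat_lit 54846851667))))
def t14_N_9 : Tr := .node (.node (.node (.node (.leaf (nat_lit 48175))
  (.leaf (nat_lit 790332961)))
  (.node (.leaf (nat_lit 741590321795))
  (.leaf (nat_lit 18450))))
  (.node (.node (.leaf (nat_lit 566467575297))
  (.leaf (nat_lit 232)))
  (.leaf (nat_lit 55384788563))))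
  (.node (.node (.node (.leaf (nat_lit 21427041848802))
  (.leaf (nat_lit 2050)))
  (.node (.leaf (nat_lit 85075))
  (.leaf (nat_lit 0))))
  (.node (.node (.leaf (nat_lit 2868014320705))
  (.leaf (nat_lit 461)))
  (.leaf (nat_lit 739025))))
def t14_N_10 : Tr := .node (.node (.node (.node (.leaf (nat_lit 560675))
  (.leaf (nat_lit 771825)))
  (.node (.leaf (nat_lit 20050495056))
  (.leaf (nat_lit 561))))
  (.node (.node (.leaf (nat_lit 589842992))
  (.leaf (nat_lit 6150)))
  (.leaf (nat_lit 1159792195))))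
  (.node (.node (.node (.leaf (nat_lit 0x49e37c86f1bc61))
  (.leaf (nat_lit 33)))
  (.node (.leaf (nat_lit 738300903041))
  (.leaf (nat_lit 22550))))
  (.node (.node (.leaf (nat_lit 624447056))
  (.leaf (nat_lit 364)))
  (.leaf (nat_lit 2252779145827))))
def t14_N_11 : Tr := .node (.node (.node (.node (.leaf (nat_lit 50225))
  (.leaf (nat_lit 24787354689)))
  (.node (.leaf (nat_lit 723601765499969))
  (.leaf (nat_lit 692))))
  (.node (.node (.leaf (nat_lit 640625))
  (.leaf (nat_lit 329)))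
  (.leaf (nat_lit 54829582931))))
  (.node (.node (.node (.leaf (nat_lit 690817))
  (.leaf (nat_lit 132)))
  (.leaf (nat_lit 2803976803)))
  (.node (.node (.leaf (nat_lit 658081))
  (.leaf (nat_lit 13326)))
  (.leaf (nat_lit 754649570))))
def t14_N_12 : Tr := .node (.node (.node (.node (.leaf (nat_lit 0x45f08be117c22f845f0))
  (.leaf (nat_lit 769775)))
  (.node (.leaf (nat_lit 626545232))
  (.leaf (nat_lit 16400))))
  (.node (.node (.leaf (nat_lit 607825))
  (.leaf (nat_lit 198)))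
  (.leaf (nat_lit 1712934467))))
  (.node (.node (.node (.leaf (nat_lit 18958434))
  (.leaf (nat_lit 814691900150)))
  (.node (.leaf (nat_lit 675000943681))
  (.leaf (nat_lit 726))))
  (.node (.node (.leaf (nat_lit 600861949474))
  (.leaf (nat_lit 395)))
  (.leaf (nat_lit 36560734259))))
def t14_N_13 : Tr := .node (.node (.node (.node (.leaf (nat_lit 49200))
  (.leaf (nat_lit 25336448097)))
  (.node (.leaf (nat_lit 741605001873))
  (.leaf (nat_lit 627))))
  (.node (.node (.leaf (nat_lit 635187052097))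
  (.leaf (nat_lit 7176)))
  (.leaf (nat_lit 619617815123))))
  (.node (.node (.node (.leaf (nat_lit 0x117c26f84df38be707ce0f))
  (.leaf (nat_lit 99)))
  (.leaf (nat_lit 2689603)))
  (.node (.node (.leaf (nat_lit 616262396264994))
  (.leaf (nat_lit 430)))
  (.leaf (nat_lit 711319))))
def t14_N_14 : Tr := .node (.node (.node (.node (.leaf (nat_lit 35875))
  (.leaf (nat_lit 788235745)))
  (.node (.leaf (nat_lit 535430842849))
  (.leaf (nat_lit 594))))
  (.node (.node (.leaf (nat_lit 19833276514))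
  (.leaf (nat_lit 263)))
  (.leaf (nat_lit 69861985875))))
  (.node (.node (.node (.leaf (nat_lit 639600))
  (.leaf (nat_lit 66)))
  (.node (.leaf (nat_lit 690619570783297))
  (.leaf (nat_lit 759))))
  (.node (.node (.leaf (nat_lit 604097858096))
  (.leaf (nat_lit 11276)))
  (.leaf (nat_lit 736975))))
def t14_N_15 : Tr := .node (.node (.node (.node (.leaf (nat_lit 0x882278de378de3))
  (.leaf (nat_lit 791416636481)))
  (.node (.leaf (nat_lit 675506))
  (.leaf (nat_lit 21524))))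
  (.node (.node (.leaf (nat_lit 590892592))
  (.leaf (nat_lit 298)))
  (.leaf (nat_lit 88100342355))))
  (.node (.node (.node (.leaf (nat_lit 22598192))
  (.leaf (nat_lit 4100)))
  (.leaf (nat_lit 1160809059)))
  (.node (.node (.leaf (nat_lit 21550640))
  (.leaf (nat_lit 495)))
  (.leaf (nat_lit 756746786))))
def t14_N : Tr := .node (.node (.node (.node t14_N_0
  t14_N_1)
  (.node t14_N_2
  t14_N_3))
  (.node (.node t14_N_4
  t14_N_5)
  (.node t14_N_6
  t14_N_7)))
  (.node (.node (.node t14_N_8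
  t14_N_9)
  (.node t14_N_10
  t14_N_11))
  (.node (.node t14_N_12
  t14_N_13)
  (.node t14_N_14
  t14_N_15)))
noncomputable def t14 : TC :=
  ⟨[.l 0, .l 1, .l 2, .l 3, .l 4, .l 5, .l 6, .l 7, .l 8, .l 9, .l 10, .l 11, .l 12, .l 13, .l 14, .l 15, .l 16, .l 17, .l 18, .l 19, .l 20, .l 21, .l 22, .l 23],
    (nat_lit 6), (nat_lit 9), (nat_lit 0xbda959ca307b5cb62547418a418820), (nat_lit 2064399), (nat_lit 34), (nat_lit 3), (nat_lit 32), (nat_lit 3), (nat_lit 219),
    get (nat_lit 10) (nat_lit 0x400c0400c02010030080400c02010030080400c02010030080400c02010030080400c02010030080400c02010030080400c02010030080400c02010030080400c02010030080400c02010030080400c02010030080400c020200601c070200801c0701c060180601805010040100801c070180601806010060100401004024090200802008020080200802008020080200801c0701c0701c0701c0701c06014040100a02809020080200701806010040280902008020080200801c070180601806014040100a0280a02408020060180802008020060180401004020080200801c0601804010040100e01404010100440b024070101202c090140403c0e03008010040100401004010040100403c0a01006),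 Tr.get t14_N, get (nat_lit 20) (nat_lit 0x3ff003ff003ff003ff003ff003ff003ff003ff003ff003ff003ff003ff003ff003ff003ff003ff003ff003ff003ff003ff003ff003ff003ff003ff003ff003ff003ff003ff003ff003ff003ff003ff003ff003ff003ff003ff003ff003ff003ff003ff003ff003ff003ff003ff003ff003ff003ff003ff003ff003ff003ff003ff003ff003ff003ff003ff003ff003ff003ff003ff003ff003ff003ff003ff003ff003ff003ff003ff003ff003ff003ff000930009200091000900008f0008e0008d0008c0008b0008a000890008800087000860008500084000830008200081000800007f0007e0007d0007c0007b0007a000790007800077000760007500074000730007200071000700006f0006e0006d0006c0006b0006a000690006800067000660006500064000630006200061000600005f0005e0005d0005c0005b0005a000590005800057000560005500054000530005200051000500004f0004e0004d0004c0004b0004a000490004800047000460004500044000430004200041000400003f0003e0003d0003c0003b0003a000390003800037000360003500034000330003200031000300002f0002e0002d0002c0002b0002a000290002800027000260002500024000230002200021000200001f0001e0001d0001c0001b0001a000190001800017000160001500014000130001200011000100000f0000e0000d0000c0000b0000a00009000080000700006000050000400003000020000100000),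
    Tr.get3 t14_F (nat_lit 22) (nat_lit 5), Tr.get3 t14_T (nat_lit 6) (nat_lit 7), Tr.get t14_P⟩

theorem t14_head : t14.headOK (R1 ++ [.pow (.mul (.l 22) (.l 23)) 4]) iv = true := by decide +kernel

theorem t14_b0 : allFrom (nat_lit 0) (nat_lit 3) t14.blockOK = true := by decide +kernel

theorem t14_blocks : ∀ t < t14.k, t14.blockOK t = true :=
  (of_allFrom_append of_lt_zero t14_b0)

theorem t14_mem0 {G : Type*} [Group G] {γ : ℕ → G} (hL : Lab γ iv) (hr : ∀ t ∈ (R1 ++ [.pow (.mul (.l 22) (.l 23)) 4]), t.ev γ = 1) {K : Subgroup G}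
    (hK : ∀ t ∈ ([.l 1, .l 2, .l 3, .l 15, .l 16, .l 17, .l 18, .l 19, .l 20] : List W), t.ev γ ∈ K) :
    W.ev γ (.l 22) ∈ K :=
  TC.mem (D := t14) hL (List.forall_mem_cons.2 ⟨hL.zero_mem K, hK⟩) hr t14_head t14_blocks
    (n := (nat_lit 1)) (w := (nat_lit 22)) (st := (nat_lit 204)) (by decide +kernel) (by decide +kernel)

def t14_loops : List W := [.l 22]

theorem t14_mems {G : Type*} [Group G] {γ : ℕ → G} (hL : Lab γ iv) (hr : ∀ t ∈ (R1 ++ [.pow (.mul (.l 22) (.l 23)) 4]), t.ev γ = 1) {K : Subgroup G}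
    (hK : ∀ t ∈ ([.l 1, .l 2, .l 3, .l 15, .l 16, .l 17, .l 18, .l 19, .l 20] : List W), t.ev γ ∈ K) :
    ∀ t ∈ t14_loops, t.ev γ ∈ K :=
  List.forall_mem_cons.2 ⟨t14_mem0 hL hr hK,
    fun _ h => absurd h List.not_mem_nil⟩

def t2_F : Tr := .leaf (nat_lit 0x808c050064014008805401401600480e005e06302d82523211af7c93ebdeb4f8f047824411008a05602a9f5cfada5556ba31d1aea4656b63571ad7c63eb211d0ab8c3c6a61510a97d43ea5f0af867c0bdfc0fe0a605081340f807e0520289f4efa5a51569e3051a7a50d69a9015a58d1c695f00fa4841428e2f51a084fc281f3efa07bc3de5ee8f72039027413004303781c41360997cf3e7293359e8bac67a93159da39d67233519c7b9be6e0eb09a8b6c65e12d0977cb3e5ded8f6b79f3da00d006a0320199ecef958b2c655ec6f948b0464e0bf0938adc64ad1569182dc242d1168f7ac3e3a91158d8c4c62e0af08982b4221ea8f87bc0de1a10b086bc2ddfeaa54858c246160a70840c1860c4a42837a7be0a8f9581aa6d1fe2fb17f82741f609b07c0bd85ec49a27b7a53deaee977983c41e6ef1772aa451e22ef178824c1dc2ec17612409d9e8af75a37d5d2a874728b845ca089070821c1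bc2dc16e12189b9e80f6da3455b20d706c8b4c5aeccd66a81fc1a6cc966881f41a227916781e41946c23637b03d85ebaf5f89b457a2b915d798bd71e5ef5bb2b596acab6591aa0d61e58f57ba9dd3aa51453794bd4ec9b6520a905482a0150114094069434fa92d139e4cf4e0a6853429614b112892ee93744a915125e46f49b21d9202901480a305184442461a00d16a3f4447903d102861430a0850443e24178ebcfec7763eb1d58f5e34f3c18d0ce627313981cc0e5e72f3979b3cde06b03689a44d5e66f3489844cc65e33110888c2c5762e9874cb641520a107082821410a005002c25a12d914c8b021c10e905482c01c00f005803421210909504aac4b62809404a061430a00500306123090840422411208093849e44f2271938c9e447226092849420e1070920492c3f622091048841e20d00680424132091840c2060e307083041a40d20609084864432211908c8643b22008f847c20a10508f047ac3361c903c81c60c3061828c14208104902481023611b90dc86c63631b081840c23011898bcc6240b2051820c10606303081040a40520208b845e42f21788bc45e02f01778bbc5c62e317805402a013009804402200f007803401a00b0058024012007003901c80c6043028014008202101880c406003001780bc046023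01900c80640120088044020010007803c006003001000800200100bd7de3ed5d68db56da2ef5978ab55da26f55788b54da1ad51685b53da05f4cf81b52d9fef4977eb51d9f6f4577c7d0bdf2d41679b4fd9e2d3d6747cebdd2d39672bcdddc6d35670bccddbdf30f6fb4bd9b2d2d66bbcadd92f29762bc9dd7af2575a7c8bd6af217598c7c566d1d6578c6c55ef19756ac5d159f14f56ac4d156311155b43d94e30d153ac2d14ab094518c1c542d0564e8c0c53af0174dabfd135efcf4dabed1322f914c8bdc52ecf56498bcc526af1448abbd11e2ed146b3ad9122e9144bb9dd0eae54437b8bd0eae14428b7c50a2dd141b36d8fe2d913fab5d0f9ed4f3eab4d0f62d113dbb3dcedeccf3bbb2dcea2c913abb1dce1ec4f38bb0dcdeec1736bafdcd20bd034baedcceeb9730baddcba2b512e82cc0bacb162caabd0ae2ad12b82ac0aeca9629aa9d0a22a5128828c0a1ea0f27b27d89aa9d4258a6c4960990257a5bc92c95623aa4d08a291122823c089e8cf21b22d882a8941f8a1c47e08501f7a0bc7ac8161da9fd07227d11c81ec072e7971989dc466075019b9cdc5e67131611b885846c21511a8850468213119884a065011b98dc39e60f0eb97dc25e5cf091168826a59408795bc20454208a94d01de50f07113881ea4d406792bc18448206a91d015e44f051108816a4140478fbc1043c204a8ed00de38f0310d880ee3570278cbc0843020210b8805e2cf1580ac052229113789bc4a225111788bc2842020f087843841c20b906c82861830a085842a615309b04d822611307b03d81a60d305b02d812609303b01d80a605301b00d800000000)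
def t2_T : Tr := .leaf (nat_lit 0xafaeadacabaaa9a8a7a6a5a4a3a2a1a09f9e9d9c9b9a999897969594939291908f8e8d8c8b8a898887868584838281807f7e7d7c7b7a797877767574737271706f6e6d6c6b6a696867666564636261605f5e5d5c5b5a595857565554535251504f4e4d4c4b4a494847464544434241403f3e3d3c3b3a393837363534333231302f2e2d2c2b2a292827262524232221201f1e1d1c1b1a191817161514131211100f0e0d0c0b0a09080706050403020100)
def t2_P : Tr := .node (.node (.node (.leaf (nat_lit 0x366843700006018316a03067c0700a810c0045e4055f431000180c0040bc008b80a6880b00476021a0024000b00667007000760102f669980b96f014039b4045b82f6682e5e40500c380b9790096100c2f004816402e5bc2f004130b9770bc000302e5d42f0000a0b9730bc000202e5c42f000060518d0540005c1262c1300078041890440005c0e61c0f00078031850340005c0a60c0b00078021810240005c065ec07000780197d01c011d8045c4050002c011750140005c0258d6158d6100c02a04025ac03000790096900c001e00259c03000770096d00c001d8025940300476))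
  (.leaf (nat_lit 0xa7646aa8001ecf0a8aa5a8e4500a403c09023cef0061f3b88e24c010f8ec90ced0020d3b24124400830ea8ec8b000773a08821e960081f39292a56938e402900e4218853840187ce0210890043e3788421c00004dc8dcdd0020d3723521c00830da8cc81000773607e1f6820081f36286a2800004d61f07b34c0187cd48c4cd002773487a1fc010f8d08bcc9002793407a1f400004ce1d87900085328741e400210c61c06f30c01a18c288cc1000832fa1d2ec0020cbc87a20002012ea1b2e400214b818063000832d85c17c0020cb4854ad00279)))
  (.node (.leaf (nat_lit 0x780c835000831c9a60c035006861c9971cc002147265473000841c9931cc0020c6e0b06d000081b02a1ac000286a0a0690000c1a02619c0002066092160000c18a121685f006861820e08c008205c0485700277169d50560d8460f814019aa0a80c0031e0a0740025e0a0580025203051d416e08169fd056038e05a7f4127bc1316c012045804053004218001e000947f81a000c7761ff07600a5c1a051fc754157d41780c5e048557e8547bc1300a81150107841174c55000181400e12c009dc5078451002097c8180009a060147c0158022c049ec04c001d81013dea7a04e6ec1100e6d))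
  (.leaf (nat_lit 0x53902414001e54cb05430061e528fe404019ed4aaf54700079520fc4040020d46aed0500078500f23d4001e540abd3f000785031b4fc001deb1c62ad00083c593a000bec271439600b34e3c4d31802be4df104ca00b5b0cc3b07c0a0007b05c06a18fe90bfafdbeaffa463ea830a008104f29f4cc019ed3c3a0eb000794ea9f4c40187938390e70067b4e29b4d4001e536388e7000834d2993ac001e12e360db000794ba8d4b4001e12ebe12d0007735af6a380107af4350002fa89bce84802d3330cfbc12a80283bbe7f8b62a8962989e258a6258ae2ca00020412a320cb00085))))
  (.node (.node (.leaf (nat_lit 0x41ba13dea139e1044030e04e7840e73c0f13c01205e6139bb13c0104c4e7444f000061300c11c010844a73c4b00209038497784873c0f00a811200c7040d6e449000181100a0fc009dc44704450020975820000970801e07016051d40541b80838049d204c011d810740110002c039cc03c001d80c10dca720426940d00e6d031a410dca109c1034030e0427040a6d40b10c01205c6109a510c0104c426dc4300006100080ec010843e6d43f002090283d6f83c6d40b00a810f0086ac0968c3d000180e0060cc009dc0e6e00f00476031b6034000b00a6c80b00076020376c1ae0d97f024039b4085f8376c0366ac0900c380d9ab0199f01c37004816b0365fc3700413))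
  (.leaf (nat_lit 0x128310c70008349a7730400215262f0bf00084490b42dc00215229bd1500277480b22dc002111e9b51100279472692c4001dd1a2b8adb580207d162b0ab44c0187d122a8af0043e440aa2b4000050e98ca9000774326640c00a150cb22ca00001afe60b30001ed0ab12c7b165f00a40428a428d090061f420a229c010f906975070020d41a5b29400831049549f000774089c26eb80081f3fab4adeb594c02900fe268993ec0187cfa2609d0043e3e09826c00004f6944f70020d3da4f26c00830f492495000773ca4c3a400a14f2a9aa800001)))
  (.node (.leaf (nat_lit 0x2ca152ac009e0b081ca9000762b8561640107a577e2640007b29a5a9765b7dc02900a6140530041e291f926c009e4a47dca50020d281eb28400824a01385100208279e5254001d89c93a5193de300a402704a134010789a78c9b0020d259df25c00824961204b002088f5dc928001ec9290243905db00a402484411c01078907748700279241db244008348c72c8d0020923042114008208a7148100076222348de3570c02900880f8410041e219c321c00834826fc83002092083c0fc008207e0e03b0041e1f1bd1dc009e47a6f47500278))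
  (.leaf (nat_lit 0x7ff69190003042bd9c65802c10b76508e00af871d8c15802ca31f6117a00b5aecd7e71802bebb67d9eeeaba6799d67386670b9b5ad76e3804105791e484002155ed652500083d5922000beb9755b8200b4d59d4954802d6d3b50d2f468001ed2745b7e6bb5342d073ed0ed59aaded30020415cb75550067b5711a474001e55a459190067b56adb55c001e558451190008355ad9474001e1524310f0007954ad1544001e152cf55100077b4f3ab3c0020f38530002fb2bcd8ff802cd3f73550e00af949cc944802d6cbb30ca7248001ec9f23b0e59acb20c7f1cc86b3962c2cb0020414eb05450067b))))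
def t2_N_0 : Tr := .node (.node (.node (.node (.leaf (nat_lit 553139727))
  (.leaf (nat_lit 24230169154)))
  (.node (.leaf (nat_lit 692126785))
  (.leaf (nat_lit 528))))
  (.node (.node (.leaf (nat_lit 0x1f2a49f2ac9f2ac841))
  (.leaf (nat_lit 165)))
  (.leaf (nat_lit 2183759459))))
  (.node (.node (.node (.leaf (nat_lit 0x1f183e2f1be2f8c1e3))
  (.leaf (nat_lit 1814071350)))
  (.node (.leaf (nat_lit 724651649))
  (.leaf (nat_lit 661))))
  (.node (.node (.leaf (nat_lit 523324898))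
  (.leaf (nat_lit 9226)))
  (.leaf (nat_lit 37163666003))))
def t2_N_1 : Tr := .node (.node (.node (.node (.leaf (nat_lit 80975))
  (.leaf (nat_lit 789284353)))
  (.node (.leaf (nat_lit 741589273218))
  (.leaf (nat_lit 18450))))
  (.node (.node (.leaf (nat_lit 636275408399))
  (.leaf (nat_lit 232)))
  (.leaf (nat_lit 53755334227))))
  (.node (.node (.node (.leaf (nat_lit 2786692161))
  (.leaf (nat_lit 2050)))
  (.node (.leaf (nat_lit 691169342325825))
  (.leaf (nat_lit 0))))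
  (.node (.node (.leaf (nat_lit 672818857025))
  (.leaf (nat_lit 461)))
  (.leaf (nat_lit 738000))))
def t2_N_2 : Tr := .node (.node (.node (.node (.leaf (nat_lit 527875))
  (.leaf (nat_lit 770800)))
  (.node (.leaf (nat_lit 22097253936))
  (.leaf (nat_lit 561))))
  (.node (.node (.leaf (nat_lit 591425))
  (.leaf (nat_lit 6150)))
  (.leaf (nat_lit 1730203203))))
  (.node (.node (.node (.leaf (nat_lit 20326455429601))
  (.leaf (nat_lit 33)))
  (.node (.leaf (nat_lit 676108239937))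
  (.leaf (nat_lit 22550))))
  (.node (.node (.leaf (nat_lit 669581426274))
  (.leaf (nat_lit 364)))
  (.leaf (nat_lit 1169911564899))))
def t2_N_3 : Tr := .node (.node (.node (.node (.leaf (nat_lit 83025))
  (.leaf (nat_lit 25358337633)))
  (.node (.leaf (nat_lit 2905632050241))
  (.leaf (nat_lit 692))))
  (.node (.node (.leaf (nat_lit 626275))
  (.leaf (nat_lit 329)))
  (.leaf (nat_lit 37146397267))))
  (.node (.node (.node (.leaf (nat_lit 0x9c9f3941f284df29be0f))
  (.leaf (nat_lit 132)))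
  (.leaf (nat_lit 638682723)))
  (.node (.node (.leaf (nat_lit 685565988585058))
  (.leaf (nat_lit 13326)))
  (.leaf (nat_lit 757794914))))
def t2_N_4 : Tr := .node (.node (.node (.node (.leaf (nat_lit 615227808333359))
  (.leaf (nat_lit 92410042433)))
  (.node (.leaf (nat_lit 626086465))
  (.leaf (nat_lit 16400))))
  (.node (.node (.leaf (nat_lit 593475))
  (.leaf (nat_lit 198)))
  (.leaf (nat_lit 2201028195))))
  (.node (.node (.node (.leaf (nat_lit 606800))
  (.leaf (nat_lit 57728055)))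
  (.node (.leaf (nat_lit 21090717232))
  (.leaf (nat_lit 726))))
  (.node (.node (.leaf (nat_lit 566502211074))
  (.leaf (nat_lit 395)))
  (.leaf (nat_lit 54814362675))))
def t2_N_5 : Tr := .node (.node (.node (.node (.leaf (nat_lit 82000))
  (.leaf (nat_lit 773555937)))
  (.node (.leaf (nat_lit 741603953296))
  (.leaf (nat_lit 627))))
  (.node (.node (.leaf (nat_lit 600827313697))
  (.leaf (nat_lit 7176)))
  (.leaf (nat_lit 53755873875))))
  (.node (.node (.node (.leaf (nat_lit 0x4de37cde378441))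
  (.leaf (nat_lit 99)))
  (.leaf (nat_lit 51250)))
  (.node (.node (.leaf (nat_lit 687763430587919))
  (.leaf (nat_lit 430)))
  (.leaf (nat_lit 741018306))))
def t2_N_6 : Tr := .node (.node (.node (.node (.leaf (nat_lit 68675))
  (.leaf (nat_lit 24239714)))
  (.node (.leaf (nat_lit 691123848257))
  (.leaf (nat_lit 594))))
  (.node (.node (.leaf (nat_lit 522242529))
  (.leaf (nat_lit 263)))
  (.leaf (nat_lit 36543483475))))
  (.node (.node (.node (.leaf (nat_lit 0x24f849f28be507ca0f8be01))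
  (.leaf (nat_lit 66)))
  (.node (.leaf (nat_lit 2873422875713))
  (.leaf (nat_lit 759))))
  (.node (.node (.leaf (nat_lit 624479825))
  (.leaf (nat_lit 11276)))
  (.leaf (nat_lit 740035))))
def t2_N_7 : Tr := .node (.node (.node (.node (.leaf (nat_lit 36542908450))
  (.leaf (nat_lit 791987062369)))
  (.node (.leaf (nat_lit 708242))
  (.leaf (nat_lit 21524))))
  (.node (.node (.leaf (nat_lit 625250))
  (.leaf (nat_lit 298)))
  (.leaf (nat_lit 70417156691))))
  (.node (.node (.node (.leaf (nat_lit 704143))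
  (.leaf (nat_lit 4100)))
  (.leaf (nat_lit 1697696355)))
  (.node (.node (.leaf (nat_lit 705168))
  (.leaf (nat_lit 495)))
  (.leaf (nat_lit 755698178))))
def t2_N_8 : Tr := .node (.node (.node (.node (.leaf (nat_lit 574000))
  (.leaf (nat_lit 23679009857)))
  (.node (.leaf (nat_lit 726729793))
  (.leaf (nat_lit 528))))
  (.node (.node (.leaf (nat_lit 707219))
  (.leaf (nat_lit 5125)))
  (.leaf (nat_lit 1698236003))))
  (.node (.node (.node (.leaf (nat_lit 0x45e38be237c46f88de3))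
  (.leaf (nat_lit 2921367607)))
  (.node (.leaf (nat_lit 659052144))
  (.leaf (nat_lit 20501))))
  (.node (.node (.leaf (nat_lit 670668701199))
  (.leaf (nat_lit 395)))
  (.leaf (nat_lit 54846851667))))
def t2_N_9 : Tr := .node (.node (.node (.node (.leaf (nat_lit 48175))
  (.leaf (nat_lit 790332961)))
  (.node (.leaf (nat_lit 741590321795))
  (.leaf (nat_lit 627))))
  (.node (.node (.leaf (nat_lit 566467575297))
  (.leaf (nat_lit 232)))
  (.leaf (nat_lit 55384788563))))
  (.node (.node (.node (.leaf (nat_lit 21427041848802))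
  (.leaf (nat_lit 99)))
  (.node (.leaf (nat_lit 85075))
  (.leaf (nat_lit 0))))
  (.node (.node (.leaf (nat_lit 2868014320705))
  (.leaf (nat_lit 14349)))
  (.leaf (nat_lit 739025))))
def t2_N_10 : Tr := .node (.node (.node (.node (.leaf (nat_lit 560675))
  (.leaf (nat_lit 771825)))
  (.node (.leaf (nat_lit 20050495056))
  (.leaf (nat_lit 17425))))
  (.node (.node (.leaf (nat_lit 589842992))
  (.leaf (nat_lit 263)))
  (.leaf (nat_lit 1159792195))))
  (.node (.node (.node (.leaf (nat_lit 0x49e37c86f1bc61))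
  (.leaf (nat_lit 1025)))
  (.node (.leaf (nat_lit 738300903041))
  (.leaf (nat_lit 759))))
  (.node (.node (.leaf (nat_lit 624447056))
  (.leaf (nat_lit 364)))
  (.leaf (nat_lit 2252779145827))))
def t2_N_11 : Tr := .node (.node (.node (.node (.leaf (nat_lit 50225))
  (.leaf (nat_lit 24787354689)))
  (.node (.leaf (nat_lit 723601765499969))
  (.leaf (nat_lit 692))))
  (.node (.node (.leaf (nat_lit 640625))
  (.leaf (nat_lit 10249)))
  (.leaf (nat_lit 54829582931))))
  (.node (.node (.node (.leaf (nat_lit 690817))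
  (.leaf (nat_lit 132)))
  (.leaf (nat_lit 2803976803)))
  (.node (.node (.leaf (nat_lit 658081))
  (.leaf (nat_lit 495)))
  (.leaf (nat_lit 754649570))))
def t2_N_12 : Tr := .node (.node (.node (.node (.leaf (nat_lit 0x45f08be117c22f845f0))
  (.leaf (nat_lit 769775)))
  (.node (.leaf (nat_lit 626545232))
  (.leaf (nat_lit 561))))
  (.node (.node (.leaf (nat_lit 607825))
  (.leaf (nat_lit 198)))
  (.leaf (nat_lit 1712934467))))
  (.node (.node (.node (.leaf (nat_lit 18958434))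
  (.leaf (nat_lit 33)))
  (.node (.leaf (nat_lit 675000943681))
  (.leaf (nat_lit 726))))
  (.node (.node (.leaf (nat_lit 600861949474))
  (.leaf (nat_lit 12299)))
  (.leaf (nat_lit 36560734259))))
def t2_N_13 : Tr := .node (.node (.node (.node (.leaf (nat_lit 49200))
  (.leaf (nat_lit 25336448097)))
  (.node (.leaf (nat_lit 741605001873))
  (.leaf (nat_lit 19475))))
  (.node (.node (.leaf (nat_lit 635187052097))
  (.leaf (nat_lit 329)))
  (.leaf (nat_lit 619617815123))))
  (.node (.node (.node (.leaf (nat_lit 0x117c26f84df38be707ce0f))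
  (.leaf (nat_lit 3075)))
  (.leaf (nat_lit 2689603)))
  (.node (.node (.leaf (nat_lit 616262396264994))
  (.leaf (nat_lit 430)))
  (.leaf (nat_lit 711319))))
def t2_N_14 : Tr := .node (.node (.node (.node (.leaf (nat_lit 35875))
  (.leaf (nat_lit 788235745)))
  (.node (.leaf (nat_lit 535430842849))
  (.leaf (nat_lit 594))))
  (.node (.node (.leaf (nat_lit 19833276514))
  (.leaf (nat_lit 8199)))
  (.leaf (nat_lit 69861985875))))
  (.node (.node (.node (.leaf (nat_lit 639600))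
  (.leaf (nat_lit 66)))
  (.node (.leaf (nat_lit 690619570783297))
  (.leaf (nat_lit 23575))))
  (.node (.node (.leaf (nat_lit 604097858096))
  (.leaf (nat_lit 461)))
  (.leaf (nat_lit 736975))))
def t2_N_15 : Tr := .node (.node (.node (.node (.leaf (nat_lit 0x882278de378de3))
  (.leaf (nat_lit 791416636481)))
  (.node (.leaf (nat_lit 675506))
  (.leaf (nat_lit 661))))
  (.node (.node (.leaf (nat_lit 590892592))
  (.leaf (nat_lit 298)))
  (.leaf (nat_lit 88100342355))))
  (.node (.node (.node (.leaf (nat_lit 22598192))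
  (.leaf (nat_lit 165)))
  (.leaf (nat_lit 1160809059)))
  (.node (.node (.leaf (nat_lit 21550640))
  (.leaf (nat_lit 15375)))
  (.leaf (nat_lit 756746786))))
def t2_N : Tr := .node (.node (.node (.node t2_N_0
  t2_N_1)
  (.node t2_N_2
  t2_N_3))
  (.node (.node t2_N_4
  t2_N_5)
  (.node t2_N_6
  t2_N_7)))
  (.node (.node (.node t2_N_8
  t2_N_9)
  (.node t2_N_10
  t2_N_11))
  (.node (.node t2_N_12
  t2_N_13)
  (.node t2_N_14
  t2_N_15)))
noncomputable def t2 : TC :=
  ⟨[.l 0, .l 1, .l 2, .l 3, .l 4, .l 5, .l 6, .l 7, .l 8, .l 9, .l 10, .l 11, .l 12, .l 13, .l 14, .l 15, .l 16, .l 17, .l 18, .l 19, .l 20, .l 21, .l 22, .l 23],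
    (nat_lit 8), (nat_lit 10), (nat_lit 0xbda959ca307b5cb62547418a418820), (nat_lit 2064399), (nat_lit 176), (nat_lit 7), (nat_lit 32), (nat_lit 8), (nat_lit 218),
    get (nat_lit 10) (nat_lit 0x1003010030080400c02010030080400c02010030080400c02010030080400c02010030080400c02010030080400c02010030080400c02010030080400c02010030080400c02010030080400c02010030080400c02010030080601c070200801c0701c060180601805010040100801c070180601806010060100401004024090200802008020080200802008020080200801c0701c0701c0701c0701c06014040100a02809020080200701806010040280902008020080200801c070180601806014040100a0280a02408020060180802008020060180401004020080200801c0601804010040100e01404010100440b024070101202c090140403c0e03008010040100401004010040100403c0a01006), Tr.get t2_N, get (nat_lit 20) (nat_lit 0x3ff003ff003ff003ff003ff003ff003ff003ff003ff003ff003ff003ff003ff003ff003ff003ff003ff003ff003ff003ff003ff003ff003ff003ff003ff003ff003ff003ff003ff003ff003ff003ff003ff003ff00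3ff003ff003ff003ff003ff003ff003ff003ff003ff003ff003ff003ff003ff003ff003ff003ff003ff003ff003ff003ff003ff003ff003ff003ff003ff003ff003ff003ff003ff003ff003ff003ff003ff003ff003ff003ff003ff0009200091000900008f0008e0008d0008c0008b0008a000890008800087000860008500084000830008200081000800007f0007e0007d0007c0007b0007a000790007800077000760007500074000730007200071000700006f0006e0006d0006c0006b0006a000690006800067000660006500064000630006200061000600005f0005e0005d0005c0005b0005a000590005800057000560005500054000530005200051000500004f0004e0004d0004c0004b0004a000490004800047000460004500044000430004200041000400003f0003e0003d0003c0003b0003a000390003800037000360003500034000330003200031000300002f0002e0002d0002c0002b0002a000290002800027000260002500024000230002200021000200001f0001e0001d0001c0001b0001a000190001800017000160001500014000130001200011000100000f0000e0000d0000c0000b0000a00009000080000700006000050000400003000020000100000),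
    Tr.get3 t2_F (nat_lit 26) (nat_lit 5), Tr.get3 t2_T (nat_lit 8) (nat_lit 6), Tr.get t2_P⟩

theorem t2_head : t2.headOK R1 iv = true := by decide +kernel

theorem t2_b0 : allFrom (nat_lit 0) (nat_lit 8) t2.blockOK = true := by decide +kernel

theorem t2_blocks : ∀ t < t2.k, t2.blockOK t = true :=
  (of_allFrom_append of_lt_zero t2_b0)

theorem t2_mem0 {G : Type*} [Group G] {γ : ℕ → G} (hL : Lab γ iv) (hr : ∀ t ∈ R1, t.ev γ = 1) {K : Subgroup G}
    (hK : ∀ t ∈ ([.l 1, .l 2, .l 3, .l 15, .l 16, .l 17, .l 18, .l 19, .l 20] : List W), t.ev γ ∈ K) :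
    W.ev γ (.mul (.mul (.mul (.pow (.mul (.l 22) (.l 19)) 5) (.l 1)) (.inv (.pow (.mul (.l 22) (.l 19)) 5))) (.inv (.l 1))) ∈ K :=
  TC.mem (D := t2) hL (List.forall_mem_cons.2 ⟨hL.zero_mem K, hK⟩) hr t2_head t2_blocks
    (n := (nat_lit 22)) (w := (nat_lit 0x369da769da76986769da769da76)) (st := (nat_lit 0x58003014070240b0340f044130560c050120400e0300a0200601002)) (by decide +kernel) (by decide +kernel)

theorem t2_mem1 {G : Type*} [Group G] {γ : ℕ → G} (hL : Lab γ iv) (hr : ∀ t ∈ R1, t.ev γ = 1) {K : Subgroup G}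
    (hK : ∀ t ∈ ([.l 1, .l 2, .l 3, .l 15, .l 16, .l 17, .l 18, .l 19, .l 20] : List W), t.ev γ ∈ K) :
    W.ev γ (.mul (.mul (.mul (.pow (.mul (.l 22) (.l 19)) 5) (.l 3)) (.inv (.pow (.mul (.l 22) (.l 19)) 5))) (.inv (.l 3))) ∈ K :=
  TC.mem (D := t2) hL (List.forall_mem_cons.2 ⟨hL.zero_mem K, hK⟩) hr t2_head t2_blocks
    (n := (nat_lit 22)) (w := (nat_lit 0x769da769da7698e769da769da76)) (st := (nat_lit 0x59003014070240b0340f04413055f4050120400e0300a0200601002)) (by decide +kernel) (by decide +kernel)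

theorem t2_mem2 {G : Type*} [Group G] {γ : ℕ → G} (hL : Lab γ iv) (hr : ∀ t ∈ R1, t.ev γ = 1) {K : Subgroup G}
    (hK : ∀ t ∈ ([.l 1, .l 2, .l 3, .l 15, .l 16, .l 17, .l 18, .l 19, .l 20] : List W), t.ev γ ∈ K) :
    W.ev γ (.mul (.mul (.mul (.pow (.mul (.l 22) (.l 19)) 5) (.l 18)) (.inv (.pow (.mul (.l 22) (.l 19)) 5))) (.inv (.l 18))) ∈ K :=
  TC.mem (D := t2) hL (List.forall_mem_cons.2 ⟨hL.zero_mem K, hK⟩) hr t2_head t2_blocks
    (n := (nat_lit 22)) (w := (nat_lit 0x2569da769da769ca769da769da76)) (st := (nat_lit 0x5b003014070240b0340f0441305610050120400e0300a0200601002)) (by decide +kernel) (by decide +kernel)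

theorem t2_mem3 {G : Type*} [Group G] {γ : ℕ → G} (hL : Lab γ iv) (hr : ∀ t ∈ R1, t.ev γ = 1) {K : Subgroup G}
    (hK : ∀ t ∈ ([.l 1, .l 2, .l 3, .l 15, .l 16, .l 17, .l 18, .l 19, .l 20] : List W), t.ev γ ∈ K) :
    W.ev γ (.mul (.mul (.mul (.pow (.mul (.l 22) (.l 19)) 5) (.pow (.mul (.l 1) (.l 2)) 2)) (.inv (.pow (.mul (.l 22) (.l 19)) 5))) (.inv (.pow (.mul (.l 1) (.l 2)) 2))) ∈ K :=
  TC.mem (D := t2) hL (List.forall_mem_cons.2 ⟨hL.zero_mem K, hK⟩) hr t2_head t2_blocks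
    (n := (nat_lit 28)) (w := (nat_lit 0x8822b4ed3b4ed3b4c41106769da769da76)) (st := (nat_lit 0x581625816200c0501c0902c0d03c1104c1583e0483a0c050120400e0300a0200601002)) (by decide +kernel) (by decide +kernel)

theorem t2_mem4 {G : Type*} [Group G] {γ : ℕ → G} (hL : Lab γ iv) (hr : ∀ t ∈ R1, t.ev γ = 1) {K : Subgroup G}
    (hK : ∀ t ∈ ([.l 1, .l 2, .l 3, .l 15, .l 16, .l 17, .l 18, .l 19, .l 20] : List W), t.ev γ ∈ K) :
    W.ev γ (.mul (.mul (.mul (.pow (.mul (.l 22) (.l 19)) 5) (.l 16)) (.inv (.pow (.mul (.l 22) (.l 19)) 5))) (.inv (.l 16))) ∈ K :=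
  TC.mem (D := t2) hL (List.forall_mem_cons.2 ⟨hL.zero_mem K, hK⟩) hr t2_head t2_blocks
    (n := (nat_lit 22)) (w := (nat_lit 0x2169da769da769c2769da769da76)) (st := (nat_lit 0x5a003014070240b0340f044130558e050120400e0300a0200601002)) (by decide +kernel) (by decide +kernel)

theorem t2_mem5 {G : Type*} [Group G] {γ : ℕ → G} (hL : Lab γ iv) (hr : ∀ t ∈ R1, t.ev γ = 1) {K : Subgroup G}
    (hK : ∀ t ∈ ([.l 1, .l 2, .l 3, .l 15, .l 16, .l 17, .l 18, .l 19, .l 20] : List W), t.ev γ ∈ K) :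
    W.ev γ (.mul (.mul (.mul (.pow (.mul (.l 22) (.l 19)) 5) (.mul (.mul (.mul (.mul (.mul (.l 15) (.l 17)) (.l 15)) (.l 17)) (.l 16)) (.l 15))) (.inv (.pow (.mul (.l 22) (.l 19)) 5))) (.inv (.mul (.mul (.mul (.mul (.mul (.l 15) (.l 17)) (.l 15)) (.l 17)) (.l 16)) (.l 15)))) ∈ K :=
  TC.mem (D := t2) hL (List.forall_mem_cons.2 ⟨hL.zero_mem K, hK⟩) hr t2_head t2_blocks
    (n := (nat_lit 32)) (w := (nat_lit 0x7c5f183ed3b4ed3b4ed37c22f8be769da769da76)) (st := (nat_lit 0x5996a5996a5a16600c0501c0902c0d03c1104c1508f6a0a02609022050120400e0300a0200601002)) (by decide +kernel) (by decide +kernel)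

def t2_loops : List W := [.mul (.mul (.mul (.pow (.mul (.l 22) (.l 19)) 5) (.l 1)) (.inv (.pow (.mul (.l 22) (.l 19)) 5))) (.inv (.l 1)), .mul (.mul (.mul (.pow (.mul (.l 22) (.l 19)) 5) (.l 3)) (.inv (.pow (.mul (.l 22) (.l 19)) 5))) (.inv (.l 3)), .mul (.mul (.mul (.pow (.mul (.l 22) (.l 19)) 5) (.l 18)) (.inv (.pow (.mul (.l 22) (.l 19)) 5))) (.inv (.l 18)), .mul (.mul (.mul (.pow (.mul (.l 22) (.l 19)) 5) (.pow (.mul (.l 1) (.l 2)) 2)) (.inv (.pow (.mul (.l 22) (.l 19)) 5))) (.inv (.pow (.mul (.l 1) (.l 2)) 2)), .mul (.mul (.mul (.pow (.mul (.l 22) (.l 19)) 5) (.l 16)) (.inv (.pow (.mul (.l 22) (.l 19)) 5))) (.inv (.l 16)), .mul (.mul (.mul (.pow (.mul (.l 22) (.l 19)) 5) (.mul (.mul (.mul (.mul (.mul (.l 15) (.l 17)) (.l 15)) (.l 17)) (.l 16)) (.l 15))) (.inv (.pow (.mul (.l 22) (.l 19)) 5))) (.inv (.mul (.mul (.mul (.mul (.mul (.l 15) (.l 17)) (.l 15)) (.l 17)) (.l 16)) (.l 15)))]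

theorem t2_mems {G : Type*} [Group G] {γ : ℕ → G} (hL : Lab γ iv) (hr : ∀ t ∈ R1, t.ev γ = 1) {K : Subgroup G}
    (hK : ∀ t ∈ ([.l 1, .l 2, .l 3, .l 15, .l 16, .l 17, .l 18, .l 19, .l 20] : List W), t.ev γ ∈ K) :
    ∀ t ∈ t2_loops, t.ev γ ∈ K :=
  List.forall_mem_cons.2 ⟨t2_mem0 hL hr hK,
    List.forall_mem_cons.2 ⟨t2_mem1 hL hr hK,
    List.forall_mem_cons.2 ⟨t2_mem2 hL hr hK,
    List.forall_mem_cons.2 ⟨t2_mem3 hL hr hK,
    List.forall_mem_cons.2 ⟨t2_mem4 hL hr hK,
    List.forall_mem_cons.2 ⟨t2_mem5 hL hr hK,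
    fun _ h => absurd h List.not_mem_nil⟩⟩⟩⟩⟩⟩

def t3_F : Tr := .leaf (nat_lit 0x93749ba6c3361037022c0c207d028825407809300f025aecf767b2c596006208d03382140b0071026025006408c03402180b407503a024a72f3977c8be5e727396ac9d256f0d7947babe486e83919c0ce4271f3881c50e3c51428e1b98e3aceb68cabed22e4e128a9c4cdc2af54891b68e202da1880b5861c6d8387a3ad61a4f5284a3856124f928394049e5f04f789324a0acfd6810b206006c83800bf85fc6c637f9bb4df9ef4f7c13209f1eeef7b13109ee6d93780ae85e2ced676ab451682ea1759bacdd46ea3757ad3dd02e61730b805c04b2270ab251bc4dc26e9b74db82dc16e1b70dbaac346eaafd1b42a016c1a80dac69e36a1b48da5e9cf69aad51a0298167a2c559c4ba266bb2dd5accb6471240996cc56630b105882c216113089846c2361930c9842c016011e89828b955e9a7cd71e70f5b9ad4d682b415a1ad0d682b21590ac0560464258ba1dd5e8af554b2b595c28a156a24d55ac91644b2ad916c8363611b0954292155a98515448e254120894ea7b4529a8cd444a2251a9e5144258151a9dd14049e24fa9d513e67334e1950d3a69b34d1268936a6544ca18d52c67234a793bd2ae617491230926e917470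9b052028c1420980500248144117091288752e117890ee85734a1fd506a47441a1b5502c8162d1128902c3362f09084bc06602fa0d54b444822d01a80b404803ea91508426813f11688faa4343eb1ed8f427a13d91e48f027813c10f88f067833c11c88e463a33811b88dc448235a1754d024213391948c8264132a93d060262131b0f58c4662331b965cb265932c11608b2a3f42c995ccac45622ba8f50ac65632ba95507445422a789bcaaa3b42a11488a663732610e08a025011c1940c7244d21ca0e54a2a314271890c98224126113089ac4762310b088aa1f4221070880228120b0fd87e43f21f08f847ea2740c08f047863c31e08e8475e18f1d10d886c23611b087846a82d51aa8cd052c0d60e008803a81150a005005441a21908c046063031890c486061631708b845c41621798acc54426213989cc4c626313a86504e817512a85d04842421208884468155119884c40420210a84d04020e1101880c4021c10eb86dc3421810c1860c3241920c085842c41420a9854c2a41320908484244082091848c24210108a02d422411208983cc1c40e207a82501c60e307a02541e60d306b835c1840c206a01d41aa074061830c1840a205982cc164092040820410608304a815004206103b01d80e407203781bc0c606303101080a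6053021810c09e04f02a80d008202101780bc04602301900c806a014009804c024012007803c006003001000800200100b4bda42d2d68dbcade2c328185b49d9f4524274b48d9cdf20f7314789ce51d2729c6cdc4518271945c9ba71536d944c9b5f10f6c943c9a830c168bc2dd9df08f677c1bd9a7053637c0bd8e70136293fc989efcf629becd866f93601bd8d826f535f7bcbd764f125c9bbcd6c4ec25b13a896ace9659939c9646e4359b38d961ee0f58937c94aedd7517b6bd424d924f935c9382d414ebb4dd36ed174c933c92e4cd24aa32d51e6c933d931c8f46c433db30d8f1ec0f3c7afbcee4bd23a92ec8e42b8139b2dd8decb56327acbcca6b1331aabd0c04ac230baadcbeca962e0a984b5ea4f2c928c8ae4a122a0a784aae9d7297a6bca64992270a5849ee95726b24d8968915250a38496c8d624ba2dc8ea894230a1848ec856220a0848ae8172111f8886e7d72079ebc7e67931e99dcc7447421db9cdc6ec7161b79bbc6ee6d71aa9ad06846821ab19d8666653181188862c61616a17d45825c116b96dc52459213095844ee55712994cc4a451212b93dc41e4cf10b92dc3ea4940f111883ee4570eb10d83684150d98fcc3043c20cb0ed82e63930b90dc82ec3560a08c842ac3160978bbc26e2d708a8ad020428208b89dc1de24f07b08d81a421206b07d81681d5050868416c19604785bc12e15703984cc0ec11602903c80820c102b82dc066093011018806e05700b00d800000000)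
def t3_T : Tr := .leaf (nat_lit 0x97969594939291908f8e8d8c8b8a898887868584838281807f7e7d7c7b7a797877767574737271706f6e6d6c6b6a696867666564636261605f5e5d5c5b5a595857565554535251504f4e4d4c4b4a494847464544434241403f3e3d3c3b3a393837363534333231302f2e2d2c2b2a292827262524232221201f1e1d1c1b1a191817161514131211100f0e0d0c0b0a09080706050403020100)
def t3_P : Tr := .node (.node (.node (.node (.leaf (nat_lit 0x1052c11004760380d5c5670300f008610394b53c0f0061303947024009380e52c0f000220395a02401885665b00c53d4d034018600c011310140d0028a0315a5194f034009000c568070023d0314701c008740c52c0d0000702807564065140b00a8d0280957c085140b00a8c021415153f0255f0045e0214101d59018090081802141024000b007564065154600840019450093100c0700481018024cc0301c009e9500193f01c0104c0650c07000080194101c00018044cd314cd3101402a34044ed314ed3101402a30044ed3301401a18044dc05000830113d00c009ec024cd314cd3100c02a04024dc03000770093900c001d8024d40300476))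
  (.leaf (nat_lit 0x3783e8003352bddcdd802d949f7530e00b5b57dd692802d3d63731e600b352cdb623802d6da90a000d9da0e2000d646b692c200b3529d9ee08029746765ad200a6b55d8cd0802d9d17612d200b5b33d870b802d0d4b5fc0e00b0753c20eaaf2bec0b50d6b5cd6f518081a4bb4fc971bc371ac934e4bc00a552e48123000774b11a388b088c7930cfb49c00a552ad0d270027b4a10ab84d143400a2924c0ceb00008488e63a4001d92047f4c44310ca50440c01067394574a47b0147c028611ed1b4900006470e4bf34000613470e439c000891838ab52d4eb0027a45af13ec0093914ceb3944f3ebfc0117b2ecc73c00021)))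
  (.leaf (nat_lit 0x94815d71cc01a18941304f000832484a0780a008050442d18400a4c9296a5c9448d0007a2384a7486d9c800a289096a5f0001d211ef1766a9b48d00a81972519b26b1706100a8122046124000f48821e680041d8b86874c4721c0290486982631fa56002401a0340500600805538110b5ee21400a50829287f0023d209ed11c008765c94c6d0067b16828040044c80302d6407c4b96801250801fe491a1d312c02a36551980035a558b40025c5e7ba4a8b2000764f1a80034e4f8c40026a46936308029a9147f9246874c4980a411fe491a1d37b0021007e8b0660c8351a4012047c7ad997a9e916c02a347c100430027b1e9e71ec009dc7a78c7b002091e1dd0f03f7963a0045d)))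
  (.node (.leaf (nat_lit 0x7e8506a5f4130205ad5554d555a82113402080506b439006211399f0c4009ec4c66d9d0394952d4903d75094018544c6742500209131a113400820460796507c470027a111ea7a4286042d00a8d1101c07c009ec400681d0043d101c4738000743e060080093b00c090643f000950f993655910fde30045e0f9930f5df0f03f008180f5df0f1956b8021003c6541857c190f4012043c64c3d000060e9b86edb963c3b00a810e816064001dc366f1b90dc0184c3663c37000240d18d0cdc50681f00a810d1c90b4019ec28720330063d72c22000d6071625901b7103262da480c547182a000d36d82a5fd625901b71032800530c8140180b5941b0028d0c18557d8461c3100a810c1890c4001d83060c3100476))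
  (.leaf (nat_lit 0x382b52cc00820dea64c90024e37295a461ba40dd00a8d37297a461da40dd00a8c3729187e9037400228dca5e9537401a18dca4cc30027b36a8f2fc00878d8278a10002435a8728400088d4a1c9f0000734a85a0cd3006863489a2740020cd0a04b50027b3389626400090ce9fcb1006213327d8dcbb006132b26e96c8f9d6d60088da70a89aaa9b58009e8ca238910043d31a43314019d8c4904c50020730a3b78e3a8f4c300a8130a3b79e3a30c001e8c28fcc30007630a3930c011d8c08f4c1002093023b1ec00820bca2ac2006212e288a1e0d27e8d00a182d86e1c4001dcb4190300495704c31194b500295))))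
  (.node (.node (.node (.leaf (nat_lit 0x2e61d8557c0850d4150c0905c020682e61c2f002090b98505c008202a5f42b0044e09979671a16742700a8d0997b671a36742700a8c0997b5e4270068609977064009ec245cc170061e0917705c00878245e425002080896d0314f0342300a810896b054019ec200314d52c0d084021842059d6d0840184c205a4130024e0800c03c000902059c210002207165074000741a0294502c1b0028a0618461d8557c1900a8106161064001d81857419004760595f05c00824140194501d5905402a341404d870495905402a301254406025616100117412544065140704c0206012018090002e0495104c000b01053c0d5b40c04402a04105680b0067b))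
  (.leaf (nat_lit 0x1ff001ff001ff001ff001ff001ff001ff001ff001ff001ff001ff001ff001ff001ff001ff001ff001ff001ff001ff001ff001ff001ff001ff001ff001ff001ff001ff001ff001ff001ff001ffde916000ca)))
  (.leaf (nat_lit 0x2d2b4adeb58a4b500a812d22b2d4001d8b28a4b3002092c221189c318cb1008182c062194000bab02a2690007ba748e96a6f2bc02104ae9e2aa0047b2b26e202569988622c0123caca7aa10061d9b48d9daa0a8e7200c81228460780a01d560558c0d46da8801252a2a86779c08420c02204aa99886119d21b402a34aa95c819be780008a2a85e184009eca89aa6d9425d96c8f0068229a53745ee20c00900a48647b0021e288566cdb115ca30086128a11854a30061328a131e400938a21585900024282091dc009389e83a088349f0024027a091d4008749c149f4815d51cc02a309c149a915401a189a81c520917b0945326c010649a81c9b00208261f91940093896898630023d)))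
  (.node (.leaf (nat_lit 0x787743c6543d1e402060780f03f0002e1e1dd1e4000b07275dd575dd51cc02a34700d83b000761b9d71bc008206a74c490041d1a1d117401874667141a5941b10c02a0464705c36fc658a40117864704638946219402060638946270df800840189c30c1870c4630048118830614190f4009e8627046300006865e6860001ec5815e178445616402184586c5b51640184c586bc3f0024e84214159b56cc5700618159e06b9b515c00900566bc3d0021d159b115c0001dd97860a0021e151a97d1f37d45500a8d1502409c0020c546ac3b0027b149a914c000b9f514603806030e03700068141a8145fe000137f5f514400091fd7dc5100022))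
  (.leaf (nat_lit 0x112bbcf50024e44334cdcd6b92e7b94d7bacdb00615442ed36c008250e350d70002443ae9364000890cc28eb0023d422e12627a33507cb71900414422df3840187906b74f3caf21c580309cf2c3b29c9f22004263c2c42f074769d9641ae164a537efbc980288104c731f3f901c8c0117902b54fd00277400c4b1ac9b1cc900818400c4324000b0feb4cff000243f8c431c00088fcc4b153b8ed004303e0c08ec3e760772fcf5006193e2c7324000b8f63023d8ede30f9d88d2c03bc02868f6b1cc5002063c0b8a228727cd9008613c0b82ec00090ec2da332dced0027aaf8ebc20eaaf6bfb880294f06c10eaaf4ebc1c02060eaafceb0022e3aabb3ac00018e82c8b50007739ab939c00090e0adce100209))))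
def t3_N_0 : Tr := .node (.node (.node (.node (.leaf (nat_lit 553139727))
  (.leaf (nat_lit 24230169154)))
  (.node (.leaf (nat_lit 692126785))
  (.leaf (nat_lit 495))))
  (.node (.node (.leaf (nat_lit 0x1f2a49f2ac9f2ac841))
  (.leaf (nat_lit 132)))
  (.leaf (nat_lit 2183759459))))
  (.node (.node (.node (.leaf (nat_lit 0x1f183e2f1be2f8c1e3))
  (.leaf (nat_lit 1814071350)))
  (.node (.leaf (nat_lit 724651649))
  (.leaf (nat_lit 692))))
  (.node (.node (.leaf (nat_lit 523324898))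
  (.leaf (nat_lit 10249)))
  (.leaf (nat_lit 37163666003))))
def t3_N_1 : Tr := .node (.node (.node (.node (.leaf (nat_lit 80975))
  (.leaf (nat_lit 789284353)))
  (.node (.leaf (nat_lit 741589273218))
  (.leaf (nat_lit 17425))))
  (.node (.node (.leaf (nat_lit 636275408399))
  (.leaf (nat_lit 263)))
  (.leaf (nat_lit 53755334227))))
  (.node (.node (.node (.leaf (nat_lit 2786692161))
  (.leaf (nat_lit 1025)))
  (.node (.leaf (nat_lit 691169342325825))
  (.leaf (nat_lit 759))))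
  (.node (.node (.leaf (nat_lit 672818857025))
  (.leaf (nat_lit 364)))
  (.leaf (nat_lit 738000))))
def t3_N_2 : Tr := .node (.node (.node (.node (.leaf (nat_lit 527875))
  (.leaf (nat_lit 770800)))
  (.node (.leaf (nat_lit 22097253936))
  (.leaf (nat_lit 528))))
  (.node (.node (.leaf (nat_lit 591425))
  (.leaf (nat_lit 5125)))
  (.leaf (nat_lit 1730203203))))
  (.node (.node (.node (.leaf (nat_lit 20326455429601))
  (.leaf (nat_lit 0xb5c56b8ad715ae2)))
  (.node (.leaf (nat_lit 676108239937))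
  (.leaf (nat_lit 20501))))
  (.node (.node (.leaf (nat_lit 669581426274))
  (.leaf (nat_lit 395)))
  (.leaf (nat_lit 1169911564899))))
def t3_N_3 : Tr := .node (.node (.node (.node (.leaf (nat_lit 83025))
  (.leaf (nat_lit 25358337633)))
  (.node (.leaf (nat_lit 2905632050241))
  (.leaf (nat_lit 627))))
  (.node (.node (.leaf (nat_lit 626275))
  (.leaf (nat_lit 232)))
  (.leaf (nat_lit 37146397267))))
  (.node (.node (.node (.leaf (nat_lit 0x9c9f3941f284df29be0f))
  (.leaf (nat_lit 99)))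
  (.node (.leaf (nat_lit 638682723))
  (.leaf (nat_lit 0))))
  (.node (.node (.leaf (nat_lit 685565988585058))
  (.leaf (nat_lit 14349)))
  (.leaf (nat_lit 757794914))))
def t3_N_4 : Tr := .node (.node (.node (.node (.leaf (nat_lit 615227808333359))
  (.leaf (nat_lit 92410042433)))
  (.node (.leaf (nat_lit 626086465))
  (.leaf (nat_lit 15375))))
  (.node (.node (.leaf (nat_lit 593475))
  (.leaf (nat_lit 165)))
  (.leaf (nat_lit 2201028195))))
  (.node (.node (.node (.leaf (nat_lit 606800))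
  (.leaf (nat_lit 57728055)))
  (.node (.leaf (nat_lit 21090717232))
  (.leaf (nat_lit 661))))
  (.node (.node (.leaf (nat_lit 566502211074))
  (.leaf (nat_lit 298)))
  (.leaf (nat_lit 54814362675))))
def t3_N_5 : Tr := .node (.node (.node (.node (.leaf (nat_lit 82000))
  (.leaf (nat_lit 773555937)))
  (.node (.leaf (nat_lit 741603953296))
  (.leaf (nat_lit 594))))
  (.node (.node (.leaf (nat_lit 600827313697))
  (.leaf (nat_lit 8199)))
  (.leaf (nat_lit 53755873875))))
  (.node (.node (.node (.leaf (nat_lit 0x4de37cde378441))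
  (.leaf (nat_lit 66)))
  (.node (.leaf (nat_lit 51250))
  (.leaf (nat_lit 23575))))
  (.node (.node (.leaf (nat_lit 687763430587919))
  (.leaf (nat_lit 461)))
  (.leaf (nat_lit 741018306))))
def t3_N_6 : Tr := .node (.node (.node (.node (.leaf (nat_lit 68675))
  (.leaf (nat_lit 24239714)))
  (.node (.leaf (nat_lit 691123848257))
  (.leaf (nat_lit 561))))
  (.node (.node (.leaf (nat_lit 522242529))
  (.leaf (nat_lit 198)))
  (.leaf (nat_lit 36543483475))))
  (.node (.node (.node (.leaf (nat_lit 0x24f849f28be507ca0f8be01))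
  (.leaf (nat_lit 33)))
  (.node (.leaf (nat_lit 2873422875713))
  (.leaf (nat_lit 726))))
  (.node (.node (.leaf (nat_lit 624479825))
  (.leaf (nat_lit 12299)))
  (.leaf (nat_lit 740035))))
def t3_N_7 : Tr := .node (.node (.node (.node (.leaf (nat_lit 36542908450))
  (.leaf (nat_lit 791987062369)))
  (.node (.leaf (nat_lit 708242))
  (.leaf (nat_lit 19475))))
  (.node (.node (.leaf (nat_lit 625250))
  (.leaf (nat_lit 329)))
  (.leaf (nat_lit 70417156691))))
  (.node (.node (.node (.leaf (nat_lit 704143))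
  (.leaf (nat_lit 3075)))
  (.leaf (nat_lit 1697696355)))
  (.node (.node (.leaf (nat_lit 705168))
  (.leaf (nat_lit 430)))
  (.leaf (nat_lit 755698178))))
def t3_N_8 : Tr := .node (.node (.node (.node (.leaf (nat_lit 574000))
  (.leaf (nat_lit 23679009857)))
  (.node (.leaf (nat_lit 726729793))
  (.leaf (nat_lit 495))))
  (.node (.node (.leaf (nat_lit 707219))
  (.leaf (nat_lit 4100)))
  (.leaf (nat_lit 1698236003))))
  (.node (.node (.node (.leaf (nat_lit 0x45e38be237c46f88de3))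
  (.leaf (nat_lit 2921367607)))
  (.node (.leaf (nat_lit 659052144))
  (.leaf (nat_lit 21524))))
  (.node (.node (.leaf (nat_lit 670668701199))
  (.leaf (nat_lit 298)))
  (.leaf (nat_lit 54846851667))))
def t3_N_9 : Tr := .node (.node (.node (.node (.leaf (nat_lit 48175))
  (.leaf (nat_lit 790332961)))
  (.node (.leaf (nat_lit 741590321795))
  (.leaf (nat_lit 594))))
  (.node (.node (.leaf (nat_lit 566467575297))
  (.leaf (nat_lit 263)))
  (.leaf (nat_lit 55384788563))))
  (.node (.node (.node (.leaf (nat_lit 21427041848802))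
  (.leaf (nat_lit 66)))
  (.node (.leaf (nat_lit 85075))
  (.leaf (nat_lit 759))))
  (.node (.node (.leaf (nat_lit 2868014320705))
  (.leaf (nat_lit 11276)))
  (.leaf (nat_lit 739025))))
def t3_N_10 : Tr := .node (.node (.node (.node (.leaf (nat_lit 560675))
  (.leaf (nat_lit 771825)))
  (.node (.leaf (nat_lit 20050495056))
  (.leaf (nat_lit 16400))))
  (.node (.node (.leaf (nat_lit 589842992))
  (.leaf (nat_lit 198)))
  (.leaf (nat_lit 1159792195))))
  (.node (.node (.node (.leaf (nat_lit 0x49e37c86f1bc61))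
  (.leaf (nat_lit 693369444096630)))
  (.node (.leaf (nat_lit 738300903041))
  (.leaf (nat_lit 726))))
  (.node (.node (.leaf (nat_lit 624447056))
  (.leaf (nat_lit 395)))
  (.leaf (nat_lit 2252779145827))))
def t3_N_11 : Tr := .node (.node (.node (.node (.leaf (nat_lit 50225))
  (.leaf (nat_lit 24787354689)))
  (.node (.leaf (nat_lit 723601765499969))
  (.leaf (nat_lit 627))))
  (.node (.node (.leaf (nat_lit 640625))
  (.leaf (nat_lit 7176)))
  (.leaf (nat_lit 54829582931))))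
  (.node (.node (.node (.leaf (nat_lit 690817))
  (.leaf (nat_lit 99)))
  (.leaf (nat_lit 2803976803)))
  (.node (.node (.leaf (nat_lit 658081))
  (.leaf (nat_lit 430)))
  (.leaf (nat_lit 754649570))))
def t3_N_12 : Tr := .node (.node (.node (.node (.leaf (nat_lit 0x45f08be117c22f845f0))
  (.leaf (nat_lit 769775)))
  (.node (.leaf (nat_lit 626545232))
  (.leaf (nat_lit 528))))
  (.node (.node (.leaf (nat_lit 607825))
  (.leaf (nat_lit 165)))
  (.leaf (nat_lit 1712934467))))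
  (.node (.node (.node (.leaf (nat_lit 18958434))
  (.leaf (nat_lit 834244505754358)))
  (.node (.leaf (nat_lit 675000943681))
  (.leaf (nat_lit 661))))
  (.node (.node (.leaf (nat_lit 600861949474))
  (.leaf (nat_lit 9226)))
  (.leaf (nat_lit 36560734259))))
def t3_N_13 : Tr := .node (.node (.node (.node (.leaf (nat_lit 49200))
  (.leaf (nat_lit 25336448097)))
  (.node (.leaf (nat_lit 741605001873))
  (.leaf (nat_lit 18450))))
  (.node (.node (.leaf (nat_lit 635187052097))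
  (.leaf (nat_lit 232)))
  (.leaf (nat_lit 619617815123))))
  (.node (.node (.node (.leaf (nat_lit 0x117c26f84df38be707ce0f))
  (.leaf (nat_lit 2050)))
  (.node (.leaf (nat_lit 2689603))
  (.leaf (nat_lit 0))))
  (.node (.node (.leaf (nat_lit 616262396264994))
  (.leaf (nat_lit 461)))
  (.leaf (nat_lit 711319))))
def t3_N_14 : Tr := .node (.node (.node (.node (.leaf (nat_lit 35875))
  (.leaf (nat_lit 788235745)))
  (.node (.leaf (nat_lit 535430842849))
  (.leaf (nat_lit 561))))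
  (.node (.node (.leaf (nat_lit 19833276514))
  (.leaf (nat_lit 6150)))
  (.leaf (nat_lit 69861985875))))
  (.node (.node (.node (.leaf (nat_lit 639600))
  (.leaf (nat_lit 33)))
  (.node (.leaf (nat_lit 690619570783297))
  (.leaf (nat_lit 22550))))
  (.node (.node (.leaf (nat_lit 604097858096))
  (.leaf (nat_lit 364)))
  (.leaf (nat_lit 736975))))
def t3_N_15 : Tr := .node (.node (.node (.node (.leaf (nat_lit 0x882278de378de3))
  (.leaf (nat_lit 791416636481)))
  (.node (.leaf (nat_lit 675506))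
  (.leaf (nat_lit 692))))
  (.node (.node (.leaf (nat_lit 590892592))
  (.leaf (nat_lit 329)))
  (.leaf (nat_lit 88100342355))))
  (.node (.node (.node (.leaf (nat_lit 22598192))
  (.leaf (nat_lit 132)))
  (.leaf (nat_lit 1160809059)))
  (.node (.node (.leaf (nat_lit 21550640))
  (.leaf (nat_lit 13326)))
  (.leaf (nat_lit 756746786))))
def t3_N : Tr := .node (.node (.node (.node t3_N_0
  t3_N_1)
  (.node t3_N_2
  t3_N_3))
  (.node (.node t3_N_4
  t3_N_5)
  (.node t3_N_6
  t3_N_7)))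
  (.node (.node (.node t3_N_8
  t3_N_9)
  (.node t3_N_10
  t3_N_11))
  (.node (.node t3_N_12
  t3_N_13)
  (.node t3_N_14
  t3_N_15)))
noncomputable def t3 : TC :=
  ⟨[.l 0, .l 1, .l 2, .l 3, .l 4, .l 5, .l 6, .l 7, .l 8, .l 9, .l 10, .l 11, .l 12, .l 13, .l 14, .l 15, .l 16, .l 17, .l 18, .l 19, .l 20, .l 21, .l 22, .l 23],
    (nat_lit 8), (nat_lit 10), (nat_lit 0xbda959ca307b5cb62547418a418820), (nat_lit 2064399), (nat_lit 152), (nat_lit 7), (nat_lit 32), (nat_lit 10), (nat_lit 221),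
    get (nat_lit 10) (nat_lit 0x400c0400c02010030080400c02010030080400c02010030080400c02010030080400c02010030080400c02010030080400c02010030080400c02010030080400c02010030080400c02010030080400c02010030080400c020280c0280601c070200801c0701c060180601805010040100801c070180601806010060100401004024090200802008020080200802008020080200801c0701c0701c0701c0701c06014040100a02809020080200701806010040280902008020080200801c070180601806014040100a0280a02408020060180802008020060180401004020080200801c0601804010040100e01404010100440b024070101202c090140403c0e03008010040100401004010040100403c0a01006), Tr.get t3_N, get (nat_lit 20) (nat_lit 0x3ff003ff003ff003ff003ff003ff003ff003ff003ff003ff003ff003ff003ff003ff003ff003ff003ff003ff003ff003ff003ff003ff003ff003ff003ff003ff003ff003ff003ff003ff003ff003ff003ff003ff003ff003ff003ff003ff003ff003ff003ff003ff003ff003ff003ff003ff003ff003ff003ff003ff003ff003ff003ff003ff003ff003ff003ff003ff003ff003ff003ff003ff003ff003ff003ff003f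f003ff003ff003ff003ff003ff0009500094000930009200091000900008f0008e0008d0008c0008b0008a000890008800087000860008500084000830008200081000800007f0007e0007d0007c0007b0007a000790007800077000760007500074000730007200071000700006f0006e0006d0006c0006b0006a000690006800067000660006500064000630006200061000600005f0005e0005d0005c0005b0005a000590005800057000560005500054000530005200051000500004f0004e0004d0004c0004b0004a000490004800047000460004500044000430004200041000400003f0003e0003d0003c0003b0003a000390003800037000360003500034000330003200031000300002f0002e0002d0002c0002b0002a000290002800027000260002500024000230002200021000200001f0001e0001d0001c0001b0001a000190001800017000160001500014000130001200011000100000f0000e0000d0000c0000b0000a00009000080000700006000050000400003000020000100000),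
    Tr.get3 t3_F (nat_lit 26) (nat_lit 5), Tr.get3 t3_T (nat_lit 8) (nat_lit 6), Tr.get t3_P⟩

theorem t3_head : t3.headOK R3 iv = true := by decide +kernel

theorem t3_b0 : allFrom (nat_lit 0) (nat_lit 10) t3.blockOK = true := by decide +kernel

theorem t3_blocks : ∀ t < t3.k, t3.blockOK t = true :=
  (of_allFrom_append of_lt_zero t3_b0)

theorem t3_mem0 {G : Type*} [Group G] {γ : ℕ → G} (hL : Lab γ iv) (hr : ∀ t ∈ R3, t.ev γ = 1) {K : Subgroup G}
    (hK : ∀ t ∈ ([.l 1, .l 2, .l 3, .l 15, .l 16, .l 17, .l 18, .l 19, .l 20] : List W), t.ev γ ∈ K) :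
    W.ev γ (.pow (.mul (.l 23) (.l 18)) 5) ∈ K :=
  TC.mem (D := t3) hL (List.forall_mem_cons.2 ⟨hL.zero_mem K, hK⟩) hr t3_head t3_blocks
    (n := (nat_lit 10)) (w := (nat_lit 659251265101399)) (st := (nat_lit 0x4e00503c271661e1602603804)) (by decide +kernel) (by decide +kernel)

theorem t3_mem1 {G : Type*} [Group G] {γ : ℕ → G} (hL : Lab γ iv) (hr : ∀ t ∈ R3, t.ev γ = 1) {K : Subgroup G}
    (hK : ∀ t ∈ ([.l 1, .l 2, .l 3, .l 15, .l 16, .l 17, .l 18, .l 19, .l 20] : List W), t.ev γ ∈ K) :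
    W.ev γ (.mul (.mul (.mul (.mul (.mul (.mul (.mul (.mul (.mul (.mul (.mul (.mul (.mul (.mul (.mul (.mul (.l 22) (.l 19)) (.l 22)) (.l 19)) (.l 2)) (.l 22)) (.l 1)) (.l 22)) (.l 2)) (.l 19)) (.l 22)) (.l 19)) (.l 22)) (.l 19)) (.l 18)) (.l 19)) (.l 1)) ∈ K :=
  TC.mem (D := t3) hL (List.forall_mem_cons.2 ⟨hL.zero_mem K, hK⟩) hr t3_head t3_blocks
    (n := (nat_lit 17)) (w := (nat_lit 0x19ca769da62b06c29da76)) (st := (nat_lit 0x1304e9384e803024190fe3a30ed030a3b0f81802002)) (by decide +kernel) (by decide +kernel)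

theorem t3_mem2 {G : Type*} [Group G] {γ : ℕ → G} (hL : Lab γ iv) (hr : ∀ t ∈ R3, t.ev γ = 1) {K : Subgroup G}
    (hK : ∀ t ∈ ([.l 1, .l 2, .l 3, .l 15, .l 16, .l 17, .l 18, .l 19, .l 20] : List W), t.ev γ ∈ K) :
    W.ev γ (.mul (.mul (.mul (.mul (.mul (.mul (.mul (.mul (.mul (.mul (.mul (.mul (.mul (.l 22) (.l 19)) (.l 22)) (.l 19)) (.l 2)) (.l 22)) (.l 2)) (.l 22)) (.l 2)) (.l 19)) (.l 22)) (.l 19)) (.l 22)) (.l 19)) ∈ K :=
  TC.mem (D := t3) hL (List.forall_mem_cons.2 ⟨hL.zero_mem K, hK⟩) hr t3_head t3_blocks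
    (n := (nat_lit 14)) (w := (nat_lit 0x2769da62b0ac29da76)) (st := (nat_lit 0x4e803024190fe3a30ece30a3b0f81802002)) (by decide +kernel) (by decide +kernel)

theorem t3_mem3 {G : Type*} [Group G] {γ : ℕ → G} (hL : Lab γ iv) (hr : ∀ t ∈ R3, t.ev γ = 1) {K : Subgroup G}
    (hK : ∀ t ∈ ([.l 1, .l 2, .l 3, .l 15, .l 16, .l 17, .l 18, .l 19, .l 20] : List W), t.ev γ ∈ K) :
    W.ev γ (.mul (.mul (.mul (.mul (.mul (.mul (.mul (.mul (.mul (.mul (.mul (.mul (.mul (.mul (.mul (.mul (.l 22) (.l 19)) (.l 22)) (.l 19)) (.l 2)) (.l 22)) (.l 3)) (.l 22)) (.l 2)) (.l 19)) (.l 22)) (.l 19)) (.l 22)) (.l 19)) (.l 1)) (.l 19)) (.l 1)) ∈ K :=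
  TC.mem (D := t3) hL (List.forall_mem_cons.2 ⟨hL.zero_mem K, hK⟩) hr t3_head t3_blocks
    (n := (nat_lit 17)) (w := (nat_lit 0x1986769da62b0ec29da76)) (st := (nat_lit 0x1304e9304e803024190fe3a30ecc30a3b0f81802002)) (by decide +kernel) (by decide +kernel)

theorem t3_mem4 {G : Type*} [Group G] {γ : ℕ → G} (hL : Lab γ iv) (hr : ∀ t ∈ R3, t.ev γ = 1) {K : Subgroup G}
    (hK : ∀ t ∈ ([.l 1, .l 2, .l 3, .l 15, .l 16, .l 17, .l 18, .l 19, .l 20] : List W), t.ev γ ∈ K) :
    W.ev γ (.mul (.mul (.mul (.mul (.mul (.mul (.mul (.mul (.mul (.mul (.mul (.mul (.mul (.mul (.l 22) (.l 19)) (.l 22)) (.l 19)) (.l 2)) (.l 22)) (.l 18)) (.l 22)) (.l 2)) (.l 19)) (.l 22)) (.l 19)) (.l 22)) (.l 3)) (.l 1)) ∈ K :=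
  TC.mem (D := t3) hL (List.forall_mem_cons.2 ⟨hL.zero_mem K, hK⟩) hr t3_head t3_blocks
    (n := (nat_lit 15)) (w := (nat_lit 0x4769da62b4ac29da76)) (st := (nat_lit 0x1304d003024190fe3a30eca30a3b0f81802002)) (by decide +kernel) (by decide +kernel)

theorem t3_mem5 {G : Type*} [Group G] {γ : ℕ → G} (hL : Lab γ iv) (hr : ∀ t ∈ R3, t.ev γ = 1) {K : Subgroup G}
    (hK : ∀ t ∈ ([.l 1, .l 2, .l 3, .l 15, .l 16, .l 17, .l 18, .l 19, .l 20] : List W), t.ev γ ∈ K) :
    W.ev γ (.mul (.mul (.mul (.mul (.mul (.mul (.mul (.mul (.mul (.mul (.mul (.mul (.mul (.mul (.l 22) (.l 19)) (.l 22)) (.l 19)) (.l 2)) (.l 22)) (.l 19)) (.l 22)) (.l 2)) (.l 19)) (.l 22)) (.l 19)) (.l 22)) (.l 19)) (.l 2)) ∈ K :=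
  TC.mem (D := t3) hL (List.forall_mem_cons.2 ⟨hL.zero_mem K, hK⟩) hr t3_head t3_blocks
    (n := (nat_lit 15)) (w := (nat_lit 0xa769da62b4ec29da76)) (st := (nat_lit 0x1324e803024190fe3a30f7c30a3b0f81802002)) (by decide +kernel) (by decide +kernel)

theorem t3_mem6 {G : Type*} [Group G] {γ : ℕ → G} (hL : Lab γ iv) (hr : ∀ t ∈ R3, t.ev γ = 1) {K : Subgroup G}
    (hK : ∀ t ∈ ([.l 1, .l 2, .l 3, .l 15, .l 16, .l 17, .l 18, .l 19, .l 20] : List W), t.ev γ ∈ K) :
    W.ev γ (.mul (.mul (.mul (.mul (.mul (.mul (.mul (.mul (.mul (.mul (.mul (.mul (.mul (.l 23) (.l 18)) (.l 23)) (.l 18)) (.l 1)) (.l 23)) (.l 1)) (.l 23)) (.l 1)) (.l 18)) (.l 23)) (.l 18)) (.l 23)) (.l 18)) ∈ K :=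
  TC.mem (D := t3) hL (List.forall_mem_cons.2 ⟨hL.zero_mem K, hK⟩) hr t3_head t3_blocks
    (n := (nat_lit 14)) (w := (nat_lit 0x25795e41b86e195e57)) (st := (nat_lit 0x4e00503c2716690376f4372911602603804)) (by decide +kernel) (by decide +kernel)

theorem t3_mem7 {G : Type*} [Group G] {γ : ℕ → G} (hL : Lab γ iv) (hr : ∀ t ∈ R3, t.ev γ = 1) {K : Subgroup G}
    (hK : ∀ t ∈ ([.l 1, .l 2, .l 3, .l 15, .l 16, .l 17, .l 18, .l 19, .l 20] : List W), t.ev γ ∈ K) :
    W.ev γ (.mul (.mul (.mul (.mul (.mul (.mul (.mul (.mul (.mul (.mul (.mul (.mul (.mul (.mul (.mul (.mul (.l 23) (.l 18)) (.l 23)) (.l 18)) (.l 1)) (.l 23)) (.l 2)) (.l 23)) (.l 1)) (.l 18)) (.l 23)) (.l 18)) (.l 23)) (.l 19)) (.l 1)) (.l 2)) (.l 1)) ∈ K :=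
  TC.mem (D := t3) hL (List.forall_mem_cons.2 ⟨hL.zero_mem K, hK⟩) hr t3_head t3_blocks
    (n := (nat_lit 17)) (w := (nat_lit 0x11067795e41b8ae195e57)) (st := (nat_lit 0x1304c9304e80503c2716690376f8372911602603804)) (by decide +kernel) (by decide +kernel)

theorem t3_mem8 {G : Type*} [Group G] {γ : ℕ → G} (hL : Lab γ iv) (hr : ∀ t ∈ R3, t.ev γ = 1) {K : Subgroup G}
    (hK : ∀ t ∈ ([.l 1, .l 2, .l 3, .l 15, .l 16, .l 17, .l 18, .l 19, .l 20] : List W), t.ev γ ∈ K) :
    W.ev γ (.mul (.mul (.mul (.mul (.mul (.mul (.mul (.mul (.mul (.mul (.mul (.mul (.mul (.mul (.mul (.mul (.l 23) (.l 18)) (.l 23)) (.l 18)) (.l 1)) (.l 23)) (.l 3)) (.l 23)) (.l 1)) (.l 18)) (.l 23)) (.l 18)) (.l 23)) (.l 2)) (.l 1)) (.l 2)) (.l 1)) ∈ K :=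
  TC.mem (D := t3) hL (List.forall_mem_cons.2 ⟨hL.zero_mem K, hK⟩) hr t3_head t3_blocks
    (n := (nat_lit 17)) (w := (nat_lit 0x11045795e41b8ee195e57)) (st := (nat_lit 0x1304c9304c80503c2716690376f2372911602603804)) (by decide +kernel) (by decide +kernel)

theorem t3_mem9 {G : Type*} [Group G] {γ : ℕ → G} (hL : Lab γ iv) (hr : ∀ t ∈ R3, t.ev γ = 1) {K : Subgroup G}
    (hK : ∀ t ∈ ([.l 1, .l 2, .l 3, .l 15, .l 16, .l 17, .l 18, .l 19, .l 20] : List W), t.ev γ ∈ K) :
    W.ev γ (.mul (.mul (.mul (.mul (.mul (.mul (.mul (.mul (.mul (.mul (.mul (.mul (.mul (.mul (.l 23) (.l 18)) (.l 23)) (.l 18)) (.l 1)) (.l 23)) (.l 18)) (.l 23)) (.l 1)) (.l 18)) (.l 23)) (.l 18)) (.l 23)) (.l 18)) (.l 1)) ∈ K :=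
  TC.mem (D := t3) hL (List.forall_mem_cons.2 ⟨hL.zero_mem K, hK⟩) hr t3_head t3_blocks
    (n := (nat_lit 15)) (w := (nat_lit 0x65795e41bcae195e57)) (st := (nat_lit 0x1304e00503c27166903777e372911602603804)) (by decide +kernel) (by decide +kernel)

theorem t3_mem10 {G : Type*} [Group G] {γ : ℕ → G} (hL : Lab γ iv) (hr : ∀ t ∈ R3, t.ev γ = 1) {K : Subgroup G}
    (hK : ∀ t ∈ ([.l 1, .l 2, .l 3, .l 15, .l 16, .l 17, .l 18, .l 19, .l 20] : List W), t.ev γ ∈ K) :
    W.ev γ (.mul (.mul (.mul (.mul (.mul (.mul (.mul (.mul (.mul (.mul (.mul (.mul (.mul (.mul (.mul (.mul (.l 23) (.l 18)) (.l 23)) (.l 18)) (.l 1)) (.l 23)) (.l 19)) (.l 23)) (.l 1)) (.l 18)) (.l 23)) (.l 18)) (.l 23)) (.l 3)) (.l 1)) (.l 2)) (.l 1)) ∈ K :=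
  TC.mem (D := t3) hL (List.forall_mem_cons.2 ⟨hL.zero_mem K, hK⟩) hr t3_head t3_blocks
    (n := (nat_lit 17)) (w := (nat_lit 0x11047795e41bcee195e57)) (st := (nat_lit 0x1304c9304d00503c2716690376f6372911602603804)) (by decide +kernel) (by decide +kernel)

theorem t3_mem11 {G : Type*} [Group G] {γ : ℕ → G} (hL : Lab γ iv) (hr : ∀ t ∈ R3, t.ev γ = 1) {K : Subgroup G}
    (hK : ∀ t ∈ ([.l 1, .l 2, .l 3, .l 15, .l 16, .l 17, .l 18, .l 19, .l 20] : List W), t.ev γ ∈ K) :
    W.ev γ (.mul (.mul (.mul (.mul (.mul (.l 3) (.l 22)) (.l 1)) (.l 18)) (.l 1)) (.l 22)) ∈ K :=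
  TC.mem (D := t3) hL (List.forall_mem_cons.2 ⟨hL.zero_mem K, hK⟩) hr t3_head t3_blocks
    (n := (nat_lit 6)) (w := (nat_lit 739837635)) (st := (nat_lit 0xd444f94400934)) (by decide +kernel) (by decide +kernel)

theorem t3_mem12 {G : Type*} [Group G] {γ : ℕ → G} (hL : Lab γ iv) (hr : ∀ t ∈ R3, t.ev γ = 1) {K : Subgroup G}
    (hK : ∀ t ∈ ([.l 1, .l 2, .l 3, .l 15, .l 16, .l 17, .l 18, .l 19, .l 20] : List W), t.ev γ ∈ K) :
    W.ev γ (.mul (.mul (.mul (.mul (.mul (.l 3) (.l 2)) (.l 22)) (.l 18)) (.l 22)) (.l 2)) ∈ K :=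
  TC.mem (D := t3) hL (List.forall_mem_cons.2 ⟨hL.zero_mem K, hK⟩) hr t3_head t3_blocks
    (n := (nat_lit 6)) (w := (nat_lit 90789955)) (st := (nat_lit 0x4c8034f8024c934)) (by decide +kernel) (by decide +kernel)

theorem t3_mem13 {G : Type*} [Group G] {γ : ℕ → G} (hL : Lab γ iv) (hr : ∀ t ∈ R3, t.ev γ = 1) {K : Subgroup G}
    (hK : ∀ t ∈ ([.l 1, .l 2, .l 3, .l 15, .l 16, .l 17, .l 18, .l 19, .l 20] : List W), t.ev γ ∈ K) :
    W.ev γ (.mul (.mul (.mul (.mul (.mul (.l 3) (.l 1)) (.l 22)) (.l 18)) (.l 22)) (.l 1)) ∈ K :=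
  TC.mem (D := t3) hL (List.forall_mem_cons.2 ⟨hL.zero_mem K, hK⟩) hr t3_head t3_blocks
    (n := (nat_lit 6)) (w := (nat_lit 57235491)) (st := (nat_lit 0x4c0034f8024c134)) (by decide +kernel) (by decide +kernel)

theorem t3_mem14 {G : Type*} [Group G] {γ : ℕ → G} (hL : Lab γ iv) (hr : ∀ t ∈ R3, t.ev γ = 1) {K : Subgroup G}
    (hK : ∀ t ∈ ([.l 1, .l 2, .l 3, .l 15, .l 16, .l 17, .l 18, .l 19, .l 20] : List W), t.ev γ ∈ K) :
    W.ev γ (.mul (.mul (.mul (.mul (.mul (.l 22) (.l 2)) (.l 22)) (.l 2)) (.l 22)) (.l 2)) ∈ K :=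
  TC.mem (D := t3) hL (List.forall_mem_cons.2 ⟨hL.zero_mem K, hK⟩) hr t3_head t3_blocks
    (n := (nat_lit 6)) (w := (nat_lit 90265686)) (st := (nat_lit 0x4c80301d5601802)) (by decide +kernel) (by decide +kernel)

theorem t3_mem15 {G : Type*} [Group G] {γ : ℕ → G} (hL : Lab γ iv) (hr : ∀ t ∈ R3, t.ev γ = 1) {K : Subgroup G}
    (hK : ∀ t ∈ ([.l 1, .l 2, .l 3, .l 15, .l 16, .l 17, .l 18, .l 19, .l 20] : List W), t.ev γ ∈ K) :
    W.ev γ (.mul (.mul (.mul (.mul (.mul (.mul (.l 3) (.l 18)) (.l 22)) (.l 2)) (.l 18)) (.l 2)) (.l 22)) ∈ K :=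
  TC.mem (D := t3) hL (List.forall_mem_cons.2 ⟨hL.zero_mem K, hK⟩) hr t3_head t3_blocks
    (n := (nat_lit 7)) (w := (nat_lit 23708392003)) (st := (nat_lit 0x301d54018024e134)) (by decide +kernel) (by decide +kernel)

theorem t3_mem16 {G : Type*} [Group G] {γ : ℕ → G} (hL : Lab γ iv) (hr : ∀ t ∈ R3, t.ev γ = 1) {K : Subgroup G}
    (hK : ∀ t ∈ ([.l 1, .l 2, .l 3, .l 15, .l 16, .l 17, .l 18, .l 19, .l 20] : List W), t.ev γ ∈ K) :
    W.ev γ (.mul (.mul (.mul (.mul (.mul (.mul (.l 3) (.l 22)) (.l 19)) (.l 18)) (.l 19)) (.l 22)) (.l 1)) ∈ K :=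
  TC.mem (D := t3) hL (List.forall_mem_cons.2 ⟨hL.zero_mem K, hK⟩) hr t3_head t3_blocks
    (n := (nat_lit 7)) (w := (nat_lit 1832472259)) (st := (nat_lit 0x13000c095800800934)) (by decide +kernel) (by decide +kernel)

theorem t3_mem17 {G : Type*} [Group G] {γ : ℕ → G} (hL : Lab γ iv) (hr : ∀ t ∈ R3, t.ev γ = 1) {K : Subgroup G}
    (hK : ∀ t ∈ ([.l 1, .l 2, .l 3, .l 15, .l 16, .l 17, .l 18, .l 19, .l 20] : List W), t.ev γ ∈ K) :
    W.ev γ (.mul (.mul (.mul (.mul (.mul (.mul (.l 19) (.l 18)) (.l 19)) (.l 18)) (.l 22)) (.l 1)) (.l 22)) ∈ K :=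
  TC.mem (D := t3) hL (List.forall_mem_cons.2 ⟨hL.zero_mem K, hK⟩) hr t3_head t3_blocks
    (n := (nat_lit 7)) (w := (nat_lit 23679553107)) (st := (nat_lit 0x3510024e13a4e13a)) (by decide +kernel) (by decide +kernel)

theorem t3_mem18 {G : Type*} [Group G] {γ : ℕ → G} (hL : Lab γ iv) (hr : ∀ t ∈ R3, t.ev γ = 1) {K : Subgroup G}
    (hK : ∀ t ∈ ([.l 1, .l 2, .l 3, .l 15, .l 16, .l 17, .l 18, .l 19, .l 20] : List W), t.ev γ ∈ K) :
    W.ev γ (.mul (.mul (.mul (.mul (.mul (.mul (.l 22) (.l 2)) (.l 1)) (.l 2)) (.l 1)) (.l 22)) (.l 1)) ∈ K :=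
  TC.mem (D := t3) hL (List.forall_mem_cons.2 ⟨hL.zero_mem K, hK⟩) hr t3_head t3_blocks
    (n := (nat_lit 7)) (w := (nat_lit 1813054550)) (st := (nat_lit 0x13000d4401d5801802)) (by decide +kernel) (by decide +kernel)

theorem t3_mem19 {G : Type*} [Group G] {γ : ℕ → G} (hL : Lab γ iv) (hr : ∀ t ∈ R3, t.ev γ = 1) {K : Subgroup G}
    (hK : ∀ t ∈ ([.l 1, .l 2, .l 3, .l 15, .l 16, .l 17, .l 18, .l 19, .l 20] : List W), t.ev γ ∈ K) :
    W.ev γ (.mul (.mul (.mul (.mul (.mul (.mul (.mul (.l 3) (.l 19)) (.l 22)) (.l 1)) (.l 22)) (.l 1)) (.l 19)) (.l 1)) ∈ K :=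
  TC.mem (D := t3) hL (List.forall_mem_cons.2 ⟨hL.zero_mem K, hK⟩) hr t3_head t3_blocks
    (n := (nat_lit 8)) (w := (nat_lit 54817512035)) (st := (nat_lit 0x4c13a4c003510024e934)) (by decide +kernel) (by decide +kernel)

theorem t3_mem20 {G : Type*} [Group G] {γ : ℕ → G} (hL : Lab γ iv) (hr : ∀ t ∈ R3, t.ev γ = 1) {K : Subgroup G}
    (hK : ∀ t ∈ ([.l 1, .l 2, .l 3, .l 15, .l 16, .l 17, .l 18, .l 19, .l 20] : List W), t.ev γ ∈ K) :
    W.ev γ (.mul (.mul (.mul (.mul (.mul (.mul (.mul (.l 3) (.l 19)) (.l 1)) (.l 22)) (.l 1)) (.l 22)) (.l 19)) (.l 1)) ∈ K :=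
  TC.mem (D := t3) hL (List.forall_mem_cons.2 ⟨hL.zero_mem K, hK⟩) hr t3_head t3_blocks
    (n := (nat_lit 8)) (w := (nat_lit 55500801635)) (st := (nat_lit 0x4c13a00d44009304e934)) (by decide +kernel) (by decide +kernel)

theorem t3_mem21 {G : Type*} [Group G] {γ : ℕ → G} (hL : Lab γ iv) (hr : ∀ t ∈ R3, t.ev γ = 1) {K : Subgroup G}
    (hK : ∀ t ∈ ([.l 1, .l 2, .l 3, .l 15, .l 16, .l 17, .l 18, .l 19, .l 20] : List W), t.ev γ ∈ K) :
    W.ev γ (.mul (.mul (.mul (.mul (.mul (.mul (.mul (.l 3) (.l 22)) (.l 1)) (.l 22)) (.l 19)) (.l 1)) (.l 19)) (.l 1)) ∈ K :=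
  TC.mem (D := t3) hL (List.forall_mem_cons.2 ⟨hL.zero_mem K, hK⟩) hr t3_head t3_blocks
    (n := (nat_lit 8)) (w := (nat_lit 54815033027)) (st := (nat_lit 0x4c13a4c13a00d4400934)) (by decide +kernel) (by decide +kernel)

theorem t3_mem22 {G : Type*} [Group G] {γ : ℕ → G} (hL : Lab γ iv) (hr : ∀ t ∈ R3, t.ev γ = 1) {K : Subgroup G}
    (hK : ∀ t ∈ ([.l 1, .l 2, .l 3, .l 15, .l 16, .l 17, .l 18, .l 19, .l 20] : List W), t.ev γ ∈ K) :
    W.ev γ (.mul (.mul (.mul (.mul (.mul (.mul (.mul (.l 3) (.l 2)) (.l 1)) (.l 22)) (.l 18)) (.l 22)) (.l 1)) (.l 2)) ∈ K :=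
  TC.mem (D := t3) hL (List.forall_mem_cons.2 ⟨hL.zero_mem K, hK⟩) hr t3_head t3_blocks
    (n := (nat_lit 8)) (w := (nat_lit 70551012419)) (st := (nat_lit 0x4c93000d3e009304c934)) (by decide +kernel) (by decide +kernel)

theorem t3_mem23 {G : Type*} [Group G] {γ : ℕ → G} (hL : Lab γ iv) (hr : ∀ t ∈ R3, t.ev γ = 1) {K : Subgroup G}
    (hK : ∀ t ∈ ([.l 1, .l 2, .l 3, .l 15, .l 16, .l 17, .l 18, .l 19, .l 20] : List W), t.ev γ ∈ K) :
    W.ev γ (.mul (.mul (.mul (.mul (.mul (.mul (.mul (.l 3) (.l 1)) (.l 2)) (.l 22)) (.l 18)) (.l 22)) (.l 2)) (.l 1)) ∈ K :=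
  TC.mem (D := t3) hL (List.forall_mem_cons.2 ⟨hL.zero_mem K, hK⟩) hr t3_head t3_blocks
    (n := (nat_lit 8)) (w := (nat_lit 37265016867)) (st := (nat_lit 0x4c13200d3e009324c134)) (by decide +kernel) (by decide +kernel)

theorem t3_mem24 {G : Type*} [Group G] {γ : ℕ → G} (hL : Lab γ iv) (hr : ∀ t ∈ R3, t.ev γ = 1) {K : Subgroup G}
    (hK : ∀ t ∈ ([.l 1, .l 2, .l 3, .l 15, .l 16, .l 17, .l 18, .l 19, .l 20] : List W), t.ev γ ∈ K) :
    W.ev γ (.mul (.mul (.mul (.mul (.l 3) (.l 23)) (.l 19)) (.l 2)) (.l 23)) ∈ K :=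
  TC.mem (D := t3) hL (List.forall_mem_cons.2 ⟨hL.zero_mem K, hK⟩) hr t3_head t3_blocks
    (n := (nat_lit 5)) (w := (nat_lit 24202979)) (st := (nat_lit 5856536039732)) (by decide +kernel) (by decide +kernel)

theorem t3_mem25 {G : Type*} [Group G] {γ : ℕ → G} (hL : Lab γ iv) (hr : ∀ t ∈ R3, t.ev γ = 1) {K : Subgroup G}
    (hK : ∀ t ∈ ([.l 1, .l 2, .l 3, .l 15, .l 16, .l 17, .l 18, .l 19, .l 20] : List W), t.ev γ ∈ K) :
    W.ev γ (.mul (.mul (.mul (.mul (.mul (.l 23) (.l 1)) (.l 23)) (.l 1)) (.l 23)) (.l 1)) ∈ K :=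
  TC.mem (D := t3) hL (List.forall_mem_cons.2 ⟨hL.zero_mem K, hK⟩) hr t3_head t3_blocks
    (n := (nat_lit 6)) (w := (nat_lit 57728055)) (st := (nat_lit 0x4c0050356e03004)) (by decide +kernel) (by decide +kernel)

theorem t3_mem26 {G : Type*} [Group G] {γ : ℕ → G} (hL : Lab γ iv) (hr : ∀ t ∈ R3, t.ev γ = 1) {K : Subgroup G}
    (hK : ∀ t ∈ ([.l 1, .l 2, .l 3, .l 15, .l 16, .l 17, .l 18, .l 19, .l 20] : List W), t.ev γ ∈ K) :
    W.ev γ (.mul (.mul (.mul (.mul (.mul (.mul (.l 3) (.l 19)) (.l 3)) (.l 23)) (.l 3)) (.l 23)) (.l 2)) ∈ K :=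
  TC.mem (D := t3) hL (List.forall_mem_cons.2 ⟨hL.zero_mem K, hK⟩) hr t3_head t3_blocks
    (n := (nat_lit 7)) (w := (nat_lit 2923138659)) (st := (nat_lit 0x1320154a011344e934)) (by decide +kernel) (by decide +kernel)

theorem t3_mem27 {G : Type*} [Group G] {γ : ℕ → G} (hL : Lab γ iv) (hr : ∀ t ∈ R3, t.ev γ = 1) {K : Subgroup G}
    (hK : ∀ t ∈ ([.l 1, .l 2, .l 3, .l 15, .l 16, .l 17, .l 18, .l 19, .l 20] : List W), t.ev γ ∈ K) :
    W.ev γ (.mul (.mul (.mul (.mul (.mul (.mul (.l 3) (.l 19)) (.l 23)) (.l 3)) (.l 23)) (.l 3)) (.l 2)) ∈ K :=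
  TC.mem (D := t3) hL (List.forall_mem_cons.2 ⟨hL.zero_mem K, hK⟩) hr t3_head t3_blocks
    (n := (nat_lit 7)) (w := (nat_lit 2272386659)) (st := (nat_lit 0x1324d005528044e934)) (by decide +kernel) (by decide +kernel)

theorem t3_mem28 {G : Type*} [Group G] {γ : ℕ → G} (hL : Lab γ iv) (hr : ∀ t ∈ R3, t.ev γ = 1) {K : Subgroup G}
    (hK : ∀ t ∈ ([.l 1, .l 2, .l 3, .l 15, .l 16, .l 17, .l 18, .l 19, .l 20] : List W), t.ev γ ∈ K) :
    W.ev γ (.mul (.mul (.mul (.mul (.mul (.mul (.l 3) (.l 19)) (.l 23)) (.l 19)) (.l 2)) (.l 23)) (.l 19)) ∈ K :=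
  TC.mem (D := t3) hL (List.forall_mem_cons.2 ⟨hL.zero_mem K, hK⟩) hr t3_head t3_blocks
    (n := (nat_lit 7)) (w := (nat_lit 21175590499)) (st := (nat_lit 0x13a0154e530044e934)) (by decide +kernel) (by decide +kernel)

theorem t3_mem29 {G : Type*} [Group G] {γ : ℕ → G} (hL : Lab γ iv) (hr : ∀ t ∈ R3, t.ev γ = 1) {K : Subgroup G}
    (hK : ∀ t ∈ ([.l 1, .l 2, .l 3, .l 15, .l 16, .l 17, .l 18, .l 19, .l 20] : List W), t.ev γ ∈ K) :
    W.ev γ (.mul (.mul (.mul (.mul (.mul (.mul (.l 3) (.l 18)) (.l 23)) (.l 19)) (.l 2)) (.l 23)) (.l 18)) ∈ K :=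
  TC.mem (D := t3) hL (List.forall_mem_cons.2 ⟨hL.zero_mem K, hK⟩) hr t3_head t3_blocks
    (n := (nat_lit 7)) (w := (nat_lit 20101848643)) (st := (nat_lit 0x1380154e530044e134)) (by decide +kernel) (by decide +kernel)

theorem t3_mem30 {G : Type*} [Group G] {γ : ℕ → G} (hL : Lab γ iv) (hr : ∀ t ∈ R3, t.ev γ = 1) {K : Subgroup G}
    (hK : ∀ t ∈ ([.l 1, .l 2, .l 3, .l 15, .l 16, .l 17, .l 18, .l 19, .l 20] : List W), t.ev γ ∈ K) :
    W.ev γ (.mul (.mul (.mul (.mul (.mul (.mul (.l 3) (.l 2)) (.l 23)) (.l 19)) (.l 2)) (.l 23)) (.l 2)) ∈ K :=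
  TC.mem (D := t3) hL (List.forall_mem_cons.2 ⟨hL.zero_mem K, hK⟩) hr t3_head t3_blocks
    (n := (nat_lit 7)) (w := (nat_lit 2921978947)) (st := (nat_lit 0x1320154e530044c934)) (by decide +kernel) (by decide +kernel)

theorem t3_mem31 {G : Type*} [Group G] {γ : ℕ → G} (hL : Lab γ iv) (hr : ∀ t ∈ R3, t.ev γ = 1) {K : Subgroup G}
    (hK : ∀ t ∈ ([.l 1, .l 2, .l 3, .l 15, .l 16, .l 17, .l 18, .l 19, .l 20] : List W), t.ev γ ∈ K) :
    W.ev γ (.mul (.mul (.mul (.mul (.mul (.mul (.l 3) (.l 1)) (.l 23)) (.l 19)) (.l 2)) (.l 23)) (.l 1)) ∈ K :=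
  TC.mem (D := t3) hL (List.forall_mem_cons.2 ⟨hL.zero_mem K, hK⟩) hr t3_head t3_blocks
    (n := (nat_lit 7)) (w := (nat_lit 1848237091)) (st := (nat_lit 0x1300154e530044c134)) (by decide +kernel) (by decide +kernel)

theorem t3_mem32 {G : Type*} [Group G] {γ : ℕ → G} (hL : Lab γ iv) (hr : ∀ t ∈ R3, t.ev γ = 1) {K : Subgroup G}
    (hK : ∀ t ∈ ([.l 1, .l 2, .l 3, .l 15, .l 16, .l 17, .l 18, .l 19, .l 20] : List W), t.ev γ ∈ K) :
    W.ev γ (.mul (.mul (.mul (.mul (.mul (.mul (.l 19) (.l 23)) (.l 19)) (.l 23)) (.l 1)) (.l 19)) (.l 1)) ∈ K :=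
  TC.mem (D := t3) hL (List.forall_mem_cons.2 ⟨hL.zero_mem K, hK⟩) hr t3_head t3_blocks
    (n := (nat_lit 7)) (w := (nat_lit 1713098483)) (st := (nat_lit 0x1304e9300154c0113a)) (by decide +kernel) (by decide +kernel)

theorem t3_mem33 {G : Type*} [Group G] {γ : ℕ → G} (hL : Lab γ iv) (hr : ∀ t ∈ R3, t.ev γ = 1) {K : Subgroup G}
    (hK : ∀ t ∈ ([.l 1, .l 2, .l 3, .l 15, .l 16, .l 17, .l 18, .l 19, .l 20] : List W), t.ev γ ∈ K) :
    W.ev γ (.mul (.mul (.mul (.mul (.mul (.mul (.l 19) (.l 23)) (.l 2)) (.l 23)) (.l 18)) (.l 19)) (.l 18)) ∈ K :=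
  TC.mem (D := t3) hL (List.forall_mem_cons.2 ⟨hL.zero_mem K, hK⟩) hr t3_head t3_blocks
    (n := (nat_lit 7)) (w := (nat_lit 19984517875)) (st := (nat_lit 0x1384e9380154e0113a)) (by decide +kernel) (by decide +kernel)

theorem t3_mem34 {G : Type*} [Group G] {γ : ℕ → G} (hL : Lab γ iv) (hr : ∀ t ∈ R3, t.ev γ = 1) {K : Subgroup G}
    (hK : ∀ t ∈ ([.l 1, .l 2, .l 3, .l 15, .l 16, .l 17, .l 18, .l 19, .l 20] : List W), t.ev γ ∈ K) :
    W.ev γ (.mul (.mul (.mul (.mul (.mul (.mul (.l 23) (.l 2)) (.l 23)) (.l 2)) (.l 1)) (.l 2)) (.l 1)) ∈ K :=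
  TC.mem (D := t3) hL (List.forall_mem_cons.2 ⟨hL.zero_mem K, hK⟩) hr t3_head t3_blocks
    (n := (nat_lit 7)) (w := (nat_lit 1141988439)) (st := (nat_lit 0x1304c9304c80553804)) (by decide +kernel) (by decide +kernel)

theorem t3_mem35 {G : Type*} [Group G] {γ : ℕ → G} (hL : Lab γ iv) (hr : ∀ t ∈ R3, t.ev γ = 1) {K : Subgroup G}
    (hK : ∀ t ∈ ([.l 1, .l 2, .l 3, .l 15, .l 16, .l 17, .l 18, .l 19, .l 20] : List W), t.ev γ ∈ K) :
    W.ev γ (.mul (.mul (.mul (.mul (.mul (.mul (.mul (.l 3) (.l 19)) (.l 23)) (.l 18)) (.l 19)) (.l 2)) (.l 18)) (.l 23)) ∈ K :=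
  TC.mem (D := t3) hL (List.forall_mem_cons.2 ⟨hL.zero_mem K, hK⟩) hr t3_head t3_blocks
    (n := (nat_lit 8)) (w := (nat_lit 809688981091)) (st := (nat_lit 0x140f5e17a038044e934)) (by decide +kernel) (by decide +kernel)

theorem t3_mem36 {G : Type*} [Group G] {γ : ℕ → G} (hL : Lab γ iv) (hr : ∀ t ∈ R3, t.ev γ = 1) {K : Subgroup G}
    (hK : ∀ t ∈ ([.l 1, .l 2, .l 3, .l 15, .l 16, .l 17, .l 18, .l 19, .l 20] : List W), t.ev γ ∈ K) :
    W.ev γ (.mul (.mul (.mul (.mul (.mul (.mul (.mul (.l 3) (.l 19)) (.l 23)) (.l 18)) (.l 2)) (.l 19)) (.l 18)) (.l 23)) ∈ K :=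
  TC.mem (D := t3) hL (List.forall_mem_cons.2 ⟨hL.zero_mem K, hK⟩) hr t3_head t3_blocks
    (n := (nat_lit 8)) (w := (nat_lit 810241580643)) (st := (nat_lit 0x140f5e978038044e934)) (by decide +kernel) (by decide +kernel)

theorem t3_mem37 {G : Type*} [Group G] {γ : ℕ → G} (hL : Lab γ iv) (hr : ∀ t ∈ R3, t.ev γ = 1) {K : Subgroup G}
    (hK : ∀ t ∈ ([.l 1, .l 2, .l 3, .l 15, .l 16, .l 17, .l 18, .l 19, .l 20] : List W), t.ev γ ∈ K) :
    W.ev γ (.mul (.mul (.mul (.mul (.mul (.mul (.mul (.l 3) (.l 19)) (.l 23)) (.l 2)) (.l 23)) (.l 1)) (.l 19)) (.l 1)) ∈ K :=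
  TC.mem (D := t3) hL (List.forall_mem_cons.2 ⟨hL.zero_mem K, hK⟩) hr t3_head t3_blocks
    (n := (nat_lit 8)) (w := (nat_lit 54818594403)) (st := (nat_lit 0x4c13a4c005538044e934)) (by decide +kernel) (by decide +kernel)

theorem t3_mem38 {G : Type*} [Group G] {γ : ℕ → G} (hL : Lab γ iv) (hr : ∀ t ∈ R3, t.ev γ = 1) {K : Subgroup G}
    (hK : ∀ t ∈ ([.l 1, .l 2, .l 3, .l 15, .l 16, .l 17, .l 18, .l 19, .l 20] : List W), t.ev γ ∈ K) :
    W.ev γ (.mul (.mul (.mul (.mul (.mul (.mul (.mul (.l 3) (.l 19)) (.l 23)) (.l 2)) (.l 1)) (.l 19)) (.l 1)) (.l 23)) ∈ K :=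
  TC.mem (D := t3) hL (List.forall_mem_cons.2 ⟨hL.zero_mem K, hK⟩) hr t3_head t3_blocks
    (n := (nat_lit 8)) (w := (nat_lit 791986396771)) (st := (nat_lit 0x140d5c00c538044e934)) (by decide +kernel) (by decide +kernel)

theorem t3_mem39 {G : Type*} [Group G] {γ : ℕ → G} (hL : Lab γ iv) (hr : ∀ t ∈ R3, t.ev γ = 1) {K : Subgroup G}
    (hK : ∀ t ∈ ([.l 1, .l 2, .l 3, .l 15, .l 16, .l 17, .l 18, .l 19, .l 20] : List W), t.ev γ ∈ K) :
    W.ev γ (.mul (.mul (.mul (.mul (.mul (.mul (.mul (.l 3) (.l 19)) (.l 23)) (.l 1)) (.l 19)) (.l 1)) (.l 2)) (.l 23)) ∈ K :=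
  TC.mem (D := t3) hL (List.forall_mem_cons.2 ⟨hL.zero_mem K, hK⟩) hr t3_head t3_blocks
    (n := (nat_lit 8)) (w := (nat_lit 792475000419)) (st := (nat_lit 0x154e03570030044e934)) (by decide +kernel) (by decide +kernel)

theorem t3_mem40 {G : Type*} [Group G] {γ : ℕ → G} (hL : Lab γ iv) (hr : ∀ t ∈ R3, t.ev γ = 1) {K : Subgroup G}
    (hK : ∀ t ∈ ([.l 1, .l 2, .l 3, .l 15, .l 16, .l 17, .l 18, .l 19, .l 20] : List W), t.ev γ ∈ K) :
    W.ev γ (.mul (.mul (.mul (.mul (.mul (.mul (.mul (.l 3) (.l 19)) (.l 18)) (.l 19)) (.l 23)) (.l 19)) (.l 23)) (.l 18)) ∈ K :=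
  TC.mem (D := t3) hL (List.forall_mem_cons.2 ⟨hL.zero_mem K, hK⟩) hr t3_head t3_blocks
    (n := (nat_lit 8)) (w := (nat_lit 643833645667)) (st := (nat_lit 0x4e005530044e9384e934)) (by decide +kernel) (by decide +kernel)

theorem t3_mem41 {G : Type*} [Group G] {γ : ℕ → G} (hL : Lab γ iv) (hr : ∀ t ∈ R3, t.ev γ = 1) {K : Subgroup G}
    (hK : ∀ t ∈ ([.l 1, .l 2, .l 3, .l 15, .l 16, .l 17, .l 18, .l 19, .l 20] : List W), t.ev γ ∈ K) :
    W.ev γ (.mul (.mul (.mul (.mul (.mul (.mul (.mul (.l 3) (.l 19)) (.l 18)) (.l 19)) (.l 18)) (.l 23)) (.l 19)) (.l 23)) ∈ K :=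
  TC.mem (D := t3) hL (List.forall_mem_cons.2 ⟨hL.zero_mem K, hK⟩) hr t3_head t3_blocks
    (n := (nat_lit 8)) (w := (nat_lit 811466345059)) (st := (nat_lit 0x154c011384e9384e934)) (by decide +kernel) (by decide +kernel)

theorem t3_mem42 {G : Type*} [Group G] {γ : ℕ → G} (hL : Lab γ iv) (hr : ∀ t ∈ R3, t.ev γ = 1) {K : Subgroup G}
    (hK : ∀ t ∈ ([.l 1, .l 2, .l 3, .l 15, .l 16, .l 17, .l 18, .l 19, .l 20] : List W), t.ev γ ∈ K) :
    W.ev γ (.mul (.mul (.mul (.mul (.mul (.mul (.mul (.l 3) (.l 19)) (.l 18)) (.l 23)) (.l 19)) (.l 23)) (.l 19)) (.l 18)) ∈ K :=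
  TC.mem (D := t3) hL (List.forall_mem_cons.2 ⟨hL.zero_mem K, hK⟩) hr t3_head t3_blocks
    (n := (nat_lit 8)) (w := (nat_lit 639668832867)) (st := (nat_lit 0x4e13a0154c011384e934)) (by decide +kernel) (by decide +kernel)

theorem t3_mem43 {G : Type*} [Group G] {γ : ℕ → G} (hL : Lab γ iv) (hr : ∀ t ∈ R3, t.ev γ = 1) {K : Subgroup G}
    (hK : ∀ t ∈ ([.l 1, .l 2, .l 3, .l 15, .l 16, .l 17, .l 18, .l 19, .l 20] : List W), t.ev γ ∈ K) :
    W.ev γ (.mul (.mul (.mul (.mul (.mul (.mul (.mul (.l 3) (.l 19)) (.l 18)) (.l 2)) (.l 18)) (.l 23)) (.l 3)) (.l 23)) ∈ K :=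
  TC.mem (D := t3) hL (List.forall_mem_cons.2 ⟨hL.zero_mem K, hK⟩) hr t3_head t3_blocks
    (n := (nat_lit 8)) (w := (nat_lit 794285918819)) (st := (nat_lit 0x154a011384c9384e934)) (by decide +kernel) (by decide +kernel)

theorem t3_mem44 {G : Type*} [Group G] {γ : ℕ → G} (hL : Lab γ iv) (hr : ∀ t ∈ R3, t.ev γ = 1) {K : Subgroup G}
    (hK : ∀ t ∈ ([.l 1, .l 2, .l 3, .l 15, .l 16, .l 17, .l 18, .l 19, .l 20] : List W), t.ev γ ∈ K) :
    W.ev γ (.mul (.mul (.mul (.mul (.mul (.mul (.mul (.l 3) (.l 19)) (.l 2)) (.l 1)) (.l 23)) (.l 3)) (.l 23)) (.l 1)) ∈ K :=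
  TC.mem (D := t3) hL (List.forall_mem_cons.2 ⟨hL.zero_mem K, hK⟩) hr t3_head t3_blocks
    (n := (nat_lit 8)) (w := (nat_lit 59180616291)) (st := (nat_lit 0x4c005528044c1324e934)) (by decide +kernel) (by decide +kernel)

theorem t3_mem45 {G : Type*} [Group G] {γ : ℕ → G} (hL : Lab γ iv) (hr : ∀ t ∈ R3, t.ev γ = 1) {K : Subgroup G}
    (hK : ∀ t ∈ ([.l 1, .l 2, .l 3, .l 15, .l 16, .l 17, .l 18, .l 19, .l 20] : List W), t.ev γ ∈ K) :
    W.ev γ (.mul (.mul (.mul (.mul (.mul (.mul (.mul (.l 3) (.l 19)) (.l 1)) (.l 19)) (.l 23)) (.l 2)) (.l 23)) (.l 1)) ∈ K :=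
  TC.mem (D := t3) hL (List.forall_mem_cons.2 ⟨hL.zero_mem K, hK⟩) hr t3_head t3_blocks
    (n := (nat_lit 8)) (w := (nat_lit 59147650659)) (st := (nat_lit 0x4c005538044e9304e934)) (by decide +kernel) (by decide +kernel)

theorem t3_mem46 {G : Type*} [Group G] {γ : ℕ → G} (hL : Lab γ iv) (hr : ∀ t ∈ R3, t.ev γ = 1) {K : Subgroup G}
    (hK : ∀ t ∈ ([.l 1, .l 2, .l 3, .l 15, .l 16, .l 17, .l 18, .l 19, .l 20] : List W), t.ev γ ∈ K) :
    W.ev γ (.mul (.mul (.mul (.mul (.mul (.mul (.mul (.l 3) (.l 19)) (.l 1)) (.l 19)) (.l 1)) (.l 23)) (.l 2)) (.l 23)) ∈ K :=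
  TC.mem (D := t3) hL (List.forall_mem_cons.2 ⟨hL.zero_mem K, hK⟩) hr t3_head t3_blocks
    (n := (nat_lit 8)) (w := (nat_lit 793194890851)) (st := (nat_lit 0x154e011304e9304e934)) (by decide +kernel) (by decide +kernel)

theorem t3_mem47 {G : Type*} [Group G] {γ : ℕ → G} (hL : Lab γ iv) (hr : ∀ t ∈ R3, t.ev γ = 1) {K : Subgroup G}
    (hK : ∀ t ∈ ([.l 1, .l 2, .l 3, .l 15, .l 16, .l 17, .l 18, .l 19, .l 20] : List W), t.ev γ ∈ K) :
    W.ev γ (.mul (.mul (.mul (.mul (.mul (.mul (.mul (.l 23) (.l 2)) (.l 1)) (.l 23)) (.l 1)) (.l 2)) (.l 23)) (.l 1)) ∈ K :=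
  TC.mem (D := t3) hL (List.forall_mem_cons.2 ⟨hL.zero_mem K, hK⟩) hr t3_head t3_blocks
    (n := (nat_lit 8)) (w := (nat_lit 59124712535)) (st := (nat_lit 0x4c0055380d5b80c53804)) (by decide +kernel) (by decide +kernel)

theorem t3_mem48 {G : Type*} [Group G] {γ : ℕ → G} (hL : Lab γ iv) (hr : ∀ t ∈ R3, t.ev γ = 1) {K : Subgroup G}
    (hK : ∀ t ∈ ([.l 1, .l 2, .l 3, .l 15, .l 16, .l 17, .l 18, .l 19, .l 20] : List W), t.ev γ ∈ K) :
    W.ev γ (.mul (.mul (.mul (.mul (.mul (.mul (.mul (.l 23) (.l 1)) (.l 2)) (.l 1)) (.l 23)) (.l 1)) (.l 2)) (.l 1)) ∈ K :=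
  TC.mem (D := t3) hL (List.forall_mem_cons.2 ⟨hL.zero_mem K, hK⟩) hr t3_head t3_blocks
    (n := (nat_lit 8)) (w := (nat_lit 36564928567)) (st := (nat_lit 0x4c1324c0050356c03004)) (by decide +kernel) (by decide +kernel)

theorem t3_mem49 {G : Type*} [Group G] {γ : ℕ → G} (hL : Lab γ iv) (hr : ∀ t ∈ R3, t.ev γ = 1) {K : Subgroup G}
    (hK : ∀ t ∈ ([.l 1, .l 2, .l 3, .l 15, .l 16, .l 17, .l 18, .l 19, .l 20] : List W), t.ev γ ∈ K) :
    W.ev γ (.mul (.mul (.mul (.mul (.mul (.mul (.mul (.l 22) (.l 2)) (.l 22)) (.l 1)) (.l 2)) (.l 22)) (.l 2)) (.l 1)) ∈ K :=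
  TC.mem (D := t3) hL (List.forall_mem_cons.2 ⟨hL.zero_mem K, hK⟩) hr t3_head t3_blocks
    (n := (nat_lit 8)) (w := (nat_lit 37247572054)) (st := (nat_lit 0x4c13200c075615601802)) (by decide +kernel) (by decide +kernel)

theorem t3_mem50 {G : Type*} [Group G] {γ : ℕ → G} (hL : Lab γ iv) (hr : ∀ t ∈ R3, t.ev γ = 1) {K : Subgroup G}
    (hK : ∀ t ∈ ([.l 1, .l 2, .l 3, .l 15, .l 16, .l 17, .l 18, .l 19, .l 20] : List W), t.ev γ ∈ K) :
    W.ev γ (.mul (.mul (.mul (.mul (.mul (.mul (.mul (.l 22) (.l 2)) (.l 1)) (.l 2)) (.l 22)) (.l 2)) (.l 1)) (.l 2)) ∈ K :=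
  TC.mem (D := t3) hL (List.forall_mem_cons.2 ⟨hL.zero_mem K, hK⟩) hr t3_head t3_blocks
    (n := (nat_lit 8)) (w := (nat_lit 69883462742)) (st := (nat_lit 0x4c9304c80301d5801802)) (by decide +kernel) (by decide +kernel)

theorem t3_mem51 {G : Type*} [Group G] {γ : ℕ → G} (hL : Lab γ iv) (hr : ∀ t ∈ R3, t.ev γ = 1) {K : Subgroup G}
    (hK : ∀ t ∈ ([.l 1, .l 2, .l 3, .l 15, .l 16, .l 17, .l 18, .l 19, .l 20] : List W), t.ev γ ∈ K) :
    W.ev γ (.mul (.mul (.mul (.mul (.mul (.l 23) (.l 22)) (.l 1)) (.l 22)) (.l 23)) (.l 2)) ∈ K :=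
  TC.mem (D := t3) hL (List.forall_mem_cons.2 ⟨hL.zero_mem K, hK⟩) hr t3_head t3_blocks
    (n := (nat_lit 6)) (w := (nat_lit 91948759)) (st := (nat_lit 0x4c8050458004004)) (by decide +kernel) (by decide +kernel)

theorem t3_mem52 {G : Type*} [Group G] {γ : ℕ → G} (hL : Lab γ iv) (hr : ∀ t ∈ R3, t.ev γ = 1) {K : Subgroup G}
    (hK : ∀ t ∈ ([.l 1, .l 2, .l 3, .l 15, .l 16, .l 17, .l 18, .l 19, .l 20] : List W), t.ev γ ∈ K) :
    W.ev γ (.mul (.mul (.mul (.mul (.mul (.mul (.mul (.l 23) (.l 2)) (.l 23)) (.l 2)) (.l 22)) (.l 1)) (.l 22)) (.l 2)) ∈ K :=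
  TC.mem (D := t3) hL (List.forall_mem_cons.2 ⟨hL.zero_mem K, hK⟩) hr t3_head t3_blocks
    (n := (nat_lit 8)) (w := (nat_lit 92398509143)) (st := (nat_lit 0x4c803510024c80553804)) (by decide +kernel) (by decide +kernel)

theorem t3_mem53 {G : Type*} [Group G] {γ : ℕ → G} (hL : Lab γ iv) (hr : ∀ t ∈ R3, t.ev γ = 1) {K : Subgroup G}
    (hK : ∀ t ∈ ([.l 1, .l 2, .l 3, .l 15, .l 16, .l 17, .l 18, .l 19, .l 20] : List W), t.ev γ ∈ K) :
    W.ev γ (.mul (.mul (.mul (.mul (.mul (.mul (.mul (.l 23) (.l 2)) (.l 23)) (.l 1)) (.l 22)) (.l 1)) (.l 22)) (.l 1)) ∈ K :=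
  TC.mem (D := t3) hL (List.forall_mem_cons.2 ⟨hL.zero_mem K, hK⟩) hr t3_head t3_blocks
    (n := (nat_lit 8)) (w := (nat_lit 58038738007)) (st := (nat_lit 0x4c003510024c00553804)) (by decide +kernel) (by decide +kernel)

theorem t3_mem54 {G : Type*} [Group G] {γ : ℕ → G} (hL : Lab γ iv) (hr : ∀ t ∈ R3, t.ev γ = 1) {K : Subgroup G}
    (hK : ∀ t ∈ ([.l 1, .l 2, .l 3, .l 15, .l 16, .l 17, .l 18, .l 19, .l 20] : List W), t.ev γ ∈ K) :
    W.ev γ (.mul (.mul (.mul (.mul (.mul (.mul (.mul (.mul (.l 23) (.l 22)) (.l 2)) (.l 1)) (.l 2)) (.l 22)) (.l 1)) (.l 23)) (.l 2)) ∈ K :=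
  TC.mem (D := t3) hL (List.forall_mem_cons.2 ⟨hL.zero_mem K, hK⟩) hr t3_head t3_blocks
    (n := (nat_lit 9)) (w := (nat_lit 2991111310039)) (st := (nat_lit 0x1320140d731ea7a42804004)) (by decide +kernel) (by decide +kernel)

theorem t3_mem55 {G : Type*} [Group G] {γ : ℕ → G} (hL : Lab γ iv) (hr : ∀ t ∈ R3, t.ev γ = 1) {K : Subgroup G}
    (hK : ∀ t ∈ ([.l 1, .l 2, .l 3, .l 15, .l 16, .l 17, .l 18, .l 19, .l 20] : List W), t.ev γ ∈ K) :
    W.ev γ (.mul (.mul (.mul (.mul (.mul (.mul (.mul (.mul (.l 23) (.l 22)) (.l 1)) (.l 22)) (.l 2)) (.l 23)) (.l 1)) (.l 2)) (.l 1)) ∈ K :=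
  TC.mem (D := t3) hL (List.forall_mem_cons.2 ⟨hL.zero_mem K, hK⟩) hr t3_head t3_blocks
    (n := (nat_lit 9)) (w := (nat_lit 1170079418071)) (st := (nat_lit 0x1304c9300154e0458004004)) (by decide +kernel) (by decide +kernel)

theorem t3_mem56 {G : Type*} [Group G] {γ : ℕ → G} (hL : Lab γ iv) (hr : ∀ t ∈ R3, t.ev γ = 1) {K : Subgroup G}
    (hK : ∀ t ∈ ([.l 1, .l 2, .l 3, .l 15, .l 16, .l 17, .l 18, .l 19, .l 20] : List W), t.ev γ ∈ K) :
    W.ev γ (.mul (.mul (.mul (.mul (.mul (.mul (.mul (.mul (.mul (.l 23) (.l 22)) (.l 23)) (.l 22)) (.l 23)) (.l 22)) (.l 23)) (.l 22)) (.l 23)) (.l 22)) ∈ K :=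
  TC.mem (D := t3) hL (List.forall_mem_cons.2 ⟨hL.zero_mem K, hK⟩) hr t3_head t3_blocks
    (n := (nat_lit 10)) (w := (nat_lit 800126326759127)) (st := (nat_lit 0xc0b07c4b24e791802c04004)) (by decide +kernel) (by decide +kernel)

theorem t3_mem57 {G : Type*} [Group G] {γ : ℕ → G} (hL : Lab γ iv) (hr : ∀ t ∈ R3, t.ev γ = 1) {K : Subgroup G}
    (hK : ∀ t ∈ ([.l 1, .l 2, .l 3, .l 15, .l 16, .l 17, .l 18, .l 19, .l 20] : List W), t.ev γ ∈ K) :
    W.ev γ (.mul (.mul (.mul (.mul (.mul (.mul (.mul (.mul (.mul (.mul (.l 23) (.l 2)) (.l 1)) (.l 22)) (.l 1)) (.l 22)) (.l 1)) (.l 23)) (.l 1)) (.l 2)) (.l 1)) ∈ K :=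
  TC.mem (D := t3) hL (List.forall_mem_cons.2 ⟨hL.zero_mem K, hK⟩) hr t3_head t3_blocks
    (n := (nat_lit 11)) (w := (nat_lit 0x441b86c1b0457)) (st := (nat_lit 0x1304c9300140d08da60880c53804)) (by decide +kernel) (by decide +kernel)

theorem t3_mem58 {G : Type*} [Group G] {γ : ℕ → G} (hL : Lab γ iv) (hr : ∀ t ∈ R3, t.ev γ = 1) {K : Subgroup G}
    (hK : ∀ t ∈ ([.l 1, .l 2, .l 3, .l 15, .l 16, .l 17, .l 18, .l 19, .l 20] : List W), t.ev γ ∈ K) :
    W.ev γ (.mul (.mul (.mul (.mul (.mul (.mul (.mul (.mul (.mul (.mul (.mul (.l 23) (.l 22)) (.l 23)) (.l 22)) (.l 23)) (.l 22)) (.l 23)) (.l 22)) (.l 2)) (.l 23)) (.l 22)) (.l 1)) ∈ K :=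
  TC.mem (D := t3) hL (List.forall_mem_cons.2 ⟨hL.zero_mem K, hK⟩) hr t3_head t3_blocks
    (n := (nat_lit 12)) (w := (nat_lit 0xdae2b5ed7b5ed7)) (st := (nat_lit 0x4c00302d6407c4b24e791802c04004)) (by decide +kernel) (by decide +kernel)

theorem t3_mem59 {G : Type*} [Group G] {γ : ℕ → G} (hL : Lab γ iv) (hr : ∀ t ∈ R3, t.ev γ = 1) {K : Subgroup G}
    (hK : ∀ t ∈ ([.l 1, .l 2, .l 3, .l 15, .l 16, .l 17, .l 18, .l 19, .l 20] : List W), t.ev γ ∈ K) :
    W.ev γ (.mul (.mul (.mul (.mul (.mul (.mul (.mul (.mul (.mul (.mul (.mul (.l 23) (.l 22)) (.l 23)) (.l 22)) (.l 1)) (.l 23)) (.l 22)) (.l 1)) (.l 23)) (.l 22)) (.l 1)) (.l 2)) ∈ K :=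
  TC.mem (D := t3) hL (List.forall_mem_cons.2 ⟨hL.zero_mem K, hK⟩) hr t3_head t3_blocks
    (n := (nat_lit 12)) (w := (nat_lit 0x106d70dae1b5ed7)) (st := (nat_lit 0x4c93000c0b06c432066f1802c04004)) (by decide +kernel) (by decide +kernel)

theorem t3_mem60 {G : Type*} [Group G] {γ : ℕ → G} (hL : Lab γ iv) (hr : ∀ t ∈ R3, t.ev γ = 1) {K : Subgroup G}
    (hK : ∀ t ∈ ([.l 1, .l 2, .l 3, .l 15, .l 16, .l 17, .l 18, .l 19, .l 20] : List W), t.ev γ ∈ K) :
    W.ev γ (.mul (.mul (.mul (.mul (.mul (.mul (.mul (.mul (.mul (.mul (.mul (.l 23) (.l 22)) (.l 23)) (.l 22)) (.l 1)) (.l 23)) (.l 22)) (.l 1)) (.l 2)) (.l 23)) (.l 22)) (.l 2)) ∈ K :=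
  TC.mem (D := t3) hL (List.forall_mem_cons.2 ⟨hL.zero_mem K, hK⟩) hr t3_head t3_blocks
    (n := (nat_lit 12)) (w := (nat_lit 0x15ae20dae1b5ed7)) (st := (nat_lit 0x4c80302d6406c432066f1802c04004)) (by decide +kernel) (by decide +kernel)

theorem t3_mem61 {G : Type*} [Group G] {γ : ℕ → G} (hL : Lab γ iv) (hr : ∀ t ∈ R3, t.ev γ = 1) {K : Subgroup G}
    (hK : ∀ t ∈ ([.l 1, .l 2, .l 3, .l 15, .l 16, .l 17, .l 18, .l 19, .l 20] : List W), t.ev γ ∈ K) :
    W.ev γ (.mul (.mul (.mul (.mul (.mul (.mul (.mul (.mul (.mul (.mul (.mul (.l 23) (.l 22)) (.l 23)) (.l 22)) (.l 1)) (.l 2)) (.l 23)) (.l 22)) (.l 2)) (.l 23)) (.l 22)) (.l 2)) ∈ K :=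
  TC.mem (D := t3) hL (List.forall_mem_cons.2 ⟨hL.zero_mem K, hK⟩) hr t3_head t3_blocks
    (n := (nat_lit 12)) (w := (nat_lit 0x15ae2b5c41b5ed7)) (st := (nat_lit 0x4c80302d6407c4b96a6f1802c04004)) (by decide +kernel) (by decide +kernel)

theorem t3_mem62 {G : Type*} [Group G] {γ : ℕ → G} (hL : Lab γ iv) (hr : ∀ t ∈ R3, t.ev γ = 1) {K : Subgroup G}
    (hK : ∀ t ∈ ([.l 1, .l 2, .l 3, .l 15, .l 16, .l 17, .l 18, .l 19, .l 20] : List W), t.ev γ ∈ K) :
    W.ev γ (.mul (.mul (.mul (.mul (.mul (.mul (.mul (.mul (.mul (.mul (.mul (.l 23) (.l 22)) (.l 2)) (.l 1)) (.l 2)) (.l 22)) (.l 2)) (.l 1)) (.l 23)) (.l 22)) (.l 1)) (.l 22)) ∈ K :=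
  TC.mem (D := t3) hL (List.forall_mem_cons.2 ⟨hL.zero_mem K, hK⟩) hr t3_head t3_blocks
    (n := (nat_lit 12)) (w := (nat_lit 0xb06d708ac208ad7)) (st := (nat_lit 0xd44008050356c731ea7a42804004)) (by decide +kernel) (by decide +kernel)

theorem t3_mem63 {G : Type*} [Group G] {γ : ℕ → G} (hL : Lab γ iv) (hr : ∀ t ∈ R3, t.ev γ = 1) {K : Subgroup G}
    (hK : ∀ t ∈ ([.l 1, .l 2, .l 3, .l 15, .l 16, .l 17, .l 18, .l 19, .l 20] : List W), t.ev γ ∈ K) :
    W.ev γ (.mul (.mul (.mul (.mul (.mul (.mul (.mul (.mul (.mul (.mul (.mul (.l 23) (.l 22)) (.l 2)) (.l 1)) (.l 2)) (.l 22)) (.l 1)) (.l 2)) (.l 23)) (.l 1)) (.l 2)) (.l 1)) ∈ K :=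
  TC.mem (D := t3) hL (List.forall_mem_cons.2 ⟨hL.zero_mem K, hK⟩) hr t3_head t3_blocks
    (n := (nat_lit 12)) (w := (nat_lit 0x8837106c208ad7)) (st := (nat_lit 0x4c1324c0055380d731ea7a42804004)) (by decide +kernel) (by decide +kernel)

theorem t3_mem64 {G : Type*} [Group G] {γ : ℕ → G} (hL : Lab γ iv) (hr : ∀ t ∈ R3, t.ev γ = 1) {K : Subgroup G}
    (hK : ∀ t ∈ ([.l 1, .l 2, .l 3, .l 15, .l 16, .l 17, .l 18, .l 19, .l 20] : List W), t.ev γ ∈ K) :
    W.ev γ (.mul (.mul (.mul (.mul (.mul (.mul (.mul (.mul (.mul (.mul (.mul (.l 23) (.l 2)) (.l 22)) (.l 2)) (.l 1)) (.l 2)) (.l 22)) (.l 1)) (.l 23)) (.l 1)) (.l 2)) (.l 1)) ∈ K :=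
  TC.mem (D := t3) hL (List.forall_mem_cons.2 ⟨hL.zero_mem K, hK⟩) hr t3_head t3_blocks
    (n := (nat_lit 12)) (w := (nat_lit 0x88370d84115857)) (st := (nat_lit 0x4c1324c005035cc7a9e90a01053804)) (by decide +kernel) (by decide +kernel)

theorem t3_mem65 {G : Type*} [Group G] {γ : ℕ → G} (hL : Lab γ iv) (hr : ∀ t ∈ R3, t.ev γ = 1) {K : Subgroup G}
    (hK : ∀ t ∈ ([.l 1, .l 2, .l 3, .l 15, .l 16, .l 17, .l 18, .l 19, .l 20] : List W), t.ev γ ∈ K) :
    W.ev γ (.mul (.mul (.mul (.mul (.mul (.mul (.mul (.mul (.mul (.mul (.mul (.mul (.l 23) (.l 22)) (.l 23)) (.l 22)) (.l 2)) (.l 22)) (.l 23)) (.l 1)) (.l 2)) (.l 22)) (.l 23)) (.l 1)) (.l 22)) ∈ K :=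
  TC.mem (D := t3) hL (List.forall_mem_cons.2 ⟨hL.zero_mem K, hK⟩) hr t3_head t3_blocks
    (n := (nat_lit 13)) (w := (nat_lit 0x160dec20dec2b5ed7)) (st := (nat_lit 0x35100b07c4721eb2abcac1802c04004)) (by decide +kernel) (by decide +kernel)

theorem t3_mem66 {G : Type*} [Group G] {γ : ℕ → G} (hL : Lab γ iv) (hr : ∀ t ∈ R3, t.ev γ = 1) {K : Subgroup G}
    (hK : ∀ t ∈ ([.l 1, .l 2, .l 3, .l 15, .l 16, .l 17, .l 18, .l 19, .l 20] : List W), t.ev γ ∈ K) :
    W.ev γ (.mul (.mul (.mul (.mul (.mul (.mul (.mul (.mul (.mul (.mul (.mul (.mul (.l 23) (.l 22)) (.l 23)) (.l 22)) (.l 2)) (.l 1)) (.l 23)) (.l 22)) (.l 2)) (.l 22)) (.l 23)) (.l 22)) (.l 2)) ∈ K :=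
  TC.mem (D := t3) hL (List.forall_mem_cons.2 ⟨hL.zero_mem K, hK⟩) hr t3_head t3_blocks
    (n := (nat_lit 13)) (w := (nat_lit 0x2b5ec2b5c22b5ed7)) (st := (nat_lit 0x13200c0b07c477c08bab0ac1802c04004)) (by decide +kernel) (by decide +kernel)

theorem t3_mem67 {G : Type*} [Group G] {γ : ℕ → G} (hL : Lab γ iv) (hr : ∀ t ∈ R3, t.ev γ = 1) {K : Subgroup G}
    (hK : ∀ t ∈ ([.l 1, .l 2, .l 3, .l 15, .l 16, .l 17, .l 18, .l 19, .l 20] : List W), t.ev γ ∈ K) :
    W.ev γ (.mul (.mul (.mul (.mul (.mul (.mul (.mul (.mul (.mul (.mul (.mul (.mul (.l 23) (.l 22)) (.l 23)) (.l 22)) (.l 2)) (.l 1)) (.l 23)) (.l 2)) (.l 22)) (.l 23)) (.l 22)) (.l 1)) (.l 2)) ∈ K :=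
  TC.mem (D := t3) hL (List.forall_mem_cons.2 ⟨hL.zero_mem K, hK⟩) hr t3_head t3_blocks
    (n := (nat_lit 13)) (w := (nat_lit 0x20daf615c22b5ed7)) (st := (nat_lit 0x1324c00302c1f11c8bab0ac1802c04004)) (by decide +kernel) (by decide +kernel)

theorem t3_mem68 {G : Type*} [Group G] {γ : ℕ → G} (hL : Lab γ iv) (hr : ∀ t ∈ R3, t.ev γ = 1) {K : Subgroup G}
    (hK : ∀ t ∈ ([.l 1, .l 2, .l 3, .l 15, .l 16, .l 17, .l 18, .l 19, .l 20] : List W), t.ev γ ∈ K) :
    W.ev γ (.mul (.mul (.mul (.mul (.mul (.mul (.mul (.mul (.mul (.mul (.mul (.mul (.l 23) (.l 22)) (.l 23)) (.l 22)) (.l 2)) (.l 1)) (.l 23)) (.l 2)) (.l 22)) (.l 2)) (.l 23)) (.l 22)) (.l 2)) ∈ K :=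
  TC.mem (D := t3) hL (List.forall_mem_cons.2 ⟨hL.zero_mem K, hK⟩) hr t3_head t3_blocks
    (n := (nat_lit 13)) (w := (nat_lit 0x2b5c5615c22b5ed7)) (st := (nat_lit 0x13200c0b5901f11c8bab0ac1802c04004)) (by decide +kernel) (by decide +kernel)

theorem t3_mem69 {G : Type*} [Group G] {γ : ℕ → G} (hL : Lab γ iv) (hr : ∀ t ∈ R3, t.ev γ = 1) {K : Subgroup G}
    (hK : ∀ t ∈ ([.l 1, .l 2, .l 3, .l 15, .l 16, .l 17, .l 18, .l 19, .l 20] : List W), t.ev γ ∈ K) :
    W.ev γ (.mul (.mul (.mul (.mul (.mul (.mul (.mul (.mul (.mul (.mul (.mul (.mul (.l 23) (.l 22)) (.l 23)) (.l 22)) (.l 1)) (.l 23)) (.l 22)) (.l 23)) (.l 1)) (.l 23)) (.l 22)) (.l 2)) (.l 1)) ∈ K :=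
  TC.mem (D := t3) hL (List.forall_mem_cons.2 ⟨hL.zero_mem K, hK⟩) hr t3_head t3_blocks
    (n := (nat_lit 13)) (w := (nat_lit 0x115ae1bdae1b5ed7)) (st := (nat_lit 0x1304c80302c1b658432066f1802c04004)) (by decide +kernel) (by decide +kernel)

theorem t3_mem70 {G : Type*} [Group G] {γ : ℕ → G} (hL : Lab γ iv) (hr : ∀ t ∈ R3, t.ev γ = 1) {K : Subgroup G}
    (hK : ∀ t ∈ ([.l 1, .l 2, .l 3, .l 15, .l 16, .l 17, .l 18, .l 19, .l 20] : List W), t.ev γ ∈ K) :
    W.ev γ (.mul (.mul (.mul (.mul (.mul (.mul (.mul (.mul (.mul (.mul (.mul (.mul (.l 23) (.l 22)) (.l 23)) (.l 22)) (.l 1)) (.l 23)) (.l 22)) (.l 2)) (.l 1)) (.l 23)) (.l 2)) (.l 22)) (.l 2)) ∈ K :=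
  TC.mem (D := t3) hL (List.forall_mem_cons.2 ⟨hL.zero_mem K, hK⟩) hr t3_head t3_blocks
    (n := (nat_lit 13)) (w := (nat_lit 0x2b0ae115ae1b5ed7)) (st := (nat_lit 0x13200c0705433714432066f1802c04004)) (by decide +kernel) (by decide +kernel)

theorem t3_mem71 {G : Type*} [Group G] {γ : ℕ → G} (hL : Lab γ iv) (hr : ∀ t ∈ R3, t.ev γ = 1) {K : Subgroup G}
    (hK : ∀ t ∈ ([.l 1, .l 2, .l 3, .l 15, .l 16, .l 17, .l 18, .l 19, .l 20] : List W), t.ev γ ∈ K) :
    W.ev γ (.mul (.mul (.mul (.mul (.mul (.mul (.mul (.mul (.mul (.mul (.mul (.mul (.l 23) (.l 22)) (.l 23)) (.l 22)) (.l 1)) (.l 23)) (.l 22)) (.l 1)) (.l 23)) (.l 1)) (.l 22)) (.l 2)) (.l 1)) ∈ K :=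
  TC.mem (D := t3) hL (List.forall_mem_cons.2 ⟨hL.zero_mem K, hK⟩) hr t3_head t3_blocks
    (n := (nat_lit 13)) (w := (nat_lit 0x1158370dae1b5ed7)) (st := (nat_lit 0x1304c8035100b06c432066f1802c04004)) (by decide +kernel) (by decide +kernel)

theorem t3_mem72 {G : Type*} [Group G] {γ : ℕ → G} (hL : Lab γ iv) (hr : ∀ t ∈ R3, t.ev γ = 1) {K : Subgroup G}
    (hK : ∀ t ∈ ([.l 1, .l 2, .l 3, .l 15, .l 16, .l 17, .l 18, .l 19, .l 20] : List W), t.ev γ ∈ K) :
    W.ev γ (.mul (.mul (.mul (.mul (.mul (.mul (.mul (.mul (.mul (.mul (.mul (.mul (.l 23) (.l 22)) (.l 23)) (.l 22)) (.l 1)) (.l 23)) (.l 1)) (.l 22)) (.l 2)) (.l 1)) (.l 23)) (.l 22)) (.l 2)) ∈ K :=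
  TC.mem (D := t3) hL (List.forall_mem_cons.2 ⟨hL.zero_mem K, hK⟩) hr t3_head t3_blocks
    (n := (nat_lit 13)) (w := (nat_lit 0x2b5c22b06e1b5ed7)) (st := (nat_lit 0x13200c0b06dc4962572066f1802c04004)) (by decide +kernel) (by decide +kernel)

theorem t3_mem73 {G : Type*} [Group G] {γ : ℕ → G} (hL : Lab γ iv) (hr : ∀ t ∈ R3, t.ev γ = 1) {K : Subgroup G}
    (hK : ∀ t ∈ ([.l 1, .l 2, .l 3, .l 15, .l 16, .l 17, .l 18, .l 19, .l 20] : List W), t.ev γ ∈ K) :
    W.ev γ (.mul (.mul (.mul (.mul (.mul (.mul (.mul (.mul (.mul (.mul (.mul (.mul (.l 23) (.l 22)) (.l 23)) (.l 22)) (.l 1)) (.l 2)) (.l 23)) (.l 22)) (.l 23)) (.l 1)) (.l 22)) (.l 2)) (.l 1)) ∈ K :=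
  TC.mem (D := t3) hL (List.forall_mem_cons.2 ⟨hL.zero_mem K, hK⟩) hr t3_head t3_blocks
    (n := (nat_lit 13)) (w := (nat_lit 0x115837b5c41b5ed7)) (st := (nat_lit 0x1304c8035100b07c4b96a6f1802c04004)) (by decide +kernel) (by decide +kernel)

theorem t3_mem74 {G : Type*} [Group G] {γ : ℕ → G} (hL : Lab γ iv) (hr : ∀ t ∈ R3, t.ev γ = 1) {K : Subgroup G}
    (hK : ∀ t ∈ ([.l 1, .l 2, .l 3, .l 15, .l 16, .l 17, .l 18, .l 19, .l 20] : List W), t.ev γ ∈ K) :
    W.ev γ (.mul (.mul (.mul (.mul (.mul (.mul (.mul (.mul (.mul (.mul (.mul (.mul (.l 23) (.l 22)) (.l 23)) (.l 2)) (.l 22)) (.l 23)) (.l 2)) (.l 22)) (.l 23)) (.l 1)) (.l 2)) (.l 22)) (.l 1)) ∈ K :=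
  TC.mem (D := t3) hL (List.forall_mem_cons.2 ⟨hL.zero_mem K, hK⟩) hr t3_head t3_blocks
    (n := (nat_lit 13)) (w := (nat_lit 0x1b0837b0af615ed7)) (st := (nat_lit 0x13000c07560150d469994847bc2c04004)) (by decide +kernel) (by decide +kernel)

theorem t3_mem75 {G : Type*} [Group G] {γ : ℕ → G} (hL : Lab γ iv) (hr : ∀ t ∈ R3, t.ev γ = 1) {K : Subgroup G}
    (hK : ∀ t ∈ ([.l 1, .l 2, .l 3, .l 15, .l 16, .l 17, .l 18, .l 19, .l 20] : List W), t.ev γ ∈ K) :
    W.ev γ (.mul (.mul (.mul (.mul (.mul (.mul (.mul (.mul (.mul (.mul (.mul (.mul (.l 23) (.l 22)) (.l 2)) (.l 23)) (.l 1)) (.l 2)) (.l 22)) (.l 23)) (.l 1)) (.l 22)) (.l 23)) (.l 1)) (.l 22)) ∈ K :=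
  TC.mem (D := t3) hL (List.forall_mem_cons.2 ⟨hL.zero_mem K, hK⟩) hr t3_head t3_blocks
    (n := (nat_lit 13)) (w := (nat_lit 0x160dec1bd841b8ad7)) (st := (nat_lit 0x35100b07dd21b6a5a68a61682804004)) (by decide +kernel) (by decide +kernel)

theorem t3_mem76 {G : Type*} [Group G] {γ : ℕ → G} (hL : Lab γ iv) (hr : ∀ t ∈ R3, t.ev γ = 1) {K : Subgroup G}
    (hK : ∀ t ∈ ([.l 1, .l 2, .l 3, .l 15, .l 16, .l 17, .l 18, .l 19, .l 20] : List W), t.ev γ ∈ K) :
    W.ev γ (.mul (.mul (.mul (.mul (.mul (.mul (.mul (.mul (.mul (.mul (.mul (.mul (.mul (.l 23) (.l 22)) (.l 23)) (.l 22)) (.l 23)) (.l 22)) (.l 23)) (.l 1)) (.l 22)) (.l 2)) (.l 23)) (.l 2)) (.l 22)) (.l 1)) ∈ K :=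
  TC.mem (D := t3) hL (List.forall_mem_cons.2 ⟨hL.zero_mem K, hK⟩) hr t3_head t3_blocks
    (n := (nat_lit 14)) (w := (nat_lit 0x3615c560ded7b5ed7)) (st := (nat_lit 0x4c00301c156303574c4b24e791802c04004)) (by decide +kernel) (by decide +kernel)

theorem t3_mem77 {G : Type*} [Group G] {γ : ℕ → G} (hL : Lab γ iv) (hr : ∀ t ∈ R3, t.ev γ = 1) {K : Subgroup G}
    (hK : ∀ t ∈ ([.l 1, .l 2, .l 3, .l 15, .l 16, .l 17, .l 18, .l 19, .l 20] : List W), t.ev γ ∈ K) :
    W.ev γ (.mul (.mul (.mul (.mul (.mul (.mul (.mul (.mul (.mul (.mul (.mul (.mul (.mul (.l 23) (.l 22)) (.l 23)) (.l 22)) (.l 2)) (.l 23)) (.l 22)) (.l 1)) (.l 23)) (.l 22)) (.l 2)) (.l 23)) (.l 22)) (.l 1)) ∈ K :=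
  TC.mem (D := t3) hL (List.forall_mem_cons.2 ⟨hL.zero_mem K, hK⟩) hr t3_head t3_blocks
    (n := (nat_lit 14)) (w := (nat_lit 0x36b8ad70dae2b5ed7)) (st := (nat_lit 0x4c00302d6407c4b23ed9b68ac1802c04004)) (by decide +kernel) (by decide +kernel)

theorem t3_mem78 {G : Type*} [Group G] {γ : ℕ → G} (hL : Lab γ iv) (hr : ∀ t ∈ R3, t.ev γ = 1) {K : Subgroup G}
    (hK : ∀ t ∈ ([.l 1, .l 2, .l 3, .l 15, .l 16, .l 17, .l 18, .l 19, .l 20] : List W), t.ev γ ∈ K) :
    W.ev γ (.mul (.mul (.mul (.mul (.mul (.mul (.mul (.mul (.mul (.mul (.mul (.mul (.mul (.l 23) (.l 22)) (.l 23)) (.l 22)) (.l 2)) (.l 22)) (.l 23)) (.l 2)) (.l 22)) (.l 1)) (.l 23)) (.l 2)) (.l 1)) (.l 22)) ∈ K :=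
  TC.mem (D := t3) hL (List.forall_mem_cons.2 ⟨hL.zero_mem K, hK⟩) hr t3_head t3_blocks
    (n := (nat_lit 14)) (w := (nat_lit 0x2c115c3615ec2b5ed7)) (st := (nat_lit 0xd4401c150ce5899ab2abcac1802c04004)) (by decide +kernel) (by decide +kernel)

theorem t3_mem79 {G : Type*} [Group G] {γ : ℕ → G} (hL : Lab γ iv) (hr : ∀ t ∈ R3, t.ev γ = 1) {K : Subgroup G}
    (hK : ∀ t ∈ ([.l 1, .l 2, .l 3, .l 15, .l 16, .l 17, .l 18, .l 19, .l 20] : List W), t.ev γ ∈ K) :
    W.ev γ (.mul (.mul (.mul (.mul (.mul (.mul (.mul (.mul (.mul (.mul (.mul (.mul (.mul (.l 23) (.l 22)) (.l 23)) (.l 22)) (.l 2)) (.l 1)) (.l 23)) (.l 2)) (.l 22)) (.l 23)) (.l 1)) (.l 22)) (.l 2)) (.l 1)) ∈ K :=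
  TC.mem (D := t3) hL (List.forall_mem_cons.2 ⟨hL.zero_mem K, hK⟩) hr t3_head t3_blocks
    (n := (nat_lit 14)) (w := (nat_lit 0x22b06f615c22b5ed7)) (st := (nat_lit 0x4c13200d4402c1f11c8bab0ac1802c04004)) (by decide +kernel) (by decide +kernel)

theorem t3_mem80 {G : Type*} [Group G] {γ : ℕ → G} (hL : Lab γ iv) (hr : ∀ t ∈ R3, t.ev γ = 1) {K : Subgroup G}
    (hK : ∀ t ∈ ([.l 1, .l 2, .l 3, .l 15, .l 16, .l 17, .l 18, .l 19, .l 20] : List W), t.ev γ ∈ K) :
    W.ev γ (.mul (.mul (.mul (.mul (.mul (.mul (.mul (.mul (.mul (.mul (.mul (.mul (.mul (.l 23) (.l 22)) (.l 23)) (.l 22)) (.l 2)) (.l 1)) (.l 22)) (.l 23)) (.l 22)) (.l 1)) (.l 23)) (.l 2)) (.l 1)) (.l 22)) ∈ K :=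
  TC.mem (D := t3) hL (List.forall_mem_cons.2 ⟨hL.zero_mem K, hK⟩) hr t3_head t3_blocks
    (n := (nat_lit 14)) (w := (nat_lit 0x2c115c36bd822b5ed7)) (st := (nat_lit 0xd4401c150ce582aea6ab0ac1802c04004)) (by decide +kernel) (by decide +kernel)

theorem t3_mem81 {G : Type*} [Group G] {γ : ℕ → G} (hL : Lab γ iv) (hr : ∀ t ∈ R3, t.ev γ = 1) {K : Subgroup G}
    (hK : ∀ t ∈ ([.l 1, .l 2, .l 3, .l 15, .l 16, .l 17, .l 18, .l 19, .l 20] : List W), t.ev γ ∈ K) :
    W.ev γ (.mul (.mul (.mul (.mul (.mul (.mul (.mul (.mul (.mul (.mul (.mul (.mul (.mul (.l 23) (.l 22)) (.l 23)) (.l 22)) (.l 2)) (.l 1)) (.l 22)) (.l 2)) (.l 23)) (.l 1)) (.l 22)) (.l 23)) (.l 1)) (.l 22)) ∈ K :=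
  TC.mem (D := t3) hL (List.forall_mem_cons.2 ⟨hL.zero_mem K, hK⟩) hr t3_head t3_blocks
    (n := (nat_lit 14)) (w := (nat_lit 0x2c1bd83715822b5ed7)) (st := (nat_lit 0xd4402c1f7486da8aa6ab0ac1802c04004)) (by decide +kernel) (by decide +kernel)

theorem t3_mem82 {G : Type*} [Group G] {γ : ℕ → G} (hL : Lab γ iv) (hr : ∀ t ∈ R3, t.ev γ = 1) {K : Subgroup G}
    (hK : ∀ t ∈ ([.l 1, .l 2, .l 3, .l 15, .l 16, .l 17, .l 18, .l 19, .l 20] : List W), t.ev γ ∈ K) :
    W.ev γ (.mul (.mul (.mul (.mul (.mul (.mul (.mul (.mul (.mul (.mul (.mul (.mul (.mul (.l 23) (.l 22)) (.l 23)) (.l 22)) (.l 1)) (.l 23)) (.l 22)) (.l 23)) (.l 1)) (.l 2)) (.l 23)) (.l 1)) (.l 22)) (.l 2)) ∈ K :=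
  TC.mem (D := t3) hL (List.forall_mem_cons.2 ⟨hL.zero_mem K, hK⟩) hr t3_head t3_blocks
    (n := (nat_lit 14)) (w := (nat_lit 0x560dc41bdae1b5ed7)) (st := (nat_lit 0x4c8035100b5901b658432066f1802c04004)) (by decide +kernel) (by decide +kernel)

theorem t3_mem83 {G : Type*} [Group G] {γ : ℕ → G} (hL : Lab γ iv) (hr : ∀ t ∈ R3, t.ev γ = 1) {K : Subgroup G}
    (hK : ∀ t ∈ ([.l 1, .l 2, .l 3, .l 15, .l 16, .l 17, .l 18, .l 19, .l 20] : List W), t.ev γ ∈ K) :
    W.ev γ (.pow (.mul (.mul (.l 22) (.l 2)) (.l 19)) 5) ∈ K :=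
  TC.mem (D := t3) hL (List.forall_mem_cons.2 ⟨hL.zero_mem K, hK⟩) hr t3_head t3_blocks
    (n := (nat_lit 15)) (w := (nat_lit 0x4c5698ad315a62b4c56)) (st := (nat_lit 0x13a4c803025840c465ad36e2c0620c01201802)) (by decide +kernel) (by decide +kernel)

theorem t3_mem84 {G : Type*} [Group G] {γ : ℕ → G} (hL : Lab γ iv) (hr : ∀ t ∈ R3, t.ev γ = 1) {K : Subgroup G}
    (hK : ∀ t ∈ ([.l 1, .l 2, .l 3, .l 15, .l 16, .l 17, .l 18, .l 19, .l 20] : List W), t.ev γ ∈ K) :
    W.ev γ (.pow (.mul (.mul (.l 23) (.l 1)) (.l 18)) 5) ∈ K :=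
  TC.mem (D := t3) hL (List.forall_mem_cons.2 ⟨hL.zero_mem K, hK⟩) hr t3_head t3_blocks
    (n := (nat_lit 15)) (w := (nat_lit 0x4837906f20de41bc837)) (st := (nat_lit 0x1384c00503d9c13c99b8370338961382003004)) (by decide +kernel) (by decide +kernel)

def t3_loops : List W := [.pow (.mul (.l 23) (.l 18)) 5, .mul (.mul (.mul (.mul (.mul (.mul (.mul (.mul (.mul (.mul (.mul (.mul (.mul (.mul (.mul (.mul (.l 22) (.l 19)) (.l 22)) (.l 19)) (.l 2)) (.l 22)) (.l 1)) (.l 22)) (.l 2)) (.l 19)) (.l 22)) (.l 19)) (.l 22)) (.l 19)) (.l 18)) (.l 19)) (.l 1), .mul (.mul (.mul (.mul (.mul (.mul (.mul (.mul (.mul (.mul (.mul (.mul (.mul (.l 22) (.l 19)) (.l 22)) (.l 19)) (.l 2)) (.l 22)) (.l 2)) (.l 22)) (.l 2)) (.l 19)) (.l 22)) (.l 19)) (.l 22)) (.l 19), .mul (.mul (.mul (.mul (.mul (.mul (.mul (.mul (.mul (.mul (.mul (.mul (.mul (.mul (.mul (.mul (.l 22) (.l 19)) (.l 22)) (.l 19)) (.l 2)) (.l 22)) (.l 3)) (.l 22)) (.l 2)) (.l 19)) (.l 22)) (.l 19)) (.l 22))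 (.l 19)) (.l 1)) (.l 19)) (.l 1), .mul (.mul (.mul (.mul (.mul (.mul (.mul (.mul (.mul (.mul (.mul (.mul (.mul (.mul (.l 22) (.l 19)) (.l 22)) (.l 19)) (.l 2)) (.l 22)) (.l 18)) (.l 22)) (.l 2)) (.l 19)) (.l 22)) (.l 19)) (.l 22)) (.l 3)) (.l 1), .mul (.mul (.mul (.mul (.mul (.mul (.mul (.mul (.mul (.mul (.mul (.mul (.mul (.mul (.l 22) (.l 19)) (.l 22)) (.l 19)) (.l 2)) (.l 22)) (.l 19)) (.l 22)) (.l 2)) (.l 19)) (.l 22)) (.l 19)) (.l 22)) (.l 19)) (.l 2), .mul (.mul (.mul (.mul (.mul (.mul (.mul (.mul (.mul (.mul (.mul (.mul (.mul (.l 23) (.l 18)) (.l 23)) (.l 18)) (.l 1)) (.l 23)) (.l 1)) (.l 23)) (.l 1)) (.l 18)) (.l 23)) (.l 18)) (.l 23)) (.l 18), .mul (.mul (.mul (.mul (.mul (.mul (.mul (.mul (.mul (.mul (.mul (.mul (.mul (.mul (.mul (.mul (.l 23) (.l 18)) (.l 23)) (.l 18)) (.l 1)) (.l 23)) (.l 2)) (.l 23)) (.l 1)) (.l 18)) (.l 23)) (.l 18)) (.l 23)) (.l 19)) (.l 1)) (.l 2)) (.l 1), .mul (.mul (.mul (.mul (.mul (.mul (.mul (.mul (.mul (.mul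 (.mul (.mul (.mul (.mul (.mul (.mul (.l 23) (.l 18)) (.l 23)) (.l 18)) (.l 1)) (.l 23)) (.l 3)) (.l 23)) (.l 1)) (.l 18)) (.l 23)) (.l 18)) (.l 23)) (.l 2)) (.l 1)) (.l 2)) (.l 1), .mul (.mul (.mul (.mul (.mul (.mul (.mul (.mul (.mul (.mul (.mul (.mul (.mul (.mul (.l 23) (.l 18)) (.l 23)) (.l 18)) (.l 1)) (.l 23)) (.l 18)) (.l 23)) (.l 1)) (.l 18)) (.l 23)) (.l 18)) (.l 23)) (.l 18)) (.l 1), .mul (.mul (.mul (.mul (.mul (.mul (.mul (.mul (.mul (.mul (.mul (.mul (.mul (.mul (.mul (.mul (.l 23) (.l 18)) (.l 23)) (.l 18)) (.l 1)) (.l 23)) (.l 19)) (.l 23)) (.l 1)) (.l 18)) (.l 23)) (.l 18)) (.l 23)) (.l 3)) (.l 1)) (.l 2)) (.l 1), .mul (.mul (.mul (.mul (.mul (.l 3) (.l 22)) (.l 1)) (.l 18)) (.l 1)) (.l 22), .mul (.mul (.mul (.mul (.mul (.l 3) (.l 2)) (.l 22)) (.l 18)) (.l 22)) (.l 2), .mul (.mul (.mul (.mul (.mul (.l 3) (.l 1)) (.l 22)) (.l 18)) (.l 22)) (.l 1), .mul (.mul (.mul (.mul (.mul (.l 22) (.l 2)) (.l 22)) (.l 2)) (.l 22)) (.l 2), .mul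 (.mul (.mul (.mul (.mul (.mul (.l 3) (.l 18)) (.l 22)) (.l 2)) (.l 18)) (.l 2)) (.l 22), .mul (.mul (.mul (.mul (.mul (.mul (.l 3) (.l 22)) (.l 19)) (.l 18)) (.l 19)) (.l 22)) (.l 1), .mul (.mul (.mul (.mul (.mul (.mul (.l 19) (.l 18)) (.l 19)) (.l 18)) (.l 22)) (.l 1)) (.l 22), .mul (.mul (.mul (.mul (.mul (.mul (.l 22) (.l 2)) (.l 1)) (.l 2)) (.l 1)) (.l 22)) (.l 1), .mul (.mul (.mul (.mul (.mul (.mul (.mul (.l 3) (.l 19)) (.l 22)) (.l 1)) (.l 22)) (.l 1)) (.l 19)) (.l 1), .mul (.mul (.mul (.mul (.mul (.mul (.mul (.l 3) (.l 19)) (.l 1)) (.l 22)) (.l 1)) (.l 22)) (.l 19)) (.l 1), .mul (.mul (.mul (.mul (.mul (.mul (.mul (.l 3) (.l 22)) (.l 1)) (.l 22)) (.l 19)) (.l 1)) (.l 19)) (.l 1), .mul (.mul (.mul (.mul (.mul (.mul (.mul (.l 3) (.l 2)) (.l 1)) (.l 22)) (.l 18)) (.l 22)) (.l 1)) (.l 2), .mul (.mul (.mul (.mul (.mul (.mul (.mul (.l 3) (.l 1)) (.l 2)) (.l 22)) (.l 18)) (.l 22)) (.l 2)) (.l 1), .mul (.mul (.mul (.mul (.l 3) (.l 23)) (.l 19))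 (.l 2)) (.l 23), .mul (.mul (.mul (.mul (.mul (.l 23) (.l 1)) (.l 23)) (.l 1)) (.l 23)) (.l 1), .mul (.mul (.mul (.mul (.mul (.mul (.l 3) (.l 19)) (.l 3)) (.l 23)) (.l 3)) (.l 23)) (.l 2), .mul (.mul (.mul (.mul (.mul (.mul (.l 3) (.l 19)) (.l 23)) (.l 3)) (.l 23)) (.l 3)) (.l 2), .mul (.mul (.mul (.mul (.mul (.mul (.l 3) (.l 19)) (.l 23)) (.l 19)) (.l 2)) (.l 23)) (.l 19), .mul (.mul (.mul (.mul (.mul (.mul (.l 3) (.l 18)) (.l 23)) (.l 19)) (.l 2)) (.l 23)) (.l 18), .mul (.mul (.mul (.mul (.mul (.mul (.l 3) (.l 2)) (.l 23)) (.l 19)) (.l 2)) (.l 23)) (.l 2), .mul (.mul (.mul (.mul (.mul (.mul (.l 3) (.l 1)) (.l 23)) (.l 19)) (.l 2)) (.l 23)) (.l 1), .mul (.mul (.mul (.mul (.mul (.mul (.l 19) (.l 23)) (.l 19)) (.l 23)) (.l 1)) (.l 19)) (.l 1), .mul (.mul (.mul (.mul (.mul (.mul (.l 19) (.l 23)) (.l 2)) (.l 23)) (.l 18)) (.l 19)) (.l 18), .mul (.mul (.mul (.mul (.mul (.mul (.l 23) (.l 2)) (.l 23)) (.l 2)) (.l 1)) (.l 2)) (.l 1), .mul (.mul (.mul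 (.mul (.mul (.mul (.mul (.l 3) (.l 19)) (.l 23)) (.l 18)) (.l 19)) (.l 2)) (.l 18)) (.l 23), .mul (.mul (.mul (.mul (.mul (.mul (.mul (.l 3) (.l 19)) (.l 23)) (.l 18)) (.l 2)) (.l 19)) (.l 18)) (.l 23), .mul (.mul (.mul (.mul (.mul (.mul (.mul (.l 3) (.l 19)) (.l 23)) (.l 2)) (.l 23)) (.l 1)) (.l 19)) (.l 1), .mul (.mul (.mul (.mul (.mul (.mul (.mul (.l 3) (.l 19)) (.l 23)) (.l 2)) (.l 1)) (.l 19)) (.l 1)) (.l 23), .mul (.mul (.mul (.mul (.mul (.mul (.mul (.l 3) (.l 19)) (.l 23)) (.l 1)) (.l 19)) (.l 1)) (.l 2)) (.l 23), .mul (.mul (.mul (.mul (.mul (.mul (.mul (.l 3) (.l 19)) (.l 18)) (.l 19)) (.l 23)) (.l 19)) (.l 23)) (.l 18), .mul (.mul (.mul (.mul (.mul (.mul (.mul (.l 3) (.l 19)) (.l 18)) (.l 19)) (.l 18)) (.l 23)) (.l 19)) (.l 23), .mul (.mul (.mul (.mul (.mul (.mul (.mul (.l 3) (.l 19)) (.l 18)) (.l 23)) (.l 19)) (.l 23)) (.l 19)) (.l 18), .mul (.mul (.mul (.mul (.mul (.mul (.mul (.l 3) (.l 19)) (.l 18)) (.l 2)) (.l 18)) (.l 23)) (.l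 3)) (.l 23), .mul (.mul (.mul (.mul (.mul (.mul (.mul (.l 3) (.l 19)) (.l 2)) (.l 1)) (.l 23)) (.l 3)) (.l 23)) (.l 1), .mul (.mul (.mul (.mul (.mul (.mul (.mul (.l 3) (.l 19)) (.l 1)) (.l 19)) (.l 23)) (.l 2)) (.l 23)) (.l 1), .mul (.mul (.mul (.mul (.mul (.mul (.mul (.l 3) (.l 19)) (.l 1)) (.l 19)) (.l 1)) (.l 23)) (.l 2)) (.l 23), .mul (.mul (.mul (.mul (.mul (.mul (.mul (.l 23) (.l 2)) (.l 1)) (.l 23)) (.l 1)) (.l 2)) (.l 23)) (.l 1), .mul (.mul (.mul (.mul (.mul (.mul (.mul (.l 23) (.l 1)) (.l 2)) (.l 1)) (.l 23)) (.l 1)) (.l 2)) (.l 1), .mul (.mul (.mul (.mul (.mul (.mul (.mul (.l 22) (.l 2)) (.l 22)) (.l 1)) (.l 2)) (.l 22)) (.l 2)) (.l 1), .mul (.mul (.mul (.mul (.mul (.mul (.mul (.l 22) (.l 2)) (.l 1)) (.l 2)) (.l 22)) (.l 2)) (.l 1)) (.l 2), .mul (.mul (.mul (.mul (.mul (.l 23) (.l 22)) (.l 1)) (.l 22)) (.l 23)) (.l 2), .mul (.mul (.mul (.mul (.mul (.mul (.mul (.l 23) (.l 2)) (.l 23)) (.l 2)) (.l 22)) (.l 1)) (.l 22)) (.l 2), .mul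 (.mul (.mul (.mul (.mul (.mul (.mul (.l 23) (.l 2)) (.l 23)) (.l 1)) (.l 22)) (.l 1)) (.l 22)) (.l 1), .mul (.mul (.mul (.mul (.mul (.mul (.mul (.mul (.l 23) (.l 22)) (.l 2)) (.l 1)) (.l 2)) (.l 22)) (.l 1)) (.l 23)) (.l 2), .mul (.mul (.mul (.mul (.mul (.mul (.mul (.mul (.l 23) (.l 22)) (.l 1)) (.l 22)) (.l 2)) (.l 23)) (.l 1)) (.l 2)) (.l 1), .mul (.mul (.mul (.mul (.mul (.mul (.mul (.mul (.mul (.l 23) (.l 22)) (.l 23)) (.l 22)) (.l 23)) (.l 22)) (.l 23)) (.l 22)) (.l 23)) (.l 22), .mul (.mul (.mul (.mul (.mul (.mul (.mul (.mul (.mul (.mul (.l 23) (.l 2)) (.l 1)) (.l 22)) (.l 1)) (.l 22)) (.l 1)) (.l 23)) (.l 1)) (.l 2)) (.l 1), .mul (.mul (.mul (.mul (.mul (.mul (.mul (.mul (.mul (.mul (.mul (.l 23) (.l 22)) (.l 23)) (.l 22)) (.l 23)) (.l 22)) (.l 23)) (.l 22)) (.l 2)) (.l 23)) (.l 22)) (.l 1), .mul (.mul (.mul (.mul (.mul (.mul (.mul (.mul (.mul (.mul (.mul (.l 23) (.l 22)) (.l 23)) (.l 22)) (.l 1)) (.l 23)) (.l 22)) (.l 1)) (.l 23)) (.l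 22)) (.l 1)) (.l 2), .mul (.mul (.mul (.mul (.mul (.mul (.mul (.mul (.mul (.mul (.mul (.l 23) (.l 22)) (.l 23)) (.l 22)) (.l 1)) (.l 23)) (.l 22)) (.l 1)) (.l 2)) (.l 23)) (.l 22)) (.l 2), .mul (.mul (.mul (.mul (.mul (.mul (.mul (.mul (.mul (.mul (.mul (.l 23) (.l 22)) (.l 23)) (.l 22)) (.l 1)) (.l 2)) (.l 23)) (.l 22)) (.l 2)) (.l 23)) (.l 22)) (.l 2), .mul (.mul (.mul (.mul (.mul (.mul (.mul (.mul (.mul (.mul (.mul (.l 23) (.l 22)) (.l 2)) (.l 1)) (.l 2)) (.l 22)) (.l 2)) (.l 1)) (.l 23)) (.l 22)) (.l 1)) (.l 22), .mul (.mul (.mul (.mul (.mul (.mul (.mul (.mul (.mul (.mul (.mul (.l 23) (.l 22)) (.l 2)) (.l 1)) (.l 2)) (.l 22)) (.l 1)) (.l 2)) (.l 23)) (.l 1)) (.l 2)) (.l 1), .mul (.mul (.mul (.mul (.mul (.mul (.mul (.mul (.mul (.mul (.mul (.l 23) (.l 2)) (.l 22)) (.l 2)) (.l 1)) (.l 2)) (.l 22)) (.l 1)) (.l 23)) (.l 1)) (.l 2)) (.l 1), .mul (.mul (.mul (.mul (.mul (.mul (.mul (.mul (.mul (.mul (.mul (.mul (.l 23) (.l 22)) (.l 23)) (.l 22))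 (.l 2)) (.l 22)) (.l 23)) (.l 1)) (.l 2)) (.l 22)) (.l 23)) (.l 1)) (.l 22), .mul (.mul (.mul (.mul (.mul (.mul (.mul (.mul (.mul (.mul (.mul (.mul (.l 23) (.l 22)) (.l 23)) (.l 22)) (.l 2)) (.l 1)) (.l 23)) (.l 22)) (.l 2)) (.l 22)) (.l 23)) (.l 22)) (.l 2), .mul (.mul (.mul (.mul (.mul (.mul (.mul (.mul (.mul (.mul (.mul (.mul (.l 23) (.l 22)) (.l 23)) (.l 22)) (.l 2)) (.l 1)) (.l 23)) (.l 2)) (.l 22)) (.l 23)) (.l 22)) (.l 1)) (.l 2), .mul (.mul (.mul (.mul (.mul (.mul (.mul (.mul (.mul (.mul (.mul (.mul (.l 23) (.l 22)) (.l 23)) (.l 22)) (.l 2)) (.l 1)) (.l 23)) (.l 2)) (.l 22)) (.l 2)) (.l 23)) (.l 22)) (.l 2), .mul (.mul (.mul (.mul (.mul (.mul (.mul (.mul (.mul (.mul (.mul (.mul (.l 23) (.l 22)) (.l 23)) (.l 22)) (.l 1)) (.l 23)) (.l 22)) (.l 23)) (.l 1)) (.l 23)) (.l 22)) (.l 2)) (.l 1), .mul (.mul (.mul (.mul (.mul (.mul (.mul (.mul (.mul (.mul (.mul (.mul (.l 23) (.l 22)) (.l 23)) (.l 22)) (.l 1)) (.l 23)) (.l 22)) (.l 2)) (.l 1))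 (.l 23)) (.l 2)) (.l 22)) (.l 2), .mul (.mul (.mul (.mul (.mul (.mul (.mul (.mul (.mul (.mul (.mul (.mul (.l 23) (.l 22)) (.l 23)) (.l 22)) (.l 1)) (.l 23)) (.l 22)) (.l 1)) (.l 23)) (.l 1)) (.l 22)) (.l 2)) (.l 1), .mul (.mul (.mul (.mul (.mul (.mul (.mul (.mul (.mul (.mul (.mul (.mul (.l 23) (.l 22)) (.l 23)) (.l 22)) (.l 1)) (.l 23)) (.l 1)) (.l 22)) (.l 2)) (.l 1)) (.l 23)) (.l 22)) (.l 2), .mul (.mul (.mul (.mul (.mul (.mul (.mul (.mul (.mul (.mul (.mul (.mul (.l 23) (.l 22)) (.l 23)) (.l 22)) (.l 1)) (.l 2)) (.l 23)) (.l 22)) (.l 23)) (.l 1)) (.l 22)) (.l 2)) (.l 1), .mul (.mul (.mul (.mul (.mul (.mul (.mul (.mul (.mul (.mul (.mul (.mul (.l 23) (.l 22)) (.l 23)) (.l 2)) (.l 22)) (.l 23)) (.l 2)) (.l 22)) (.l 23)) (.l 1)) (.l 2)) (.l 22)) (.l 1), .mul (.mul (.mul (.mul (.mul (.mul (.mul (.mul (.mul (.mul (.mul (.mul (.l 23) (.l 22)) (.l 2)) (.l 23)) (.l 1)) (.l 2)) (.l 22)) (.l 23)) (.l 1)) (.l 22)) (.l 23)) (.l 1)) (.l 22), .mul (.mul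 (.mul (.mul (.mul (.mul (.mul (.mul (.mul (.mul (.mul (.mul (.mul (.l 23) (.l 22)) (.l 23)) (.l 22)) (.l 23)) (.l 22)) (.l 23)) (.l 1)) (.l 22)) (.l 2)) (.l 23)) (.l 2)) (.l 22)) (.l 1), .mul (.mul (.mul (.mul (.mul (.mul (.mul (.mul (.mul (.mul (.mul (.mul (.mul (.l 23) (.l 22)) (.l 23)) (.l 22)) (.l 2)) (.l 23)) (.l 22)) (.l 1)) (.l 23)) (.l 22)) (.l 2)) (.l 23)) (.l 22)) (.l 1), .mul (.mul (.mul (.mul (.mul (.mul (.mul (.mul (.mul (.mul (.mul (.mul (.mul (.l 23) (.l 22)) (.l 23)) (.l 22)) (.l 2)) (.l 22)) (.l 23)) (.l 2)) (.l 22)) (.l 1)) (.l 23)) (.l 2)) (.l 1)) (.l 22), .mul (.mul (.mul (.mul (.mul (.mul (.mul (.mul (.mul (.mul (.mul (.mul (.mul (.l 23) (.l 22)) (.l 23)) (.l 22)) (.l 2)) (.l 1)) (.l 23)) (.l 2)) (.l 22)) (.l 23)) (.l 1)) (.l 22)) (.l 2)) (.l 1), .mul (.mul (.mul (.mul (.mul (.mul (.mul (.mul (.mul (.mul (.mul (.mul (.mul (.l 23) (.l 22)) (.l 23)) (.l 22)) (.l 2)) (.l 1)) (.l 22)) (.l 23)) (.l 22)) (.l 1)) (.l 23)) (.l 2))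 (.l 1)) (.l 22), .mul (.mul (.mul (.mul (.mul (.mul (.mul (.mul (.mul (.mul (.mul (.mul (.mul (.l 23) (.l 22)) (.l 23)) (.l 22)) (.l 2)) (.l 1)) (.l 22)) (.l 2)) (.l 23)) (.l 1)) (.l 22)) (.l 23)) (.l 1)) (.l 22), .mul (.mul (.mul (.mul (.mul (.mul (.mul (.mul (.mul (.mul (.mul (.mul (.mul (.l 23) (.l 22)) (.l 23)) (.l 22)) (.l 1)) (.l 23)) (.l 22)) (.l 23)) (.l 1)) (.l 2)) (.l 23)) (.l 1)) (.l 22)) (.l 2), .pow (.mul (.mul (.l 22) (.l 2)) (.l 19)) 5, .pow (.mul (.mul (.l 23) (.l 1)) (.l 18)) 5]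

theorem t3_mems {G : Type*} [Group G] {γ : ℕ → G} (hL : Lab γ iv) (hr : ∀ t ∈ R3, t.ev γ = 1) {K : Subgroup G}
    (hK : ∀ t ∈ ([.l 1, .l 2, .l 3, .l 15, .l 16, .l 17, .l 18, .l 19, .l 20] : List W), t.ev γ ∈ K) :
    ∀ t ∈ t3_loops, t.ev γ ∈ K :=
  List.forall_mem_cons.2 ⟨t3_mem0 hL hr hK,
    List.forall_mem_cons.2 ⟨t3_mem1 hL hr hK,
    List.forall_mem_cons.2 ⟨t3_mem2 hL hr hK,
    List.forall_mem_cons.2 ⟨t3_mem3 hL hr hK,
    List.forall_mem_cons.2 ⟨t3_mem4 hL hr hK,
    List.forall_mem_cons.2 ⟨t3_mem5 hL hr hK,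
    List.forall_mem_cons.2 ⟨t3_mem6 hL hr hK,
    List.forall_mem_cons.2 ⟨t3_mem7 hL hr hK,
    List.forall_mem_cons.2 ⟨t3_mem8 hL hr hK,
    List.forall_mem_cons.2 ⟨t3_mem9 hL hr hK,
    List.forall_mem_cons.2 ⟨t3_mem10 hL hr hK,
    List.forall_mem_cons.2 ⟨t3_mem11 hL hr hK,
    List.forall_mem_cons.2 ⟨t3_mem12 hL hr hK,
    List.forall_mem_cons.2 ⟨t3_mem13 hL hr hK,
    List.forall_mem_cons.2 ⟨t3_mem14 hL hr hK,
    List.forall_mem_cons.2 ⟨t3_mem15 hL hr hK,
    List.forall_mem_cons.2 ⟨t3_mem16 hL hr hK,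
    List.forall_mem_cons.2 ⟨t3_mem17 hL hr hK,
    List.forall_mem_cons.2 ⟨t3_mem18 hL hr hK,
    List.forall_mem_cons.2 ⟨t3_mem19 hL hr hK,
    List.forall_mem_cons.2 ⟨t3_mem20 hL hr hK,
    List.forall_mem_cons.2 ⟨t3_mem21 hL hr hK,
    List.forall_mem_cons.2 ⟨t3_mem22 hL hr hK,
    List.forall_mem_cons.2 ⟨t3_mem23 hL hr hK,
    List.forall_mem_cons.2 ⟨t3_mem24 hL hr hK,
    List.forall_mem_cons.2 ⟨t3_mem25 hL hr hK,
    List.forall_mem_cons.2 ⟨t3_mem26 hL hr hK,
    List.forall_mem_cons.2 ⟨t3_mem27 hL hr hK,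
    List.forall_mem_cons.2 ⟨t3_mem28 hL hr hK,
    List.forall_mem_cons.2 ⟨t3_mem29 hL hr hK,
    List.forall_mem_cons.2 ⟨t3_mem30 hL hr hK,
    List.forall_mem_cons.2 ⟨t3_mem31 hL hr hK,
    List.forall_mem_cons.2 ⟨t3_mem32 hL hr hK,
    List.forall_mem_cons.2 ⟨t3_mem33 hL hr hK,
    List.forall_mem_cons.2 ⟨t3_mem34 hL hr hK,
    List.forall_mem_cons.2 ⟨t3_mem35 hL hr hK,
    List.forall_mem_cons.2 ⟨t3_mem36 hL hr hK,
    List.forall_mem_cons.2 ⟨t3_mem37 hL hr hK,
    List.forall_mem_cons.2 ⟨t3_mem38 hL hr hK,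
    List.forall_mem_cons.2 ⟨t3_mem39 hL hr hK,
    List.forall_mem_cons.2 ⟨t3_mem40 hL hr hK,
    List.forall_mem_cons.2 ⟨t3_mem41 hL hr hK,
    List.forall_mem_cons.2 ⟨t3_mem42 hL hr hK,
    List.forall_mem_cons.2 ⟨t3_mem43 hL hr hK,
    List.forall_mem_cons.2 ⟨t3_mem44 hL hr hK,
    List.forall_mem_cons.2 ⟨t3_mem45 hL hr hK,
    List.forall_mem_cons.2 ⟨t3_mem46 hL hr hK,
    List.forall_mem_cons.2 ⟨t3_mem47 hL hr hK,
    List.forall_mem_cons.2 ⟨t3_mem48 hL hr hK,
    List.forall_mem_cons.2 ⟨t3_mem49 hL hr hK,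
    List.forall_mem_cons.2 ⟨t3_mem50 hL hr hK,
    List.forall_mem_cons.2 ⟨t3_mem51 hL hr hK,
    List.forall_mem_cons.2 ⟨t3_mem52 hL hr hK,
    List.forall_mem_cons.2 ⟨t3_mem53 hL hr hK,
    List.forall_mem_cons.2 ⟨t3_mem54 hL hr hK,
    List.forall_mem_cons.2 ⟨t3_mem55 hL hr hK,
    List.forall_mem_cons.2 ⟨t3_mem56 hL hr hK,
    List.forall_mem_cons.2 ⟨t3_mem57 hL hr hK,
    List.forall_mem_cons.2 ⟨t3_mem58 hL hr hK,
    List.forall_mem_cons.2 ⟨t3_mem59 hL hr hK,
    List.forall_mem_cons.2 ⟨t3_mem60 hL hr hK,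
    List.forall_mem_cons.2 ⟨t3_mem61 hL hr hK,
    List.forall_mem_cons.2 ⟨t3_mem62 hL hr hK,
    List.forall_mem_cons.2 ⟨t3_mem63 hL hr hK,
    List.forall_mem_cons.2 ⟨t3_mem64 hL hr hK,
    List.forall_mem_cons.2 ⟨t3_mem65 hL hr hK,
    List.forall_mem_cons.2 ⟨t3_mem66 hL hr hK,
    List.forall_mem_cons.2 ⟨t3_mem67 hL hr hK,
    List.forall_mem_cons.2 ⟨t3_mem68 hL hr hK,
    List.forall_mem_cons.2 ⟨t3_mem69 hL hr hK,
    List.forall_mem_cons.2 ⟨t3_mem70 hL hr hK,
    List.forall_mem_cons.2 ⟨t3_mem71 hL hr hK,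
    List.forall_mem_cons.2 ⟨t3_mem72 hL hr hK,
    List.forall_mem_cons.2 ⟨t3_mem73 hL hr hK,
    List.forall_mem_cons.2 ⟨t3_mem74 hL hr hK,
    List.forall_mem_cons.2 ⟨t3_mem75 hL hr hK,
    List.forall_mem_cons.2 ⟨t3_mem76 hL hr hK,
    List.forall_mem_cons.2 ⟨t3_mem77 hL hr hK,
    List.forall_mem_cons.2 ⟨t3_mem78 hL hr hK,
    List.forall_mem_cons.2 ⟨t3_mem79 hL hr hK,
    List.forall_mem_cons.2 ⟨t3_mem80 hL hr hK,
    List.forall_mem_cons.2 ⟨t3_mem81 hL hr hK,
    List.forall_mem_cons.2 ⟨t3_mem82 hL hr hK,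
    List.forall_mem_cons.2 ⟨t3_mem83 hL hr hK,
    List.forall_mem_cons.2 ⟨t3_mem84 hL hr hK,
    fun _ h => absurd h List.not_mem_nil⟩⟩⟩⟩⟩⟩⟩⟩⟩⟩⟩⟩⟩⟩⟩⟩⟩⟩⟩⟩⟩⟩⟩⟩⟩⟩⟩⟩⟩⟩⟩⟩⟩⟩⟩⟩⟩⟩⟩⟩⟩⟩⟩⟩⟩⟩⟩⟩⟩⟩⟩⟩⟩⟩⟩⟩⟩⟩⟩⟩⟩⟩⟩⟩⟩⟩⟩⟩⟩⟩⟩⟩⟩⟩⟩⟩⟩⟩⟩⟩⟩⟩⟩⟩⟩

def t4_F : Tr := .leaf (nat_lit 0x81080d00d01102402802204704406c06b06886986a8e58f77e77f77c07e40640660600627e37f68e18f685f8757df7f57ba7dd05d05e05b05c05905a0520540720707f47f3a70af48d88f4a56af38f18f37d67f28588718d18ef86e86f7ee7ef7d07cf7ae7cc04c04e04804a7cb7ed8c98ed86b86c8ea8eb7e97ea8c48e98448688c18e7be2be6841865be0be48be8e383e8618bb8dfbdcbdebdbbdd83a85db5ab5cb59b5b15415a1521597b47d8a52ad78d38d58338538328527b07d1a4cad084f8508cd8cfb4ab4e82f84db48b4c82e84c8ac8cb82c8498468478c58c67c37c57a37c40a50c37a17c1bbdbc0bbcbbf79f7be79d7bbbb8bbabb7bb9b36b38b35b371321361311351b01b47997b37977afb2bb2eb2ab2d7957ac1951a98a98a98298297a97a98278288a68a77a57a68a48a5b8dba40a20a41a11a3b9eba019d19fb9bb9cb1ab1b11811a917919b14b1699299389289281281279279290c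90c10c10c98c98c08c08c18c18c80c80c10b10b98b98b80b80b18b18bb8ab8a98a98a10a10a18a18a80a80a989989109109189189809809988988108108808808987987107107187187807807986986086086106106806806186186906906085085905905805805185185b04b04084084904904184184804804083083803803183183082082902902182182802802081081881881801801781781181181901901980980900900880880800800780780180180100100080080b77b64b76b60b75b5db74b57b73b55bf2bd4b71b53bf0bd2b6fb50b6eb4fbedbc8b6cb47b6bb46b6ab45b69b43b68b42b67b407e67c0b65b3f8e48bfb63b3d7e27bdb61b3c8e08bcb5fb3a7de7ba8dd8b97dc7b88db8b77da7b68d98b5b58b338d78b3bd6bb2ad5a327d47b2ad3a318d28b1b51b2f8d08afacfa2e7ce7aeacda2d8cc8adbcbbab7ca7abbc9baa8c88aa0c70a80c60a70c50a6b44b228c38a2842822b41b208c08a083f820b3eb1e8bd89e83c81eb3bb1c8ba89c83981c8b889b83781b8b689a83581ab34b19ab3a188b2898831818b30b17aafa168ae89682d816bacb948ab89482a814ba9b92ba8b91ba7b90ba6b8fba5b8e7a478bb23b0a7a278ab21b097a0789b1fb0879e788b1db0779c78779b78679a785a99a04798784a97a03796783b95b8279478211310211210181181089088f78f78e88e88d78d78cb8cb8b08b08a90a909b89b88908907b87b86b06b05105104984983b03b02982981b01b00000000)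
def t4_T : Tr := .leaf (nat_lit 0xefdbaf4e7cb8f0dfbb6ecd7ab4e8cf9b2e4c78b0e0bf7aedcb76acd8af5aad4a74a8d09f3a6cc972a4c88f1a2c4870a0c07ef9ebc76e9cb86ed9ab466c98b05eb96ac56a94a84e992a446890a03e78e9c3668c982e58a9426488901e3868c16284880e182840608080)
def t4_P : Tr := .node (.node (.node (.leaf (nat_lit 0x4f00e4d52f4d40f00a8b0380c4ac0d03c02b240e4dd3303c01a180e4c40f000840300a02006010023ccff00c0501c0902c0d00c9b0300a4840b4ac0d00a810300a48c0b034001e80c49c0d0007803129034001d80c4940d0047602808464094740b000184900a47c0b004130291b02c000280a4740b0000602006010023fc030140702400254084640644c070251d00ea90200643d1301c09006a602115024000b00845c0900017018044040501d1500ca60190d01c001e00644407000760110b008f100c0543c03aa404008f53c40301401a980440c050002c011070140005c023ccf13ccf100c02a04023ec0300079008f900c001e0023dc0300077008fd00c001d8023d40300476))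
  (.leaf (nat_lit 0x1fb8f5f68032e310c78e8ec802778e5f36cd7f6c1f08da357c5b15f9b27d002040ec300c3000793a9eb2fc001e0ea8ccbf000778c0bc001167be2f7b200cb9e98b5e68032b7962b78a00bbce58a0e08032e892268861c8001e87e1b785a375a1885e14865d7689e088802040e877ce10067b3a0ae2c4001e4e62a8ad0067b399dd38c001e4e42a0ad00083389db2c4001e0de280a300079379d3374001e0de848dd0007727a107500107a0e27000459cf835ca8032b25097828da80283825c5665966459564d916559165d9871802040da2409300085361c335c001e0d6704d500079351bf34c001dcd22188900079)))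
  (.leaf (nat_lit 0x8a62dba000092204411c001dc86611880020d2084010c001dc806047b002851f9811e400a107c0f03f000771d8380ec001dc745f471002851c97d1bc00a10705ec6d002791b97b1ac009e06c5e4650020c1a97918c00828685dc6100076198300cc010785e0b02f0041e1717515c009e45a5d45500278160280ac0020c525c8260ac01a18525c453000851496f14c00210525b453000831402213c002104e0804d000851301e12c0020c4a07186000851201906c00a0c4805845002091181410c001d8400483d00283)))
  (.node (.node (.leaf (nat_lit 0xf8100ec001d83803837002830d80c0d4009dc3402831002080c8080bc010842c018290027709804094008b824424250000c091070940002824414250000806016050120400e4d52d03c1104c1505c1900c9f0615f0595305c1900a8d0615d0595505c1900a8c0601655c1706400228185755f06401a181856c1900084059555455305d5d00662560160514d05417002610594f05c0002c165441700007050120400e4b40f0441305400258140494304d4d05402adc145254b0540184c145241500022051470540004948048104f53f04413002b9049450413f04413004b70494550c13006860494104c00210100393303d3f04402adc104ed3d0440184c104e41100012))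
  (.leaf (nat_lit 0x7fc007fc007fc007fc007fc007fc007fc007fc007fc007fc007fc007fc007fc007fc007fc007fc007fc007fc007fc007fc007fc007fe50088004645193d878032e23e4d61200bb0d992c888032b81e487fe00c65ff802468120080603805bd60db87f242915f96e5826f200016103b8c832c001e4ee904cf000778f8cc00116)))
  (.leaf (nat_lit 0x34084224001e0ce2008300079331b731400a0cca1f88300078321b530400a14c61e87d00079308781f4001e0be1d077000792f1af2e400a0cba6b4b7002852e8721d400004b86acb5002772d9a92cc009e4b469ca9002082c9a529400830b068469000772b866195d80081f2a86418ca70061f2986219c010f8a418865000012899f184001dca01785d7200207ca0731d0000012785c16c9b0061f2719d254009dc9a1685f0043e2619b244009e4981685d0000125856164002149215059000842398f2340002c8c6348b0000d)))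
def t4_N_0 : Tr := .node (.node (.node (.node (.leaf (nat_lit 553139727))
  (.leaf (nat_lit 232)))
  (.leaf (nat_lit 24230169154)))
  (.node (.leaf (nat_lit 692126785))
  (.leaf (nat_lit 639668832867))))
  (.node (.node (.node (.leaf (nat_lit 0x1f2a49f2ac9f2ac841))
  (.leaf (nat_lit 18450)))
  (.leaf (nat_lit 0x11047795e41bcee195e57)))
  (.node (.leaf (nat_lit 2183759459))
  (.leaf (nat_lit 0x1b0837b0af615ed7))))
def t4_N_1 : Tr := .node (.node (.node (.node (.leaf (nat_lit 0x1f183e2f1be2f8c1e3))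
  (.leaf (nat_lit 461)))
  (.leaf (nat_lit 1814071350)))
  (.node (.leaf (nat_lit 724651649))
  (.leaf (nat_lit 0xdae2b5ed7b5ed7))))
  (.node (.node (.node (.leaf (nat_lit 523324898))
  (.leaf (nat_lit 0)))
  (.leaf (nat_lit 2923138659)))
  (.node (.leaf (nat_lit 37163666003))
  (.leaf (nat_lit 2050))))
def t4_N_2 : Tr := .node (.node (.node (.node (.leaf (nat_lit 80975))
  (.leaf (nat_lit 9226)))
  (.leaf (nat_lit 789284353)))
  (.node (.leaf (nat_lit 741589273218))
  (.leaf (nat_lit 69883462742))))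
  (.node (.node (.node (.leaf (nat_lit 636275408399))
  (.leaf (nat_lit 661)))
  (.leaf (nat_lit 1813054550)))
  (.node (.leaf (nat_lit 53755334227))
  (.leaf (nat_lit 0x560dc41bdae1b5ed7))))
def t4_N_3 : Tr := .node (.node (.node (.node (.leaf (nat_lit 2786692161))
  (.leaf (nat_lit 528)))
  (.leaf (nat_lit 0x2769da62b0ac29da76)))
  (.node (.leaf (nat_lit 691169342325825))
  (.leaf (nat_lit 0x2b5ec2b5c22b5ed7))))
  (.node (.node (.leaf (nat_lit 672818857025))
  (.leaf (nat_lit 1141988439)))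
  (.node (.leaf (nat_lit 738000))
  (.leaf (nat_lit 165))))
def t4_N_4 : Tr := .node (.node (.node (.node (.leaf (nat_lit 527875))
  (.leaf (nat_lit 329)))
  (.leaf (nat_lit 770800)))
  (.node (.leaf (nat_lit 22097253936))
  (.leaf (nat_lit 793194890851))))
  (.node (.node (.node (.leaf (nat_lit 591425))
  (.leaf (nat_lit 692)))
  (.leaf (nat_lit 90265686)))
  (.node (.leaf (nat_lit 1730203203))
  (.leaf (nat_lit 0x2c115c3615ec2b5ed7))))
def t4_N_5 : Tr := .node (.node (.node (.node (.leaf (nat_lit 20326455429601))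
  (.leaf (nat_lit 13326)))
  (.leaf (nat_lit 0xb5c56b8ad715ae2)))
  (.node (.leaf (nat_lit 676108239937))
  (.leaf (nat_lit 0xb06d708ac208ad7))))
  (.node (.node (.leaf (nat_lit 669581426274))
  (.leaf (nat_lit 2921978947)))
  (.node (.leaf (nat_lit 1169911564899))
  (.leaf (nat_lit 132))))
def t4_N_6 : Tr := .node (.node (.node (.node (.leaf (nat_lit 83025))
  (.leaf (nat_lit 364)))
  (.leaf (nat_lit 25358337633)))
  (.node (.leaf (nat_lit 2905632050241))
  (.leaf (nat_lit 2991111310039))))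
  (.node (.node (.node (.leaf (nat_lit 626275))
  (.leaf (nat_lit 22550)))
  (.leaf (nat_lit 70551012419)))
  (.node (.leaf (nat_lit 37146397267))
  (.leaf (nat_lit 33))))
def t4_N_7 : Tr := .node (.node (.node (.node (.leaf (nat_lit 0x9c9f3941f284df29be0f))
  (.leaf (nat_lit 561)))
  (.leaf (nat_lit 0x25795e41b86e195e57)))
  (.node (.leaf (nat_lit 638682723))
  (.leaf (nat_lit 0x2b0ae115ae1b5ed7))))
  (.node (.node (.leaf (nat_lit 685565988585058))
  (.leaf (nat_lit 791986396771)))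
  (.node (.leaf (nat_lit 757794914))
  (.leaf (nat_lit 6150))))
def t4_N_8 : Tr := .node (.node (.node (.node (.leaf (nat_lit 615227808333359))
  (.leaf (nat_lit 7176)))
  (.leaf (nat_lit 92410042433)))
  (.node (.leaf (nat_lit 626086465))
  (.leaf (nat_lit 59180616291))))
  (.node (.node (.node (.leaf (nat_lit 593475))
  (.leaf (nat_lit 627)))
  (.leaf (nat_lit 90789955)))
  (.node (.leaf (nat_lit 2201028195))
  (.leaf (nat_lit 0x3615c560ded7b5ed7))))
def t4_N_9 : Tr := .node (.node (.node (.node (.leaf (nat_lit 606800))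
  (.leaf (nat_lit 430)))
  (.leaf (nat_lit 57728055)))
  (.node (.leaf (nat_lit 21090717232))
  (.leaf (nat_lit 0x15ae20dae1b5ed7))))
  (.node (.node (.leaf (nat_lit 566502211074))
  (.leaf (nat_lit 21175590499)))
  (.node (.leaf (nat_lit 54814362675))
  (.leaf (nat_lit 99))))
def t4_N_10 : Tr := .node (.node (.node (.node (.leaf (nat_lit 82000))
  (.leaf (nat_lit 395)))
  (.leaf (nat_lit 773555937)))
  (.node (.leaf (nat_lit 741603953296))
  (.leaf (nat_lit 92398509143))))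
  (.node (.node (.node (.leaf (nat_lit 600827313697))
  (.leaf (nat_lit 726)))
  (.leaf (nat_lit 55500801635)))
  (.node (.leaf (nat_lit 53755873875))
  (.leaf (nat_lit 0x4837906f20de41bc837))))
def t4_N_11 : Tr := .node (.node (.node (.node (.leaf (nat_lit 0x4de37cde378441))
  (.leaf (nat_lit 16400)))
  (.leaf (nat_lit 0x4769da62b4ac29da76)))
  (.node (.leaf (nat_lit 51250))
  (.leaf (nat_lit 0x2b5c5615c22b5ed7))))
  (.node (.node (.leaf (nat_lit 687763430587919))
  (.leaf (nat_lit 810241580643)))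
  (.node (.leaf (nat_lit 741018306))
  (.leaf (nat_lit 198))))
def t4_N_12 : Tr := .node (.node (.node (.node (.leaf (nat_lit 68675))
  (.leaf (nat_lit 298)))
  (.leaf (nat_lit 24239714)))
  (.node (.leaf (nat_lit 691123848257))
  (.leaf (nat_lit 36564928567))))
  (.node (.node (.node (.leaf (nat_lit 522242529))
  (.leaf (nat_lit 21524)))
  (.leaf (nat_lit 1832472259)))
  (.node (.leaf (nat_lit 36543483475))
  (.leaf (nat_lit 0x2c115c36bd822b5ed7))))
def t4_N_13 : Tr := .node (.node (.node (.node (.leaf (nat_lit 0x24f849f28be507ca0f8be01))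
  (.leaf (nat_lit 495)))
  (.leaf (nat_lit 659251265101399)))
  (.node (.leaf (nat_lit 2873422875713))
  (.leaf (nat_lit 0x88370d84115857))))
  (.node (.node (.leaf (nat_lit 624479825))
  (.leaf (nat_lit 1713098483)))
  (.node (.leaf (nat_lit 740035))
  (.leaf (nat_lit 4100))))
def t4_N_14 : Tr := .node (.node (.node (.node (.leaf (nat_lit 36542908450))
  (.leaf (nat_lit 11276)))
  (.leaf (nat_lit 791987062369)))
  (.node (.leaf (nat_lit 708242))
  (.leaf (nat_lit 800126326759127))))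
  (.node (.node (.node (.leaf (nat_lit 625250))
  (.leaf (nat_lit 759)))
  (.leaf (nat_lit 24202979)))
  (.node (.leaf (nat_lit 70417156691))
  (.leaf (nat_lit 66))))
def t4_N_15 : Tr := .node (.node (.node (.node (.leaf (nat_lit 704143))
  (.leaf (nat_lit 594)))
  (.leaf (nat_lit 0x11045795e41b8ee195e57)))
  (.node (.leaf (nat_lit 1697696355))
  (.leaf (nat_lit 0x2b5c22b06e1b5ed7))))
  (.node (.node (.leaf (nat_lit 705168))
  (.leaf (nat_lit 643833645667)))
  (.node (.leaf (nat_lit 755698178))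
  (.leaf (nat_lit 263))))
def t4_N_16 : Tr := .node (.node (.node (.node (.leaf (nat_lit 574000))
  (.leaf (nat_lit 232)))
  (.leaf (nat_lit 23679009857)))
  (.node (.leaf (nat_lit 726729793))
  (.leaf (nat_lit 794285918819))))
  (.node (.node (.node (.leaf (nat_lit 707219))
  (.leaf (nat_lit 627)))
  (.leaf (nat_lit 739837635)))
  (.node (.leaf (nat_lit 1698236003))
  (.leaf (nat_lit 0x160dec1bd841b8ad7))))
def t4_N_17 : Tr := .node (.node (.node (.node (.leaf (nat_lit 0x45e38be237c46f88de3))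
  (.leaf (nat_lit 14349)))
  (.leaf (nat_lit 2921367607)))
  (.node (.leaf (nat_lit 659052144))
  (.leaf (nat_lit 0x106d70dae1b5ed7))))
  (.node (.node (.node (.leaf (nat_lit 670668701199))
  (.leaf (nat_lit 0)))
  (.leaf (nat_lit 2272386659)))
  (.node (.leaf (nat_lit 54846851667))
  (.leaf (nat_lit 99))))
def t4_N_18 : Tr := .node (.node (.node (.node (.leaf (nat_lit 48175))
  (.leaf (nat_lit 395)))
  (.leaf (nat_lit 790332961)))
  (.node (.leaf (nat_lit 741590321795))
  (.leaf (nat_lit 91948759))))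
  (.node (.node (.node (.leaf (nat_lit 566467575297))
  (.leaf (nat_lit 20501)))
  (.leaf (nat_lit 54817512035)))
  (.node (.leaf (nat_lit 55384788563))
  (.leaf (nat_lit 0x4c5698ad315a62b4c56))))
def t4_N_19 : Tr := .node (.node (.node (.node (.leaf (nat_lit 21427041848802))
  (.leaf (nat_lit 528)))
  (.leaf (nat_lit 0x1986769da62b0ec29da76)))
  (.node (.leaf (nat_lit 85075))
  (.leaf (nat_lit 0x20daf615c22b5ed7))))
  (.node (.node (.leaf (nat_lit 2868014320705))
  (.leaf (nat_lit 809688981091)))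
  (.node (.leaf (nat_lit 739025))
  (.leaf (nat_lit 5125))))
def t4_N_20 : Tr := .node (.node (.node (.node (.leaf (nat_lit 560675))
  (.leaf (nat_lit 10249)))
  (.leaf (nat_lit 771825)))
  (.node (.leaf (nat_lit 20050495056))
  (.leaf (nat_lit 59124712535))))
  (.node (.node (.node (.leaf (nat_lit 589842992))
  (.leaf (nat_lit 692)))
  (.leaf (nat_lit 23708392003)))
  (.node (.leaf (nat_lit 1159792195))
  (.leaf (nat_lit 0x22b06f615c22b5ed7))))
def t4_N_21 : Tr := .node (.node (.node (.node (.leaf (nat_lit 0x49e37c86f1bc61))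
  (.leaf (nat_lit 495)))
  (.leaf (nat_lit 693369444096630)))
  (.node (.leaf (nat_lit 738300903041))
  (.leaf (nat_lit 0x8837106c208ad7))))
  (.node (.node (.leaf (nat_lit 624447056))
  (.leaf (nat_lit 1848237091)))
  (.node (.leaf (nat_lit 2252779145827))
  (.leaf (nat_lit 132))))
def t4_N_22 : Tr := .node (.node (.node (.node (.leaf (nat_lit 50225))
  (.leaf (nat_lit 364)))
  (.leaf (nat_lit 24787354689)))
  (.node (.leaf (nat_lit 723601765499969))
  (.leaf (nat_lit 1170079418071))))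
  (.node (.node (.node (.leaf (nat_lit 640625))
  (.leaf (nat_lit 759)))
  (.leaf (nat_lit 37265016867)))
  (.node (.leaf (nat_lit 54829582931))
  (.leaf (nat_lit 1025))))
def t4_N_23 : Tr := .node (.node (.node (.node (.leaf (nat_lit 690817))
  (.leaf (nat_lit 17425)))
  (.leaf (nat_lit 0x11067795e41b8ae195e57)))
  (.node (.leaf (nat_lit 2803976803))
  (.leaf (nat_lit 0x1158370dae1b5ed7))))
  (.node (.node (.leaf (nat_lit 658081))
  (.leaf (nat_lit 792475000419)))
  (.node (.leaf (nat_lit 754649570))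
  (.leaf (nat_lit 263))))
def t4_N_24 : Tr := .node (.node (.node (.node (.leaf (nat_lit 0x45f08be117c22f845f0))
  (.leaf (nat_lit 329)))
  (.leaf (nat_lit 769775)))
  (.node (.leaf (nat_lit 626545232))
  (.leaf (nat_lit 59147650659))))
  (.node (.node (.node (.leaf (nat_lit 607825))
  (.leaf (nat_lit 19475)))
  (.leaf (nat_lit 57235491)))
  (.node (.leaf (nat_lit 1712934467))
  (.leaf (nat_lit 0x36b8ad70dae2b5ed7))))
def t4_N_25 : Tr := .node (.node (.node (.node (.leaf (nat_lit 18958434))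
  (.leaf (nat_lit 430)))
  (.leaf (nat_lit 834244505754358)))
  (.node (.leaf (nat_lit 675000943681))
  (.leaf (nat_lit 0x15ae2b5c41b5ed7))))
  (.node (.node (.leaf (nat_lit 600861949474))
  (.leaf (nat_lit 20101848643)))
  (.node (.leaf (nat_lit 36560734259))
  (.leaf (nat_lit 3075))))
def t4_N_26 : Tr := .node (.node (.node (.node (.leaf (nat_lit 49200))
  (.leaf (nat_lit 12299)))
  (.leaf (nat_lit 25336448097)))
  (.node (.leaf (nat_lit 741605001873))
  (.leaf (nat_lit 58038738007))))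
  (.node (.node (.node (.leaf (nat_lit 635187052097))
  (.leaf (nat_lit 726)))
  (.leaf (nat_lit 54815033027)))
  (.node (.leaf (nat_lit 619617815123))
  (.leaf (nat_lit 33))))
def t4_N_27 : Tr := .node (.node (.node (.node (.leaf (nat_lit 0x117c26f84df38be707ce0f))
  (.leaf (nat_lit 561)))
  (.leaf (nat_lit 0xa769da62b4ec29da76)))
  (.node (.leaf (nat_lit 2689603))
  (.leaf (nat_lit 0x115ae1bdae1b5ed7))))
  (.node (.node (.leaf (nat_lit 616262396264994))
  (.leaf (nat_lit 54818594403)))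
  (.node (.leaf (nat_lit 711319))
  (.leaf (nat_lit 198))))
def t4_N_28 : Tr := .node (.node (.node (.node (.leaf (nat_lit 35875))
  (.leaf (nat_lit 298)))
  (.leaf (nat_lit 788235745)))
  (.node (.leaf (nat_lit 535430842849))
  (.leaf (nat_lit 37247572054))))
  (.node (.node (.node (.leaf (nat_lit 19833276514))
  (.leaf (nat_lit 661)))
  (.leaf (nat_lit 23679553107)))
  (.node (.leaf (nat_lit 69861985875))
  (.leaf (nat_lit 0x2c1bd83715822b5ed7))))
def t4_N_29 : Tr := .node (.node (.node (.node (.leaf (nat_lit 639600))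
  (.leaf (nat_lit 15375)))
  (.leaf (nat_lit 0x19ca769da62b06c29da76)))
  (.node (.leaf (nat_lit 690619570783297))
  (.leaf (nat_lit 0x160dec20dec2b5ed7))))
  (.node (.node (.leaf (nat_lit 604097858096))
  (.leaf (nat_lit 19984517875)))
  (.node (.leaf (nat_lit 736975))
  (.leaf (nat_lit 165))))
def t4_N_30 : Tr := .node (.node (.node (.node (.leaf (nat_lit 0x882278de378de3))
  (.leaf (nat_lit 461)))
  (.leaf (nat_lit 791416636481)))
  (.node (.leaf (nat_lit 675506))
  (.leaf (nat_lit 0x441b86c1b0457))))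
  (.node (.node (.node (.leaf (nat_lit 590892592))
  (.leaf (nat_lit 23575)))
  (.leaf (nat_lit 57728055)))
  (.node (.leaf (nat_lit 88100342355))
  (.leaf (nat_lit 66))))
def t4_N_31 : Tr := .node (.node (.node (.node (.leaf (nat_lit 22598192))
  (.leaf (nat_lit 594)))
  (.leaf (nat_lit 0x65795e41bcae195e57)))
  (.node (.leaf (nat_lit 1160809059))
  (.leaf (nat_lit 0x115837b5c41b5ed7))))
  (.node (.node (.leaf (nat_lit 21550640))
  (.leaf (nat_lit 811466345059)))
  (.node (.leaf (nat_lit 756746786))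
  (.leaf (nat_lit 8199))))
def t4_N : Tr := .node (.node (.node (.node (.node t4_N_0
  t4_N_1)
  (.node t4_N_2
  t4_N_3))
  (.node (.node t4_N_4
  t4_N_5)
  (.node t4_N_6
  t4_N_7)))
  (.node (.node (.node t4_N_8
  t4_N_9)
  (.node t4_N_10
  t4_N_11))
  (.node (.node t4_N_12
  t4_N_13)
  (.node t4_N_14
  t4_N_15))))
  (.node (.node (.node (.node t4_N_16
  t4_N_17)
  (.node t4_N_18
  t4_N_19))
  (.node (.node t4_N_20
  t4_N_21)
  (.node t4_N_22
  t4_N_23)))
  (.node (.node (.node t4_N_24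
  t4_N_25)
  (.node t4_N_26
  t4_N_27))
  (.node (.node t4_N_28
  t4_N_29)
  (.node t4_N_30
  t4_N_31))))
noncomputable def t4 : TC :=
  ⟨[.l 0, .l 1, .l 2, .l 3, .l 4, .l 5, .l 6, .l 7, .l 8, .l 9, .l 10, .l 11, .l 12, .l 13, .l 14, .l 15, .l 16, .l 17, .l 18, .l 19, .l 20, .l 21, .l 22, .l 23],
    (nat_lit 7), (nat_lit 10), (nat_lit 0xbda959ca307b5cb62547418a418820), (nat_lit 2064399), (nat_lit 120), (nat_lit 8), (nat_lit 32), (nat_lit 6), (nat_lit 306),
    get (nat_lit 10) (nat_lit 0x1003010030080400c02010030080400c02010030080400c02010030080400c02010030080400c02010030080400c02010030080400c02010030080400c02010030080400c02010030080400c02010030080400c02010030080f03c0e0380e0380e0380e0340d0340d0340d0340d0340d0340c0300c0300c0300c02c0a024090200801808020080200802008020080200802008020080200701c0701c0701c0701c070180502008020080200701c0701c06018060181103c110440e03c0f0440e0440a0280c0280601c070200801c0701c060180601805010040100801c070180601806010060100401004024090200802008020080200802008020080200801c0701c0701c0701c0701c06014040100a02809020080200701806010040280902008020080200801c070180601806014040100a0280a02408020060180802008020060180401004020080200801c0601804010040100e01404010100440b024070101202c090140403c0e03008010040100401004010040100403c0a01006),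 Tr.get t4_N, get (nat_lit 20) (nat_lit 0x3ff003ff003ff003ff003ff003ff003ff003ff003ff003ff003ff003ff003ff003ff003ff003ff003ff003ff003ff003ff003ff003ff003ff003ff003ff003ff003ff003ff003ff003ff003ff003ff003ff003ff003ff003ff003ff003ff003ff003ff003ff003ff003ff003ff003ff003ff003ff003ff003ff003ff003ff003ff003ff003ff003ff003ff003ff003ff003ff003ff003ff003ff003ff003ff003ff003ff003ff003ff003ff003ff003ff000ea000e9000e8000e7000e6000e5000e4000e3000e2000e1000e0000df000de000dd000dc000db000da000d9000d8000d7000d6000d5000d4000d3000d2000d1000d0000cf000ce000cd000cc000cb000ca000c9000c8000c7000c6000c5000c4000c3000c2000c1000c0000bf000be000bd000bc000bb000ba000b9000b8000b7000b6000b5000b4000b3000b2000b1000b0000af000ae000ad000ac000ab000aa000a9000a8000a7000a6000a5000a4000a3000a2000a1000a00009f0009e0009d0009c0009b0009a000990009800097000960009500094000930009200091000900008f0008e0008d0008c0008b0008a000890008800087000860008500084000830008200081000800007f0007e0007d0007c0007b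0007a000790007800077000760007500074000730007200071000700006f0006e0006d0006c0006b0006a000690006800067000660006500064000630006200061000600005f0005e0005d0005c0005b0005a000590005800057000560005500054000530005200051000500004f0004e0004d0004c0004b0004a000490004800047000460004500044000430004200041000400003f0003e0003d0003c0003b0003a000390003800037000360003500034000330003200031000300002f0002e0002d0002c0002b0002a000290002800027000260002500024000230002200021000200001f0001e0001d0001c0001b0001a000190001800017000160001500014000130001200011000100000f0000e0000d0000c0000b0000a00009000080000700006000050000400003000020000100000),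
    Tr.get3 t4_F (nat_lit 24) (nat_lit 5), Tr.get3 t4_T (nat_lit 7) (nat_lit 7), Tr.get t4_P⟩

theorem t4_head : t4.headOK R4 iv = true := by decide +kernel

theorem t4_b0 : allFrom (nat_lit 0) (nat_lit 6) t4.blockOK = true := by decide +kernel

theorem t4_blocks : ∀ t < t4.k, t4.blockOK t = true :=
  (of_allFrom_append of_lt_zero t4_b0)

theorem t4_mem0 {G : Type*} [Group G] {γ : ℕ → G} (hL : Lab γ iv) (hr : ∀ t ∈ R4, t.ev γ = 1) {K : Subgroup G}
    (hK : ∀ t ∈ ([.l 1, .l 2, .l 3, .l 15, .l 16, .l 17, .l 18, .l 19, .l 20] : List W), t.ev γ ∈ K) :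
    W.ev γ (.mul (.mul (.mul (.mul (.mul (.mul (.mul (.mul (.mul (.mul (.mul (.mul (.mul (.mul (.mul (.mul (.mul (.l 22) (.l 19)) (.l 22)) (.l 19)) (.l 2)) (.l 22)) (.l 23)) (.l 18)) (.l 23)) (.l 18)) (.l 1)) (.l 23)) (.l 2)) (.l 18)) (.l 19)) (.l 1)) (.inv (.mul (.mul (.mul (.mul (.mul (.mul (.mul (.mul (.mul (.mul (.mul (.mul (.mul (.mul (.l 22) (.l 19)) (.l 22)) (.l 19)) (.l 2)) (.l 22)) (.l 23)) (.l 18)) (.l 23)) (.l 18)) (.l 1)) (.l 23)) (.l 2)) (.l 18)) (.l 19)))) (.inv (.l 1))) ∈ K :=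
  TC.mem (D := t4) hL (List.forall_mem_cons.2 ⟨hL.zero_mem K, hK⟩) hr t4_head t4_blocks
    (n := (nat_lit 32)) (w := (nat_lit 0xda7698ad795e41b8a530ce42b865795ec29da76)) (st := (nat_lit 0x3c003014070240b0340f0441305417065685a966591665a96806016050120400e0300a0200601002)) (by decide +kernel) (by decide +kernel)

theorem t4_mem1 {G : Type*} [Group G] {γ : ℕ → G} (hL : Lab γ iv) (hr : ∀ t ∈ R4, t.ev γ = 1) {K : Subgroup G}
    (hK : ∀ t ∈ ([.l 1, .l 2, .l 3, .l 15, .l 16, .l 17, .l 18, .l 19, .l 20] : List W), t.ev γ ∈ K) :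
    W.ev γ (.mul (.mul (.mul (.mul (.mul (.mul (.mul (.mul (.mul (.mul (.mul (.mul (.mul (.mul (.mul (.mul (.mul (.l 22) (.l 19)) (.l 22)) (.l 19)) (.l 2)) (.l 22)) (.l 23)) (.l 18)) (.l 23)) (.l 18)) (.l 1)) (.l 23)) (.l 2)) (.l 18)) (.l 19)) (.l 2)) (.inv (.mul (.mul (.mul (.mul (.mul (.mul (.mul (.mul (.mul (.mul (.mul (.mul (.mul (.mul (.l 22) (.l 19)) (.l 22)) (.l 19)) (.l 2)) (.l 22)) (.l 23)) (.l 18)) (.l 23)) (.l 18)) (.l 1)) (.l 23)) (.l 2)) (.l 18)) (.l 19)))) (.inv (.l 2))) ∈ K :=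
  TC.mem (D := t4) hL (List.forall_mem_cons.2 ⟨hL.zero_mem K, hK⟩) hr t4_head t4_blocks
    (n := (nat_lit 32)) (w := (nat_lit 0x15a7698ad795e41b8a5314e42b865795ec29da76)) (st := (nat_lit 0x3c803014070240b0340f0441305417065685a9665a1665a96806016050120400e0300a0200601002)) (by decide +kernel) (by decide +kernel)

theorem t4_mem2 {G : Type*} [Group G] {γ : ℕ → G} (hL : Lab γ iv) (hr : ∀ t ∈ R4, t.ev γ = 1) {K : Subgroup G}
    (hK : ∀ t ∈ ([.l 1, .l 2, .l 3, .l 15, .l 16, .l 17, .l 18, .l 19, .l 20] : List W), t.ev γ ∈ K) :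
    W.ev γ (.mul (.mul (.mul (.mul (.mul (.mul (.mul (.mul (.mul (.mul (.mul (.mul (.mul (.mul (.mul (.mul (.mul (.l 22) (.l 19)) (.l 22)) (.l 19)) (.l 2)) (.l 22)) (.l 23)) (.l 18)) (.l 23)) (.l 18)) (.l 1)) (.l 23)) (.l 2)) (.l 18)) (.l 19)) (.l 3)) (.inv (.mul (.mul (.mul (.mul (.mul (.mul (.mul (.mul (.mul (.mul (.mul (.mul (.mul (.mul (.l 22) (.l 19)) (.l 22)) (.l 19)) (.l 2)) (.l 22)) (.l 23)) (.l 18)) (.l 23)) (.l 18)) (.l 1)) (.l 23)) (.l 2)) (.l 18)) (.l 19)))) (.inv (.l 3))) ∈ K :=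
  TC.mem (D := t4) hL (List.forall_mem_cons.2 ⟨hL.zero_mem K, hK⟩) hr t4_head t4_blocks
    (n := (nat_lit 32)) (w := (nat_lit 0x1da7698ad795e41b8a531ce42b865795ec29da76)) (st := (nat_lit 0x3d003014070240b0340f0441305417065685a966589665a96806016050120400e0300a0200601002)) (by decide +kernel) (by decide +kernel)

theorem t4_mem3 {G : Type*} [Group G] {γ : ℕ → G} (hL : Lab γ iv) (hr : ∀ t ∈ R4, t.ev γ = 1) {K : Subgroup G}
    (hK : ∀ t ∈ ([.l 1, .l 2, .l 3, .l 15, .l 16, .l 17, .l 18, .l 19, .l 20] : List W), t.ev γ ∈ K) :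
    W.ev γ (.mul (.mul (.mul (.mul (.mul (.mul (.mul (.mul (.mul (.mul (.mul (.mul (.mul (.mul (.mul (.mul (.mul (.l 22) (.l 19)) (.l 22)) (.l 19)) (.l 2)) (.l 22)) (.l 23)) (.l 18)) (.l 23)) (.l 18)) (.l 1)) (.l 23)) (.l 2)) (.l 18)) (.l 19)) (.l 18)) (.inv (.mul (.mul (.mul (.mul (.mul (.mul (.mul (.mul (.mul (.mul (.mul (.mul (.mul (.mul (.l 22) (.l 19)) (.l 22)) (.l 19)) (.l 2)) (.l 22)) (.l 23)) (.l 18)) (.l 23)) (.l 18)) (.l 1)) (.l 23)) (.l 2)) (.l 18)) (.l 19)))) (.inv (.l 18))) ∈ K :=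
  TC.mem (D := t4) hL (List.forall_mem_cons.2 ⟨hL.zero_mem K, hK⟩) hr t4_head t4_blocks
    (n := (nat_lit 32)) (w := (nat_lit 0x95a7698ad795e41b8a5394e42b865795ec29da76)) (st := (nat_lit 0x3f003014070240b0340f0441305417065685a9665a9665a96806016050120400e0300a0200601002)) (by decide +kernel) (by decide +kernel)

theorem t4_mem4 {G : Type*} [Group G] {γ : ℕ → G} (hL : Lab γ iv) (hr : ∀ t ∈ R4, t.ev γ = 1) {K : Subgroup G}
    (hK : ∀ t ∈ ([.l 1, .l 2, .l 3, .l 15, .l 16, .l 17, .l 18, .l 19, .l 20] : List W), t.ev γ ∈ K) :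
    W.ev γ (.mul (.mul (.mul (.mul (.mul (.mul (.mul (.mul (.mul (.mul (.mul (.mul (.mul (.mul (.mul (.mul (.mul (.l 22) (.l 19)) (.l 22)) (.l 19)) (.l 2)) (.l 22)) (.l 23)) (.l 18)) (.l 23)) (.l 18)) (.l 1)) (.l 23)) (.l 2)) (.l 18)) (.l 19)) (.l 19)) (.inv (.mul (.mul (.mul (.mul (.mul (.mul (.mul (.mul (.mul (.mul (.mul (.mul (.mul (.mul (.l 22) (.l 19)) (.l 22)) (.l 19)) (.l 2)) (.l 22)) (.l 23)) (.l 18)) (.l 23)) (.l 18)) (.l 1)) (.l 23)) (.l 2)) (.l 18)) (.l 19)))) (.inv (.l 19))) ∈ K :=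
  TC.mem (D := t4) hL (List.forall_mem_cons.2 ⟨hL.zero_mem K, hK⟩) hr t4_head t4_blocks
    (n := (nat_lit 30)) (w := (nat_lit 0x2769da62b5e57906e294e42b865795ec29da76)) (st := (nat_lit 0x3f803014070240b0340f0441305417065685a9665a96806016050120400e0300a0200601002)) (by decide +kernel) (by decide +kernel)

theorem t4_mem5 {G : Type*} [Group G] {γ : ℕ → G} (hL : Lab γ iv) (hr : ∀ t ∈ R4, t.ev γ = 1) {K : Subgroup G}
    (hK : ∀ t ∈ ([.l 1, .l 2, .l 3, .l 15, .l 16, .l 17, .l 18, .l 19, .l 20] : List W), t.ev γ ∈ K) :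
    W.ev γ (.mul (.mul (.mul (.mul (.mul (.mul (.mul (.mul (.mul (.mul (.mul (.mul (.mul (.mul (.mul (.mul (.mul (.l 22) (.l 19)) (.l 22)) (.l 19)) (.l 2)) (.l 22)) (.l 23)) (.l 18)) (.l 23)) (.l 18)) (.l 1)) (.l 23)) (.l 2)) (.l 18)) (.l 19)) (.l 16)) (.inv (.mul (.mul (.mul (.mul (.mul (.mul (.mul (.mul (.mul (.mul (.mul (.mul (.mul (.mul (.l 22) (.l 19)) (.l 22)) (.l 19)) (.l 2)) (.l 22)) (.l 23)) (.l 18)) (.l 23)) (.l 18)) (.l 1)) (.l 23)) (.l 2)) (.l 18)) (.l 19)))) (.inv (.l 16))) ∈ K :=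
  TC.mem (D := t4) hL (List.forall_mem_cons.2 ⟨hL.zero_mem K, hK⟩) hr t4_head t4_blocks
    (n := (nat_lit 32)) (w := (nat_lit 0x85a7698ad795e41b8a5384e42b865795ec29da76)) (st := (nat_lit 0x3e003014070240b0340f0441305417065685a966581665a96806016050120400e0300a0200601002)) (by decide +kernel) (by decide +kernel)

theorem t4_mem6 {G : Type*} [Group G] {γ : ℕ → G} (hL : Lab γ iv) (hr : ∀ t ∈ R4, t.ev γ = 1) {K : Subgroup G}
    (hK : ∀ t ∈ ([.l 1, .l 2, .l 3, .l 15, .l 16, .l 17, .l 18, .l 19, .l 20] : List W), t.ev γ ∈ K) :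
    W.ev γ (.mul (.mul (.mul (.mul (.mul (.mul (.mul (.mul (.mul (.mul (.mul (.mul (.mul (.mul (.mul (.mul (.mul (.l 22) (.l 19)) (.l 22)) (.l 19)) (.l 2)) (.l 22)) (.l 23)) (.l 18)) (.l 23)) (.l 18)) (.l 1)) (.l 23)) (.l 2)) (.l 18)) (.l 19)) (.mul (.mul (.mul (.mul (.mul (.l 15) (.l 17)) (.l 15)) (.l 17)) (.l 16)) (.l 15))) (.inv (.mul (.mul (.mul (.mul (.mul (.mul (.mul (.mul (.mul (.mul (.mul (.mul (.mul (.mul (.l 22) (.l 19)) (.l 22)) (.l 19)) (.l 2)) (.l 22)) (.l 23)) (.l 18)) (.l 23)) (.l 18)) (.l 1)) (.l 23)) (.l 2)) (.l 18)) (.l 19)))) (.inv (.mul (.mul (.mul (.mul (.mul (.l 15) (.l 17)) (.l 15)) (.l 17)) (.l 16)) (.l 15)))) ∈ K :=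
  TC.mem (D := t4) hL (List.forall_mem_cons.2 ⟨hL.zero_mem K, hK⟩) hr t4_head t4_blocks
    (n := (nat_lit 42)) (w := (nat_lit 0x1f17c60fb4ed315af2bc83714a6f845f17ce42b865795ec29da76)) (st := (nat_lit 0x3d8fa3d8fa3e0f600c0501c0902c0d03c1104c1505c195a16a5981b94c200781c069665a96806016050120400e0300a0200601002)) (by decide +kernel) (by decide +kernel)

theorem t4_mem7 {G : Type*} [Group G] {γ : ℕ → G} (hL : Lab γ iv) (hr : ∀ t ∈ R4, t.ev γ = 1) {K : Subgroup G}
    (hK : ∀ t ∈ ([.l 1, .l 2, .l 3, .l 15, .l 16, .l 17, .l 18, .l 19, .l 20] : List W), t.ev γ ∈ K) :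
    W.ev γ (.mul (.mul (.mul (.mul (.mul (.mul (.mul (.mul (.mul (.mul (.mul (.mul (.mul (.mul (.mul (.mul (.mul (.l 22) (.l 19)) (.l 22)) (.l 19)) (.l 2)) (.l 22)) (.l 23)) (.l 18)) (.l 23)) (.l 18)) (.l 1)) (.l 23)) (.l 2)) (.l 18)) (.l 19)) (.pow (.mul (.l 1) (.l 2)) 2)) (.inv (.mul (.mul (.mul (.mul (.mul (.mul (.mul (.mul (.mul (.mul (.mul (.mul (.mul (.mul (.l 22) (.l 19)) (.l 22)) (.l 19)) (.l 2)) (.l 22)) (.l 23)) (.l 18)) (.l 23)) (.l 18)) (.l 1)) (.l 23)) (.l 2)) (.l 18)) (.l 19)))) (.inv (.pow (.mul (.l 1) (.l 2)) 2))) ∈ K :=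
  TC.mem (D := t4) hL (List.forall_mem_cons.2 ⟨hL.zero_mem K, hK⟩) hr t4_head t4_blocks
    (n := (nat_lit 38)) (w := (nat_lit 0x2208ad3b4c56bcaf20dc52988220ce42b865795ec29da76)) (st := (nat_lit 0x3c0f23c0f200c0501c0902c0d03c1104c1505c195a16a5996859168591665a96806016050120400e0300a0200601002)) (by decide +kernel) (by decide +kernel)

def t4_loops : List W := [.mul (.mul (.mul (.mul (.mul (.mul (.mul (.mul (.mul (.mul (.mul (.mul (.mul (.mul (.mul (.mul (.mul (.l 22) (.l 19)) (.l 22)) (.l 19)) (.l 2)) (.l 22)) (.l 23)) (.l 18)) (.l 23)) (.l 18)) (.l 1)) (.l 23)) (.l 2)) (.l 18)) (.l 19)) (.l 1)) (.inv (.mul (.mul (.mul (.mul (.mul (.mul (.mul (.mul (.mul (.mul (.mul (.mul (.mul (.mul (.l 22) (.l 19)) (.l 22)) (.l 19)) (.l 2)) (.l 22)) (.l 23)) (.l 18)) (.l 23)) (.l 18)) (.l 1)) (.l 23)) (.l 2)) (.l 18)) (.l 19)))) (.inv (.l 1)), .mul (.mul (.mul (.mul (.mul (.mul (.mul (.mul (.mul (.mul (.mul (.mul (.mul (.mul (.mul (.mul (.mul (.l 22) (.l 19))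 (.l 22)) (.l 19)) (.l 2)) (.l 22)) (.l 23)) (.l 18)) (.l 23)) (.l 18)) (.l 1)) (.l 23)) (.l 2)) (.l 18)) (.l 19)) (.l 2)) (.inv (.mul (.mul (.mul (.mul (.mul (.mul (.mul (.mul (.mul (.mul (.mul (.mul (.mul (.mul (.l 22) (.l 19)) (.l 22)) (.l 19)) (.l 2)) (.l 22)) (.l 23)) (.l 18)) (.l 23)) (.l 18)) (.l 1)) (.l 23)) (.l 2)) (.l 18)) (.l 19)))) (.inv (.l 2)), .mul (.mul (.mul (.mul (.mul (.mul (.mul (.mul (.mul (.mul (.mul (.mul (.mul (.mul (.mul (.mul (.mul (.l 22) (.l 19)) (.l 22)) (.l 19)) (.l 2)) (.l 22)) (.l 23)) (.l 18)) (.l 23)) (.l 18)) (.l 1)) (.l 23)) (.l 2)) (.l 18)) (.l 19)) (.l 3)) (.inv (.mul (.mul (.mul (.mul (.mul (.mul (.mul (.mul (.mul (.mul (.mul (.mul (.mul (.mul (.l 22) (.l 19)) (.l 22)) (.l 19)) (.l 2)) (.l 22)) (.l 23)) (.l 18)) (.l 23)) (.l 18)) (.l 1)) (.l 23)) (.l 2)) (.l 18)) (.l 19)))) (.inv (.l 3)), .mul (.mul (.mul (.mul (.mul (.mul (.mul (.mul (.mul (.mul (.mul (.mul (.mul (.mul (.mul (.mul (.mul (.l 22) (.l 19))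 (.l 22)) (.l 19)) (.l 2)) (.l 22)) (.l 23)) (.l 18)) (.l 23)) (.l 18)) (.l 1)) (.l 23)) (.l 2)) (.l 18)) (.l 19)) (.l 18)) (.inv (.mul (.mul (.mul (.mul (.mul (.mul (.mul (.mul (.mul (.mul (.mul (.mul (.mul (.mul (.l 22) (.l 19)) (.l 22)) (.l 19)) (.l 2)) (.l 22)) (.l 23)) (.l 18)) (.l 23)) (.l 18)) (.l 1)) (.l 23)) (.l 2)) (.l 18)) (.l 19)))) (.inv (.l 18)), .mul (.mul (.mul (.mul (.mul (.mul (.mul (.mul (.mul (.mul (.mul (.mul (.mul (.mul (.mul (.mul (.mul (.l 22) (.l 19)) (.l 22)) (.l 19)) (.l 2)) (.l 22)) (.l 23)) (.l 18)) (.l 23)) (.l 18)) (.l 1)) (.l 23)) (.l 2)) (.l 18)) (.l 19)) (.l 19)) (.inv (.mul (.mul (.mul (.mul (.mul (.mul (.mul (.mul (.mul (.mul (.mul (.mul (.mul (.mul (.l 22) (.l 19)) (.l 22)) (.l 19)) (.l 2)) (.l 22)) (.l 23)) (.l 18)) (.l 23)) (.l 18)) (.l 1)) (.l 23)) (.l 2)) (.l 18)) (.l 19)))) (.inv (.l 19)), .mul (.mul (.mul (.mul (.mul (.mul (.mul (.mul (.mul (.mul (.mul (.mul (.mul (.mul (.mul (.mul (.mul (.l 22) (.l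 19)) (.l 22)) (.l 19)) (.l 2)) (.l 22)) (.l 23)) (.l 18)) (.l 23)) (.l 18)) (.l 1)) (.l 23)) (.l 2)) (.l 18)) (.l 19)) (.l 16)) (.inv (.mul (.mul (.mul (.mul (.mul (.mul (.mul (.mul (.mul (.mul (.mul (.mul (.mul (.mul (.l 22) (.l 19)) (.l 22)) (.l 19)) (.l 2)) (.l 22)) (.l 23)) (.l 18)) (.l 23)) (.l 18)) (.l 1)) (.l 23)) (.l 2)) (.l 18)) (.l 19)))) (.inv (.l 16)), .mul (.mul (.mul (.mul (.mul (.mul (.mul (.mul (.mul (.mul (.mul (.mul (.mul (.mul (.mul (.mul (.mul (.l 22) (.l 19)) (.l 22)) (.l 19)) (.l 2)) (.l 22)) (.l 23)) (.l 18)) (.l 23)) (.l 18)) (.l 1)) (.l 23)) (.l 2)) (.l 18)) (.l 19)) (.mul (.mul (.mul (.mul (.mul (.l 15) (.l 17)) (.l 15)) (.l 17)) (.l 16)) (.l 15))) (.inv (.mul (.mul (.mul (.mul (.mul (.mul (.mul (.mul (.mul (.mul (.mul (.mul (.mul (.mul (.l 22) (.l 19)) (.l 22)) (.l 19)) (.l 2)) (.l 22)) (.l 23)) (.l 18)) (.l 23)) (.l 18)) (.l 1)) (.l 23)) (.l 2)) (.l 18)) (.l 19)))) (.inv (.mul (.mul (.mul (.mul (.mul (.l 15) (.l 17))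 (.l 15)) (.l 17)) (.l 16)) (.l 15))), .mul (.mul (.mul (.mul (.mul (.mul (.mul (.mul (.mul (.mul (.mul (.mul (.mul (.mul (.mul (.mul (.mul (.l 22) (.l 19)) (.l 22)) (.l 19)) (.l 2)) (.l 22)) (.l 23)) (.l 18)) (.l 23)) (.l 18)) (.l 1)) (.l 23)) (.l 2)) (.l 18)) (.l 19)) (.pow (.mul (.l 1) (.l 2)) 2)) (.inv (.mul (.mul (.mul (.mul (.mul (.mul (.mul (.mul (.mul (.mul (.mul (.mul (.mul (.mul (.l 22) (.l 19)) (.l 22)) (.l 19)) (.l 2)) (.l 22)) (.l 23)) (.l 18)) (.l 23)) (.l 18)) (.l 1)) (.l 23)) (.l 2)) (.l 18)) (.l 19)))) (.inv (.pow (.mul (.l 1) (.l 2)) 2))]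

theorem t4_mems {G : Type*} [Group G] {γ : ℕ → G} (hL : Lab γ iv) (hr : ∀ t ∈ R4, t.ev γ = 1) {K : Subgroup G}
    (hK : ∀ t ∈ ([.l 1, .l 2, .l 3, .l 15, .l 16, .l 17, .l 18, .l 19, .l 20] : List W), t.ev γ ∈ K) :
    ∀ t ∈ t4_loops, t.ev γ ∈ K :=
  List.forall_mem_cons.2 ⟨t4_mem0 hL hr hK,
    List.forall_mem_cons.2 ⟨t4_mem1 hL hr hK,
    List.forall_mem_cons.2 ⟨t4_mem2 hL hr hK,
    List.forall_mem_cons.2 ⟨t4_mem3 hL hr hK,
    List.forall_mem_cons.2 ⟨t4_mem4 hL hr hK,
    List.forall_mem_cons.2 ⟨t4_mem5 hL hr hK,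
    List.forall_mem_cons.2 ⟨t4_mem6 hL hr hK,
    List.forall_mem_cons.2 ⟨t4_mem7 hL hr hK,
    fun _ h => absurd h List.not_mem_nil⟩⟩⟩⟩⟩⟩⟩⟩

def t4z_F : Tr := .leaf (nat_lit 0xb00b0000300000000500300500602a02600602a02602b02c03d05106805a1591699e89dea67ae89679619e49e7164166ad1a50a4ead30630530e20e5960964adea610dd0df1cb1df14d15d95395c15715c9d79dbb56b580c90d8bc3bd79ce9d69cf9d51bd1d4ad0a549d39d31531531d11d3acfa539499520bc0d29c79d20d00d01cf1d09509500cf0cf0ce0cea3dace1ba1ce94e94e0cc0cdac8a4c0c60ca1451499119471311470b20c5944945a42ac513c1441b21c4ac2a44abca430b90c31bf1c313d13d1c0189baabc10ba0ba9919bca36aa7aa8a371b61b60b60b6b36b330b70b7b37b37a28ab712c137038037ab8a2812c1380b30b39b39a202203403501f9b59b518a1b1a9da2baaba1da1caaaa2aa9c92a92a1aa1aa0aa0aa12a1060ab0ab0ac0aca1eaac1ac1ac92c92cb2cb2602602d0300260ad0b01271279a79a79a89a8ba7ba4128128ba8ba81a81a809e0a80290281a91a909e0a9aa6a1fa9fa26a25aa2a22aa51241241261269a69a61a61a61a51a51251259a59a50a60a60a509b926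926a9ba21a20a9aa1aaa0b21b21b22b1f01f0239229229219210a20a29209200a10a10a00a01a01a01a11a11a21a292392399f99f11f11f99e99e19e19e11e11e19d19d11d11d99d99d99c99c11c11c19c19c09c09909f09f91f91f99b99b11b11b19a19a11a11a999999119119a86a19199199a06a99b9bb9ba93a1711810ca18a90b8bb9810b114a09a91b04b10a0ba84a07a8b08b08ba0aa87a04a8a90a90a08a08a084089107107186186086086906906a05a82905905b05b05185185085085104104a03a81a01a83083083903903183183982982102102182182b82b82101101981981181181a80a009809809009001801801001000800800e90d3b68b51be7bd0be6bcf16514fbe4bceae3a4e16214ebe1bccbe0bcb95f94ab5eb4895d9469dc9be15b13eb5ab3d0d90bd95893ca57abb1d61bb0d50bbbd4bb7bd3bb6152132bd1bacb50b28b4fb27b4eb1d94d91894c91794b9151ca1959c99949c89931c71911c618c9c598b9c498a9439099429070c10c094093fbbfbbe93e93dbbdbabb3cb3b9bb9bab3ab1e939904b38b379b79b613612bb35b349b49b31331209b29b1b31b199b09af92f92e9ae9adb2db2c9ac9abb2bb2a9aa985ba9ba89289270a709dba6ba59259240a409ab23b221221219a19a0b20b06b9fb9e91e91db9db9c91c90291b91ab9ab99919901098097b17b16b96b9209508c094091113110b12b0711110ab90b8fb0fb0eb8eb8db0db0cb8cb8ab0bb02b0ab01109108088087b87b85986983105103b84b83b03b00082081b81b80000000)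
def t4z_T : Tr := .leaf (nat_lit 0x34e8cf9b2e4c78b0e0bf7aedcb76acd8af5aad4a74a8d09f3a6cc972a4c88f1a2c4870a0c07ef9ebc76e9cb86ed9ab466c98b05eb96ac56a94a84e992a446890a03e78e9c3668c982e58a9426488901e3868c16284880e182840608080)
def t4z_P : Tr := .node (.node (.node (.leaf (nat_lit 0x891343001874200781c068180500235007024f900ed03e10c04810460021041640c0f0067b0580439002350d63500301417008cf4281104d0d44802104143dc090067b438143841543c01a8414008d4358d400ce505401334120400e0280635007024043340e028063500702c0f002ca41904030f33c40d0005e4100c3bcf33c40d0065e03006360d401c0d006a63a0ea010e43dcf002d000064c3e8ff3f4ff3ec01a840a018d43580702cfa004c73e80a018da01c0b3e8002b40a3c8063500702c0120408018d401c0900ac9390053a8043d00210406378030067b018dc368dc01cee00ca63b80635cdb35c0700a80018d4368d401c00284ea398e839800a18e60100235cd500c05002c539804394e33840539c02b0804008d400c050028a008d7354d73540300a8d008dd354dd3540300a8c008dd35c0300686))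
  (.leaf (nat_lit 0x9c7307b0067b2703d1d4001d89c53c9d004762683026400090984a4910024e2502a2340081c924848b0002e23822444230041323822738008188a45c16010152260500ea9228163a40405489006a622919214019388808df20002e221ce194000b08845085002212191e7c800938864347300024219f9200000887a159c115c7b00ac943408035bf7d8820028b208801f87c1e8566f80c018dc01cf302cfb0280d415bf016eb1d03f55c3e1d401324781d874671a2675505503c5303a50832008da00c1508c01bac517b86e006211b86c6f06d7a86f78c0294dea1bde6791e67906e000a91bde41b9e8758445c95e5c84575de91bde479c6e01c99759705617175c66101bf15c6d1bde41b800261e16c98a5f9b3781e400ec777c700012c77ddc0012977ddb000f0)))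
  (.node (.leaf (nat_lit 0x19b6659a000f466d97000ed1404e0f5968002465d526580001c521404e0e83801002368d400c3350c3b0f400ba99262d7f62d7f00a40131905c0009ed8e60d7c4ed7d00a41611835f13b5e16b1156d0064c12d806104d6184c12801b057a62186131851357b006c16184c5f13d5f58313400af17a131826004d5e8002cc4d5e84c128480d1340d44912c4d5e84c5f13b5f406a804d5e84c128480d12e0d44912c4d5e84c5f13b5f406a784d5e84c128480d1320d44912c4d5e84c5f13b5f406a744c128480d032014e60e5420d4375f44d5e800ba8360d032008da350030cc351244b1357a1300727c4c128480d032008d436c030cc351244b13405a7c425d837002215d043115691116510803150404c0350067b1157055d71110009e96e118004b046110421000c018d535cd535cdd36cd700c050e43b0f43f80ceb1116a1096210c455a4019b4425896710d5f59402978441096210d5f11400061621010910563006a110840418415816310c02aac40030f0034415800329843578420002c))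
  (.leaf (nat_lit 0x1ff001ff001ff001ff001ff001ff001ff001ff001ff001ff001ff001ff001ff001ff001ff001ff001ff9ec060012c9e277001313fa7701a00cb0559d40c803239c272001316fe7062e00bc1b39bc568032c28e6d1ea00cbcd19a8b48032c2d0b39a0d28d63792a49905ff1c8083c40947027244bd99e00bacd296e1f7ecb30024094a6399001138d0970cf0067b30a189325093cc1950c886a203266033a29894cf002a033a273365f004ae))))
  (.node (.node (.leaf (nat_lit 0x1144756846110009f0475684600076118441084003006350d901c0d104431144700c9a4f83e551530fd3f55c022e43e5503c52c3d0fc012dc3f5013e0f83c0e9424cd435143b0f43f4fd410f8032803f5013e0f83c0e9424cd4351c3b0f43f4fd410f8032783f5013e0f83c0e9424cd435243b0f43f4fd410f8032743a5093550d470ed4b000bc0e9465093350c3b00a8d0e9485093550c3b00a8c51146509334d543006185092d4c13350c00901424bd43000070c80236803014390ec3d0fd3e5043e0f03a0089f4f83e0f03a0e004008db00c050e43b0f43f01c9f0f83c0e8380100235003014390ec3d0fc06a712a0d9380dd2b4ec01acc364e1370dc0184c340c8e50cd354bc3500cc10d1340c8e30cc35004b70c8053b4e901033008610c8e139433006130c8f4034009383238433000220c8f703401884360d032014e601002350db00c330d4370189c0c52409c00874180500505d2200ac94751b488019ec300b82c0900e3e80a018d400c0505c02b742808814008d4358d400ce501417008d5))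
  (.leaf (nat_lit 0xcc2784e274c900ac9892388ee1e86a5a8cc0192659318004a63132e573122131e02904ca8f0aa1da1c31400060c82714d52c9d8fa4490e13834a58ae11088190ac9730403bacc285cbd0027b2fa152ec00090be25097000222e88c49c9b006132e07c1e86d29e3700cb72e0b791c000b8b61fdfc90000a18b01e0ad006762c22c8bc00090ae1e6000007b2b076870008b0aa1d874670a189e2300cab2a06e1b07b006862a1ef284009ee34299eb7b5eb29c02a2ca67a1d97a4a700ac92986f784a300686299f027c009eca48320b8160c84802194a48320980a070044029064838008b8a01409f88e2600aa32805027c001d8a067ca100476279a4635a527c013249c0f4757d61c00aa3)))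
  (.leaf (nat_lit 0x6e1b05976a000b99d6e1da0021d1c06e1b0561500a018dc35807035bf15c59002e97595d11165115d70081875068001231add25c600cb171110421000c018dc358070344119c691add08029b1a8681984003006358dd01c0d104671a46b0169b18832054001d9ca5344f6ac4e00a400e9c815c009edc651d424cd4300a4151146509324b5046fdc40064c709be415bf0041315c596c988629b36d1b2629886cc58159c101a9a1510015457165b26218a6cdba6c98b625b31605602097030063700702c5515c596c98962db3160560089b165b25fdb36ddbb16002aadb213183135b3004c96c9940f8019edb25edb3000766c9876cc011d9b0168004b1ac6b97f802ed6297e629885e98a1317c0d8340c80201c0b154571645b6b2093ac601785c1685815854028063500702c5515c5916c0825da8145a069d9f6845000ab9145a0689a069c5000ab7680506904b5f12a4e92a5f44a694516819d5459c01a9d12c4d5e84c128480d1430ec4f145a014000271a06743f55d410f99c002c566c520012f)))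
def t4z_N_0 : Tr := .node (.node (.node (.node (.leaf (nat_lit 553139727))
  (.leaf (nat_lit 8199)))
  (.leaf (nat_lit 24230169154)))
  (.node (.leaf (nat_lit 692126785))
  (.leaf (nat_lit 639668832867))))
  (.node (.node (.node (.leaf (nat_lit 0x1f2a49f2ac9f2ac841))
  (.leaf (nat_lit 594)))
  (.leaf (nat_lit 0x11047795e41bcee195e57)))
  (.node (.leaf (nat_lit 2183759459))
  (.leaf (nat_lit 0x1b0837b0af615ed7))))
def t4z_N_1 : Tr := .node (.node (.node (.node (.leaf (nat_lit 0x1f183e2f1be2f8c1e3))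
  (.leaf (nat_lit 461)))
  (.leaf (nat_lit 1814071350)))
  (.node (.leaf (nat_lit 724651649))
  (.leaf (nat_lit 0xdae2b5ed7b5ed7))))
  (.node (.node (.node (.leaf (nat_lit 523324898))
  (.leaf (nat_lit 23575)))
  (.leaf (nat_lit 2923138659)))
  (.node (.leaf (nat_lit 37163666003))
  (.leaf (nat_lit 66))))
def t4z_N_2 : Tr := .node (.node (.node (.node (.leaf (nat_lit 80975))
  (.leaf (nat_lit 298)))
  (.leaf (nat_lit 789284353)))
  (.node (.leaf (nat_lit 741589273218))
  (.leaf (nat_lit 69883462742))))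
  (.node (.node (.node (.leaf (nat_lit 636275408399))
  (.leaf (nat_lit 661)))
  (.leaf (nat_lit 1813054550)))
  (.node (.leaf (nat_lit 53755334227))
  (.leaf (nat_lit 0x560dc41bdae1b5ed7))))
def t4z_N_3 : Tr := .node (.node (.node (.node (.leaf (nat_lit 2786692161))
  (.leaf (nat_lit 15375)))
  (.leaf (nat_lit 0x2769da62b0ac29da76)))
  (.node (.leaf (nat_lit 691169342325825))
  (.leaf (nat_lit 0x2b5ec2b5c22b5ed7))))
  (.node (.node (.leaf (nat_lit 672818857025))
  (.leaf (nat_lit 1141988439)))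
  (.node (.leaf (nat_lit 738000))
  (.leaf (nat_lit 165))))
def t4z_N_4 : Tr := .node (.node (.node (.node (.leaf (nat_lit 527875))
  (.leaf (nat_lit 329)))
  (.leaf (nat_lit 770800)))
  (.node (.leaf (nat_lit 22097253936))
  (.leaf (nat_lit 793194890851))))
  (.node (.node (.node (.leaf (nat_lit 591425))
  (.leaf (nat_lit 19475)))
  (.leaf (nat_lit 90265686)))
  (.node (.leaf (nat_lit 1730203203))
  (.leaf (nat_lit 0x2c115c3615ec2b5ed7))))
def t4z_N_5 : Tr := .node (.node (.node (.node (.leaf (nat_lit 20326455429601))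
  (.leaf (nat_lit 430)))
  (.leaf (nat_lit 0xb5c56b8ad715ae2)))
  (.node (.leaf (nat_lit 676108239937))
  (.leaf (nat_lit 0xb06d708ac208ad7))))
  (.node (.node (.leaf (nat_lit 669581426274))
  (.leaf (nat_lit 2921978947)))
  (.node (.leaf (nat_lit 1169911564899))
  (.leaf (nat_lit 3075))))
def t4z_N_6 : Tr := .node (.node (.node (.node (.leaf (nat_lit 83025))
  (.leaf (nat_lit 12299)))
  (.leaf (nat_lit 25358337633)))
  (.node (.leaf (nat_lit 2905632050241))
  (.leaf (nat_lit 2991111310039))))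
  (.node (.node (.node (.leaf (nat_lit 626275))
  (.leaf (nat_lit 726)))
  (.leaf (nat_lit 70551012419)))
  (.node (.leaf (nat_lit 37146397267))
  (.leaf (nat_lit 33))))
def t4z_N_7 : Tr := .node (.node (.node (.node (.leaf (nat_lit 0x9c9f3941f284df29be0f))
  (.leaf (nat_lit 561)))
  (.leaf (nat_lit 0x25795e41b86e195e57)))
  (.node (.leaf (nat_lit 638682723))
  (.leaf (nat_lit 0x2b0ae115ae1b5ed7))))
  (.node (.node (.leaf (nat_lit 685565988585058))
  (.leaf (nat_lit 791986396771)))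
  (.node (.leaf (nat_lit 757794914))
  (.leaf (nat_lit 198))))
def t4z_N_8 : Tr := .node (.node (.node (.node (.leaf (nat_lit 615227808333359))
  (.leaf (nat_lit 232)))
  (.leaf (nat_lit 92410042433)))
  (.node (.leaf (nat_lit 626086465))
  (.leaf (nat_lit 59180616291))))
  (.node (.node (.node (.leaf (nat_lit 593475))
  (.leaf (nat_lit 627)))
  (.leaf (nat_lit 90789955)))
  (.node (.leaf (nat_lit 2201028195))
  (.leaf (nat_lit 0x3615c560ded7b5ed7))))
def t4z_N_9 : Tr := .node (.node (.node (.node (.leaf (nat_lit 606800))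
  (.leaf (nat_lit 14349)))
  (.leaf (nat_lit 57728055)))
  (.node (.leaf (nat_lit 21090717232))
  (.leaf (nat_lit 0x15ae20dae1b5ed7))))
  (.node (.node (.node (.leaf (nat_lit 566502211074))
  (.leaf (nat_lit 0)))
  (.leaf (nat_lit 21175590499)))
  (.node (.leaf (nat_lit 54814362675))
  (.leaf (nat_lit 99))))
def t4z_N_10 : Tr := .node (.node (.node (.node (.leaf (nat_lit 82000))
  (.leaf (nat_lit 395)))
  (.leaf (nat_lit 773555937)))
  (.node (.leaf (nat_lit 741603953296))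
  (.leaf (nat_lit 92398509143))))
  (.node (.node (.node (.leaf (nat_lit 600827313697))
  (.leaf (nat_lit 20501)))
  (.leaf (nat_lit 55500801635)))
  (.node (.leaf (nat_lit 53755873875))
  (.leaf (nat_lit 0x4837906f20de41bc837))))
def t4z_N_11 : Tr := .node (.node (.node (.node (.leaf (nat_lit 0x4de37cde378441))
  (.leaf (nat_lit 528)))
  (.leaf (nat_lit 0x4769da62b4ac29da76)))
  (.node (.leaf (nat_lit 51250))
  (.leaf (nat_lit 0x2b5c5615c22b5ed7))))
  (.node (.node (.leaf (nat_lit 687763430587919))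
  (.leaf (nat_lit 810241580643)))
  (.node (.leaf (nat_lit 741018306))
  (.leaf (nat_lit 5125))))
def t4z_N_12 : Tr := .node (.node (.node (.node (.leaf (nat_lit 68675))
  (.leaf (nat_lit 10249)))
  (.leaf (nat_lit 24239714)))
  (.node (.leaf (nat_lit 691123848257))
  (.leaf (nat_lit 36564928567))))
  (.node (.node (.node (.leaf (nat_lit 522242529))
  (.leaf (nat_lit 692)))
  (.leaf (nat_lit 1832472259)))
  (.node (.leaf (nat_lit 36543483475))
  (.leaf (nat_lit 0x2c115c36bd822b5ed7))))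
def t4z_N_13 : Tr := .node (.node (.node (.node (.leaf (nat_lit 0x24f849f28be507ca0f8be01))
  (.leaf (nat_lit 495)))
  (.leaf (nat_lit 659251265101399)))
  (.node (.leaf (nat_lit 2873422875713))
  (.leaf (nat_lit 0x88370d84115857))))
  (.node (.node (.leaf (nat_lit 624479825))
  (.leaf (nat_lit 1713098483)))
  (.node (.leaf (nat_lit 740035))
  (.leaf (nat_lit 132))))
def t4z_N_14 : Tr := .node (.node (.node (.node (.leaf (nat_lit 36542908450))
  (.leaf (nat_lit 364)))
  (.leaf (nat_lit 791987062369)))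
  (.node (.leaf (nat_lit 708242))
  (.leaf (nat_lit 800126326759127))))
  (.node (.node (.node (.leaf (nat_lit 625250))
  (.leaf (nat_lit 759)))
  (.leaf (nat_lit 24202979)))
  (.node (.leaf (nat_lit 70417156691))
  (.leaf (nat_lit 1025))))
def t4z_N_15 : Tr := .node (.node (.node (.node (.leaf (nat_lit 704143))
  (.leaf (nat_lit 17425)))
  (.leaf (nat_lit 0x11045795e41b8ee195e57)))
  (.node (.leaf (nat_lit 1697696355))
  (.leaf (nat_lit 0x2b5c22b06e1b5ed7))))
  (.node (.node (.leaf (nat_lit 705168))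
  (.leaf (nat_lit 643833645667)))
  (.node (.leaf (nat_lit 755698178))
  (.leaf (nat_lit 263))))
def t4z_N_16 : Tr := .node (.node (.node (.node (.leaf (nat_lit 574000))
  (.leaf (nat_lit 232)))
  (.leaf (nat_lit 23679009857)))
  (.node (.leaf (nat_lit 726729793))
  (.leaf (nat_lit 794285918819))))
  (.node (.node (.node (.leaf (nat_lit 707219))
  (.leaf (nat_lit 18450)))
  (.leaf (nat_lit 739837635)))
  (.node (.leaf (nat_lit 1698236003))
  (.leaf (nat_lit 0x160dec1bd841b8ad7))))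
def t4z_N_17 : Tr := .node (.node (.node (.node (.leaf (nat_lit 0x45e38be237c46f88de3))
  (.leaf (nat_lit 461)))
  (.leaf (nat_lit 2921367607)))
  (.node (.leaf (nat_lit 659052144))
  (.leaf (nat_lit 0x106d70dae1b5ed7))))
  (.node (.node (.node (.leaf (nat_lit 670668701199))
  (.leaf (nat_lit 0)))
  (.leaf (nat_lit 2272386659)))
  (.node (.leaf (nat_lit 54846851667))
  (.leaf (nat_lit 2050))))
def t4z_N_18 : Tr := .node (.node (.node (.node (.leaf (nat_lit 48175))
  (.leaf (nat_lit 9226)))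
  (.leaf (nat_lit 790332961)))
  (.node (.leaf (nat_lit 741590321795))
  (.leaf (nat_lit 91948759))))
  (.node (.node (.node (.leaf (nat_lit 566467575297))
  (.leaf (nat_lit 661)))
  (.leaf (nat_lit 54817512035)))
  (.node (.leaf (nat_lit 55384788563))
  (.leaf (nat_lit 0x4c5698ad315a62b4c56))))
def t4z_N_19 : Tr := .node (.node (.node (.node (.leaf (nat_lit 21427041848802))
  (.leaf (nat_lit 528)))
  (.leaf (nat_lit 0x1986769da62b0ec29da76)))
  (.node (.leaf (nat_lit 85075))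
  (.leaf (nat_lit 0x20daf615c22b5ed7))))
  (.node (.node (.leaf (nat_lit 2868014320705))
  (.leaf (nat_lit 809688981091)))
  (.node (.leaf (nat_lit 739025))
  (.leaf (nat_lit 165))))
def t4z_N_20 : Tr := .node (.node (.node (.node (.leaf (nat_lit 560675))
  (.leaf (nat_lit 329)))
  (.leaf (nat_lit 771825)))
  (.node (.leaf (nat_lit 20050495056))
  (.leaf (nat_lit 59124712535))))
  (.node (.node (.node (.leaf (nat_lit 589842992))
  (.leaf (nat_lit 692)))
  (.leaf (nat_lit 23708392003)))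
  (.node (.leaf (nat_lit 1159792195))
  (.leaf (nat_lit 0x22b06f615c22b5ed7))))
def t4z_N_21 : Tr := .node (.node (.node (.node (.leaf (nat_lit 0x49e37c86f1bc61))
  (.leaf (nat_lit 13326)))
  (.leaf (nat_lit 693369444096630)))
  (.node (.leaf (nat_lit 738300903041))
  (.leaf (nat_lit 0x8837106c208ad7))))
  (.node (.node (.leaf (nat_lit 624447056))
  (.leaf (nat_lit 1848237091)))
  (.node (.leaf (nat_lit 2252779145827))
  (.leaf (nat_lit 132))))
def t4z_N_22 : Tr := .node (.node (.node (.node (.leaf (nat_lit 50225))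
  (.leaf (nat_lit 364)))
  (.leaf (nat_lit 24787354689)))
  (.node (.leaf (nat_lit 723601765499969))
  (.leaf (nat_lit 1170079418071))))
  (.node (.node (.node (.leaf (nat_lit 640625))
  (.leaf (nat_lit 22550)))
  (.leaf (nat_lit 37265016867)))
  (.node (.leaf (nat_lit 54829582931))
  (.leaf (nat_lit 33))))
def t4z_N_23 : Tr := .node (.node (.node (.node (.leaf (nat_lit 690817))
  (.leaf (nat_lit 561)))
  (.leaf (nat_lit 0x11067795e41b8ae195e57)))
  (.node (.leaf (nat_lit 2803976803))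
  (.leaf (nat_lit 0x1158370dae1b5ed7))))
  (.node (.node (.leaf (nat_lit 658081))
  (.leaf (nat_lit 792475000419)))
  (.node (.leaf (nat_lit 754649570))
  (.leaf (nat_lit 6150))))
def t4z_N_24 : Tr := .node (.node (.node (.node (.leaf (nat_lit 0x45f08be117c22f845f0))
  (.leaf (nat_lit 7176)))
  (.leaf (nat_lit 769775)))
  (.node (.leaf (nat_lit 626545232))
  (.leaf (nat_lit 59147650659))))
  (.node (.node (.node (.leaf (nat_lit 607825))
  (.leaf (nat_lit 627)))
  (.leaf (nat_lit 57235491)))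
  (.node (.leaf (nat_lit 1712934467))
  (.leaf (nat_lit 0x36b8ad70dae2b5ed7))))
def t4z_N_25 : Tr := .node (.node (.node (.node (.leaf (nat_lit 18958434))
  (.leaf (nat_lit 430)))
  (.leaf (nat_lit 834244505754358)))
  (.node (.leaf (nat_lit 675000943681))
  (.leaf (nat_lit 0x15ae2b5c41b5ed7))))
  (.node (.node (.leaf (nat_lit 600861949474))
  (.leaf (nat_lit 20101848643)))
  (.node (.leaf (nat_lit 36560734259))
  (.leaf (nat_lit 99))))
def t4z_N_26 : Tr := .node (.node (.node (.node (.leaf (nat_lit 49200))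
  (.leaf (nat_lit 395)))
  (.leaf (nat_lit 25336448097)))
  (.node (.leaf (nat_lit 741605001873))
  (.leaf (nat_lit 58038738007))))
  (.node (.node (.node (.leaf (nat_lit 635187052097))
  (.leaf (nat_lit 726)))
  (.leaf (nat_lit 54815033027)))
  (.node (.leaf (nat_lit 619617815123))
  (.leaf (nat_lit 0x44114e42b865795ec29da76))))
def t4z_N_27 : Tr := .node (.node (.node (.node (.leaf (nat_lit 0x117c26f84df38be707ce0f))
  (.leaf (nat_lit 16400)))
  (.leaf (nat_lit 0xa769da62b4ec29da76)))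
  (.node (.leaf (nat_lit 2689603))
  (.leaf (nat_lit 0x115ae1bdae1b5ed7))))
  (.node (.node (.leaf (nat_lit 616262396264994))
  (.leaf (nat_lit 54818594403)))
  (.node (.leaf (nat_lit 711319))
  (.leaf (nat_lit 198))))
def t4z_N_28 : Tr := .node (.node (.node (.node (.leaf (nat_lit 35875))
  (.leaf (nat_lit 298)))
  (.leaf (nat_lit 788235745)))
  (.node (.leaf (nat_lit 535430842849))
  (.leaf (nat_lit 37247572054))))
  (.node (.node (.node (.leaf (nat_lit 19833276514))
  (.leaf (nat_lit 21524)))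
  (.leaf (nat_lit 23679553107)))
  (.node (.leaf (nat_lit 69861985875))
  (.leaf (nat_lit 0x2c1bd83715822b5ed7))))
def t4z_N_29 : Tr := .node (.node (.node (.node (.leaf (nat_lit 639600))
  (.leaf (nat_lit 495)))
  (.leaf (nat_lit 0x19ca769da62b06c29da76)))
  (.node (.leaf (nat_lit 690619570783297))
  (.leaf (nat_lit 0x160dec20dec2b5ed7))))
  (.node (.node (.leaf (nat_lit 604097858096))
  (.leaf (nat_lit 19984517875)))
  (.node (.leaf (nat_lit 736975))
  (.leaf (nat_lit 4100))))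
def t4z_N_30 : Tr := .node (.node (.node (.node (.leaf (nat_lit 0x882278de378de3))
  (.leaf (nat_lit 11276)))
  (.leaf (nat_lit 791416636481)))
  (.node (.leaf (nat_lit 675506))
  (.leaf (nat_lit 0x441b86c1b0457))))
  (.node (.node (.node (.leaf (nat_lit 590892592))
  (.leaf (nat_lit 759)))
  (.leaf (nat_lit 57728055)))
  (.node (.leaf (nat_lit 88100342355))
  (.leaf (nat_lit 66))))
def t4z_N_31 : Tr := .node (.node (.node (.node (.leaf (nat_lit 22598192))
  (.leaf (nat_lit 594)))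
  (.leaf (nat_lit 0x65795e41bcae195e57)))
  (.node (.leaf (nat_lit 1160809059))
  (.leaf (nat_lit 0x115837b5c41b5ed7))))
  (.node (.node (.leaf (nat_lit 21550640))
  (.leaf (nat_lit 811466345059)))
  (.node (.leaf (nat_lit 756746786))
  (.leaf (nat_lit 263))))
def t4z_N : Tr := .node (.node (.node (.node (.node t4z_N_0
  t4z_N_1)
  (.node t4z_N_2
  t4z_N_3))
  (.node (.node t4z_N_4
  t4z_N_5)
  (.node t4z_N_6
  t4z_N_7)))
  (.node (.node (.node t4z_N_8
  t4z_N_9)
  (.node t4z_N_10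
  t4z_N_11))
  (.node (.node t4z_N_12
  t4z_N_13)
  (.node t4z_N_14
  t4z_N_15))))
  (.node (.node (.node (.node t4z_N_16
  t4z_N_17)
  (.node t4z_N_18
  t4z_N_19))
  (.node (.node t4z_N_20
  t4z_N_21)
  (.node t4z_N_22
  t4z_N_23)))
  (.node (.node (.node t4z_N_24
  t4z_N_25)
  (.node t4z_N_26
  t4z_N_27))
  (.node (.node t4z_N_28
  t4z_N_29)
  (.node t4z_N_30
  t4z_N_31))))
noncomputable def t4z : TC :=
  ⟨[.l 0, .l 1, .l 2, .l 3, .l 4, .l 5, .l 6, .l 7, .l 8, .l 9, .l 10, .l 11, .l 12, .l 13, .l 14, .l 15, .l 16, .l 17, .l 18, .l 19, .l 20, .l 21, .l 22, .l 23],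
    (nat_lit 7), (nat_lit 10), (nat_lit 0xbda959ca307b5cb62547418a418820), (nat_lit 2064399), (nat_lit 106), (nat_lit 6), (nat_lit 32), (nat_lit 7), (nat_lit 307),
    get (nat_lit 10) (nat_lit 0x400c0400c02010030080400c02010030080400c02010030080400c02010030080400c02010030080400c02010030080400c02010030080400c02010030080400c02010030080400c02010030080400c02010030080400c0204c0f03c0e0380e0380e0380e0340d0340d0340d0340d0340d0340c0300c0300c0300c02c0a024090200801808020080200802008020080200802008020080200701c0701c0701c0701c070180502008020080200701c0701c06018060181103c110440e03c0f0440e0440a0280c0280601c070200801c0701c060180601805010040100801c070180601806010060100401004024090200802008020080200802008020080200801c0701c0701c0701c0701c06014040100a02809020080200701806010040280902008020080200801c070180601806014040100a0280a02408020060180802008020060180401004020080200801c0601804010040100e01404010100440b024070101202c090140403c0e03008010040100401004010040100403c0a01006),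 Tr.get t4z_N, get (nat_lit 20) (nat_lit 0x3ff003ff003ff003ff003ff003ff003ff003ff003ff003ff003ff003ff003ff003ff003ff003ff003ff003ff003ff003ff003ff003ff003ff003ff003ff003ff003ff003ff003ff003ff003ff003ff003ff003ff003ff003ff003ff003ff003ff003ff003ff003ff003ff003ff003ff003ff003ff003ff003ff003ff003ff003ff003ff003ff003ff003ff003ff003ff003ff003ff003ff003ff003ff003ff003ff003ff003ff003ff003ff003ff003ff000eb000ea000e9000e8000e7000e6000e5000e4000e3000e2000e1000e0000df000de000dd000dc000db000da000d9000d8000d7000d6000d5000d4000d3000d2000d1000d0000cf000ce000cd000cc000cb000ca000c9000c8000c7000c6000c5000c4000c3000c2000c1000c0000bf000be000bd000bc000bb000ba000b9000b8000b7000b6000b5000b4000b3000b2000b1000b0000af000ae000ad000ac000ab000aa000a9000a8000a7000a6000a5000a4000a3000a2000a1000a00009f0009e0009d0009c0009b0009a000990009800097000960009500094000930009200091000900008f0008e0008d0008c0008b0008a000890008800087000860008500084000830008200081000800007f0007e0007d0007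c0007b0007a000790007800077000760007500074000730007200071000700006f0006e0006d0006c0006b0006a000690006800067000660006500064000630006200061000600005f0005e0005d0005c0005b0005a000590005800057000560005500054000530005200051000500004f0004e0004d0004c0004b0004a000490004800047000460004500044000430004200041000400003f0003e0003d0003c0003b0003a000390003800037000360003500034000330003200031000300002f0002e0002d0002c0002b0002a000290002800027000260002500024000230002200021000200001f0001e0001d0001c0001b0001a000190001800017000160001500014000130001200011000100000f0000e0000d0000c0000b0000a00009000080000700006000050000400003000020000100000),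
    Tr.get3 t4z_F (nat_lit 24) (nat_lit 5), Tr.get3 t4z_T (nat_lit 7) (nat_lit 7), Tr.get t4z_P⟩

theorem t4z_head : t4z.headOK (R4 ++ [.mul tor (.inv (.pow (.mul (.l 1) (.l 2)) 2))]) iv = true := by decide +kernel

theorem t4z_b0 : allFrom (nat_lit 0) (nat_lit 7) t4z.blockOK = true := by decide +kernel

theorem t4z_blocks : ∀ t < t4z.k, t4z.blockOK t = true :=
  (of_allFrom_append of_lt_zero t4z_b0)

theorem t4z_mem0 {G : Type*} [Group G] {γ : ℕ → G} (hL : Lab γ iv) (hr : ∀ t ∈ (R4 ++ [.mul tor (.inv (.pow (.mul (.l 1) (.l 2)) 2))]), t.ev γ = 1) {K : Subgroup G}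
    (hK : ∀ t ∈ ([.l 1, .l 2, .l 3, .l 15, .l 16, .l 17, .l 18, .l 19, .l 20] : List W), t.ev γ ∈ K) :
    W.ev γ (.l 22) ∈ K :=
  TC.mem (D := t4z) hL (List.forall_mem_cons.2 ⟨hL.zero_mem K, hK⟩) hr t4z_head t4z_blocks
    (n := (nat_lit 1)) (w := (nat_lit 22)) (st := (nat_lit 636)) (by decide +kernel) (by decide +kernel)

def t4z_loops : List W := [.l 22]

theorem t4z_mems {G : Type*} [Group G] {γ : ℕ → G} (hL : Lab γ iv) (hr : ∀ t ∈ (R4 ++ [.mul tor (.inv (.pow (.mul (.l 1) (.l 2)) 2))]), t.ev γ = 1) {K : Subgroup G}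
    (hK : ∀ t ∈ ([.l 1, .l 2, .l 3, .l 15, .l 16, .l 17, .l 18, .l 19, .l 20] : List W), t.ev γ ∈ K) :
    ∀ t ∈ t4z_loops, t.ev γ ∈ K :=
  List.forall_mem_cons.2 ⟨t4z_mem0 hL hr hK,
    fun _ h => absurd h List.not_mem_nil⟩

def t4c_F : Tr := .leaf (nat_lit 0xb00b0000300000000500300500602b02500602b02502c02d03c04f9d69da95b95ead6a5eabca4c04c0550dc0ddadaa5b9d59d99509581531589d39d70d50d59c79d41c81d4bc1bd3ad2a3d9cb9d29cc9d1b48b519d09d01501501cf1d094894e1bb1ce1cc1cd0cc0cca3cacb1b91cbbc8bca14514aac6a49144148914947143147bbbbc50aa0c494294413b1421aa1c2abba410b80c11be1c113c13c1bf189babbc09919bb1b51b50b50b5b35b320b60b6b36b3612d13603703612d1370b20b29b29a102103303401e9b49b4a9ca2ca2da9da1daadb2db2502502e02f02592f92f02f0301ae1ae02e0310ad0ad1ac1ac0ac0ac92d92d92b92b0ab0ab12b1061ab1ab92c92c1b11ae0ae0b118a1a91261269a69a69a79a7ba6ba3127127ba7ba71a71a709d0a70280271a81a809d0a8aa5a1ea9ea25a24aa1a21aa41231231251259a59a51a51a51a41a41241249a49a40a50a50a409a925925a9a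a20a1fa99a19a9fb20b20b21b1e01e0229219219209200a10a191f91f0a00a009f09f19f19f1a01a01a11a192292299e99e11e11e99d99d19d19d11d11d11c11c99c99c99b99b11b11b19b19b09b09809e09e91e91e99a99a11a11a199199119119998998118118a86a18198198a06a98b9ab9aa93a1611710ca17a90b8bb9710b114a09a91b04b10a0ba84a07a8b90b90b08b08ba04a8a084089186186086086906906a05a82905905b05b05185185085085104104a03a81a01a83083083903903183183982982102102182182b82b82101101981981181181a80a00980980900900180180100100080080bdebcc15d14c15c14bbdbbc9b5ab46a59abd9d89bd15713db56b3ca55abc95493ba53aba1d21ba0d10babd0bb5bcfbad14e12ab4db27b4cb26b4bb1c1ca1979499169c89941c71949c69931c518c9c498b1c318b9c298a9419090c00bf93f93ebbebbd93d93cbbcbacb3bb3a9ba9b9b39b1d938904b37b369b69b513512cb34b339b39b213211f9b19b093092f9af9aeb2eb2d9ad9acb2cb2b9ab9859aa9a9b29b18ba8ba79279260a609cba5ba49249230a3099b22b211211209a099fb1fb06b9eb9d91d91cb9cb9b91b90291a919b99b98918901097096b16b15b95b92094091113110b12b0711110ab90b8fb0fb0eb8eb8db0db0cb8cb8ab0bb02b0ab01109108088087b87b85986983105103b84b83b03b00082081b81b80000000)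
def t4c_T : Tr := .leaf (nat_lit 0x17aedcb76acd8af5aad4a74a8d09f3a6cc972a4c88f1a2c4870a0c07ef9ebc76e9cb86ed9ab466c98b05eb96ac56a94a84e992a446890a03e78e9c3668c982e58a9426488901e3868c16284880e182840608080)
def t4c_P : Tr := .node (.node (.node (.leaf (nat_lit 0x404ff418019ec2e0b02a0900e3900a018be00c0505c02b742808814008be300be00ccf01417008d5088f73d001874200781c06818050022f807024e300ed0388f4048103f002104163b40f0067b3e01634c173e401a8416010ce008be300be00c0505c0233c14384090067b048100380a018be01c09010cd3c0ee030dd36c0d0005e3b80c364dd36c0d0065e03006308be01c0d006a6348d4010ce384da02cea0064c390e939ce939401a840a018be3000702ce4004c73900a018c401c0b390002b40a370062f80702c0120408018be01c0900ac933805350043780210406320030067b018c6310c601cd800ca636006304c53040700a80018be310be01c00284d4340d234000a18d001002304bf00c05002c53400433ccd32c0534402b0804008be00c050028a008c12fcc12fc0300a8d008c72fcc72fc0300a8c008c73040300686))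
  (.leaf (nat_lit 0x818a0745d3744a100a8b281ce70dcf28402b24a01b5c927c01a189c7a1e778de87c0021949c789e5000062684e264001d8986196f61c99004c9259b81e4019ec960ec730007625107225f0008862510a22c00818924348d0024e24105224000b88e414fb4100104c8e414870020622818215e500886220f9058040548578c03aa488058d30101521401a988408dd40002e2118e154000b082409d40024e208f51c400090827647e000221e05866c591e402b24f50200d665d620000a2c801f87c1e8781619803006318073640d3bd99016eb1d8741c9344d83a4c03849830008c400c1508c01badd01b5cc729cc7286c000a91b5ca1b1ce700425514055043705cf1b5ca7346c01c99701524e953704640f9991646b1b5ca1b000261c96c96c581b3721ca00ec771c6e0012c)))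
  (.leaf (nat_lit 0x182139861255e4391e4395f1218713d825fd335f806a744912d5c128481183249c391344f6084e0009c6097f0f5394943c5f800b157d140004bd7d5ed7c000f45f579000ed1384c0ed78800245e5345e00001c501384c0e03601002310be00c3149c390ec00ba9745b5615b56100a4012972548009ed705955e47d5f00a41599655791f5694d10d4f0064c125625984b5a04a12001b055c5a9681296712d5d006c15a04a5792157d6512c00af15c129645884b570002cc4b5704a120460c9180cc471244b5704a5791f57c06a804b5704a120460c9120cc471244b5704a5791f57c06a784b5704a120460c9160cc471244b5704a5791f57c06a744a120460c830014d00dd260cc3557c4b57000ba8340c830008c42f8030c43311c4912d5c1280727c4a120460c830008be314030c43311c4912c05a7c4056035002215584110d4b10947100031503e450330067b10d524e553108009e950110004b044108400f80c018c331cc530403014370e43b0f6033ac42530405104110d4b0066d10144524415054700a5e10840510415044300018)))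
  (.node (.node (.leaf (nat_lit 0x5103e3cc3f51401a84400f8f00fd425144100aab0f80c3680d0fd4200ca610540100000b0431153c110420027c1153c110001d844108400f80c018be30c070343f1044311403269220f1364d43d48d39008b90f1360e92f0ec3d004b70f5244883c0e8384991749d290e43b0f5234943c00ca00f5244883c0e8384991749d2b0e43b0f5234943c00c9e0f5244883c0e8384991749d2d0e43b0f5234943c00c9d0e12a4991749c3900a8d0e12c4991949c3900a8c4a12a499174652700618499114511749c009012644d27000070c00231003014370e43b0f5224943c0e8380089f4883c0e8380d804008c500c050dc390ec3d01c9f0f03a0e036010022f803014370e43b0f406a710e0d11c0d50f47c01acc344711b0d40184c320c0cf0c51944c3300cc10c9180c0cd0c433004b70c00535cd301031008610c0cb33c31006130c0de034009383032c31000220c0e103401884340c830014d0010022f8c500c310cc350189c0bd0809c00874180500505d0600ac9))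
  (.leaf (nat_lit 0x1ff001ff001ff001ff8fc060012c8f23b001313a23b01a00cb0578e40c803238d23600131666345b600bc1b38cc588032c27e311e200cbe048221e8761377c70020da0250009c8d2d62f2b2003ae228b22b0044e2f0986358b2660c82e1485def415060b8932dc03bacbc8a4ad0027b898aa00126862202ca1183cb9890ba802542ea0c288747e0b9000182d9f32d4009ecb21e8ab000212c07a1e06b2860900cb72c0af86c000b8ae1f5dc84800a18aa76cab0001d2a1e47988821dec00a5d2a20080c00088a61dde00007b1e9fa83800938a41d1f80022c288741c97e26dff7f4032aca21ddea7d1f7006c9)))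
  (.leaf (nat_lit 0x71dc5000f01b06a16dc48002e1b86c1a8581580a018c630007035991645b002e97013f1094710dc1008186f866001231a5bc54e00cb153108400f80c018c6300070343f194671a5ba8029b1a0661903e03006300c701c0d0fc6519c690169b16db60e800885325f9845fdb4008416c9760f0019edb0170004b05f6b96b803235b04a578340c8300080702c571645b175a817dac81aeb6a8600012018da717e00c8da6648003cd911705a689a016da5176022a59e169a26819516c01979a01619c165a0000a31619666c5639457164012ac5a1619666c5916c01a98563a8e415d9666c0298598030dc02c576580317c0c3680b3a8576580317459650580007616c5d64d911705a006a61705a16056028063100702c571645b1759001a9a188601785c168581580a018be01c0b15c5916c5d0209714830054001d98a13d826258160c4e00ab913d82611826244e00ab7)))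
def t4c_N_0 : Tr := .node (.node (.node (.node (.leaf (nat_lit 553139727))
  (.leaf (nat_lit 8199)))
  (.leaf (nat_lit 24230169154)))
  (.node (.leaf (nat_lit 692126785))
  (.leaf (nat_lit 639668832867))))
  (.node (.node (.node (.leaf (nat_lit 0x1f2a49f2ac9f2ac841))
  (.leaf (nat_lit 594)))
  (.leaf (nat_lit 0x11047795e41bcee195e57)))
  (.node (.leaf (nat_lit 2183759459))
  (.leaf (nat_lit 0x1b0837b0af615ed7))))
def t4c_N_1 : Tr := .node (.node (.node (.node (.leaf (nat_lit 0x1f183e2f1be2f8c1e3))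
  (.leaf (nat_lit 461)))
  (.leaf (nat_lit 1814071350)))
  (.node (.leaf (nat_lit 724651649))
  (.leaf (nat_lit 0xdae2b5ed7b5ed7))))
  (.node (.node (.node (.leaf (nat_lit 523324898))
  (.leaf (nat_lit 23575)))
  (.leaf (nat_lit 2923138659)))
  (.node (.leaf (nat_lit 37163666003))
  (.leaf (nat_lit 66))))
def t4c_N_2 : Tr := .node (.node (.node (.node (.leaf (nat_lit 80975))
  (.leaf (nat_lit 298)))
  (.leaf (nat_lit 789284353)))
  (.node (.leaf (nat_lit 741589273218))
  (.leaf (nat_lit 69883462742))))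
  (.node (.node (.node (.leaf (nat_lit 636275408399))
  (.leaf (nat_lit 661)))
  (.leaf (nat_lit 1813054550)))
  (.node (.leaf (nat_lit 53755334227))
  (.leaf (nat_lit 0x560dc41bdae1b5ed7))))
def t4c_N_3 : Tr := .node (.node (.node (.node (.leaf (nat_lit 2786692161))
  (.leaf (nat_lit 15375)))
  (.leaf (nat_lit 0x2769da62b0ac29da76)))
  (.node (.leaf (nat_lit 691169342325825))
  (.leaf (nat_lit 0x2b5ec2b5c22b5ed7))))
  (.node (.node (.leaf (nat_lit 672818857025))
  (.leaf (nat_lit 1141988439)))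
  (.node (.leaf (nat_lit 738000))
  (.leaf (nat_lit 165))))
def t4c_N_4 : Tr := .node (.node (.node (.node (.leaf (nat_lit 527875))
  (.leaf (nat_lit 329)))
  (.leaf (nat_lit 770800)))
  (.node (.leaf (nat_lit 22097253936))
  (.leaf (nat_lit 793194890851))))
  (.node (.node (.node (.leaf (nat_lit 591425))
  (.leaf (nat_lit 19475)))
  (.leaf (nat_lit 90265686)))
  (.node (.leaf (nat_lit 1730203203))
  (.leaf (nat_lit 0x2c115c3615ec2b5ed7))))
def t4c_N_5 : Tr := .node (.node (.node (.node (.leaf (nat_lit 20326455429601))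
  (.leaf (nat_lit 430)))
  (.leaf (nat_lit 0xb5c56b8ad715ae2)))
  (.node (.leaf (nat_lit 676108239937))
  (.leaf (nat_lit 0xb06d708ac208ad7))))
  (.node (.node (.leaf (nat_lit 669581426274))
  (.leaf (nat_lit 2921978947)))
  (.node (.leaf (nat_lit 1169911564899))
  (.leaf (nat_lit 3075))))
def t4c_N_6 : Tr := .node (.node (.node (.node (.leaf (nat_lit 83025))
  (.leaf (nat_lit 12299)))
  (.leaf (nat_lit 25358337633)))
  (.node (.leaf (nat_lit 2905632050241))
  (.leaf (nat_lit 2991111310039))))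
  (.node (.node (.node (.leaf (nat_lit 626275))
  (.leaf (nat_lit 726)))
  (.leaf (nat_lit 70551012419)))
  (.node (.leaf (nat_lit 37146397267))
  (.leaf (nat_lit 33))))
def t4c_N_7 : Tr := .node (.node (.node (.node (.leaf (nat_lit 0x9c9f3941f284df29be0f))
  (.leaf (nat_lit 561)))
  (.leaf (nat_lit 0x25795e41b86e195e57)))
  (.node (.leaf (nat_lit 638682723))
  (.leaf (nat_lit 0x2b0ae115ae1b5ed7))))
  (.node (.node (.leaf (nat_lit 685565988585058))
  (.leaf (nat_lit 791986396771)))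
  (.node (.leaf (nat_lit 757794914))
  (.leaf (nat_lit 198))))
def t4c_N_8 : Tr := .node (.node (.node (.node (.leaf (nat_lit 615227808333359))
  (.leaf (nat_lit 232)))
  (.leaf (nat_lit 92410042433)))
  (.node (.leaf (nat_lit 626086465))
  (.leaf (nat_lit 59180616291))))
  (.node (.node (.node (.leaf (nat_lit 593475))
  (.leaf (nat_lit 627)))
  (.leaf (nat_lit 90789955)))
  (.node (.leaf (nat_lit 2201028195))
  (.leaf (nat_lit 0x3615c560ded7b5ed7))))
def t4c_N_9 : Tr := .node (.node (.node (.node (.leaf (nat_lit 606800))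
  (.leaf (nat_lit 14349)))
  (.leaf (nat_lit 57728055)))
  (.node (.leaf (nat_lit 21090717232))
  (.leaf (nat_lit 0x15ae20dae1b5ed7))))
  (.node (.node (.node (.leaf (nat_lit 566502211074))
  (.leaf (nat_lit 0)))
  (.leaf (nat_lit 21175590499)))
  (.node (.leaf (nat_lit 54814362675))
  (.leaf (nat_lit 99))))
def t4c_N_10 : Tr := .node (.node (.node (.node (.leaf (nat_lit 82000))
  (.leaf (nat_lit 395)))
  (.leaf (nat_lit 773555937)))
  (.node (.leaf (nat_lit 741603953296))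
  (.leaf (nat_lit 92398509143))))
  (.node (.node (.node (.leaf (nat_lit 600827313697))
  (.leaf (nat_lit 20501)))
  (.leaf (nat_lit 55500801635)))
  (.node (.leaf (nat_lit 53755873875))
  (.leaf (nat_lit 0x4837906f20de41bc837))))
def t4c_N_11 : Tr := .node (.node (.node (.node (.leaf (nat_lit 0x4de37cde378441))
  (.leaf (nat_lit 528)))
  (.leaf (nat_lit 0x4769da62b4ac29da76)))
  (.node (.leaf (nat_lit 51250))
  (.leaf (nat_lit 0x2b5c5615c22b5ed7))))
  (.node (.node (.leaf (nat_lit 687763430587919))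
  (.leaf (nat_lit 810241580643)))
  (.node (.leaf (nat_lit 741018306))
  (.leaf (nat_lit 5125))))
def t4c_N_12 : Tr := .node (.node (.node (.node (.leaf (nat_lit 68675))
  (.leaf (nat_lit 10249)))
  (.leaf (nat_lit 24239714)))
  (.node (.leaf (nat_lit 691123848257))
  (.leaf (nat_lit 36564928567))))
  (.node (.node (.node (.leaf (nat_lit 522242529))
  (.leaf (nat_lit 692)))
  (.leaf (nat_lit 1832472259)))
  (.node (.leaf (nat_lit 36543483475))
  (.leaf (nat_lit 0x2c115c36bd822b5ed7))))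
def t4c_N_13 : Tr := .node (.node (.node (.node (.leaf (nat_lit 0x24f849f28be507ca0f8be01))
  (.leaf (nat_lit 495)))
  (.leaf (nat_lit 659251265101399)))
  (.node (.leaf (nat_lit 2873422875713))
  (.leaf (nat_lit 0x88370d84115857))))
  (.node (.node (.leaf (nat_lit 624479825))
  (.leaf (nat_lit 1713098483)))
  (.node (.leaf (nat_lit 740035))
  (.leaf (nat_lit 132))))
def t4c_N_14 : Tr := .node (.node (.node (.node (.leaf (nat_lit 36542908450))
  (.leaf (nat_lit 364)))
  (.leaf (nat_lit 791987062369)))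
  (.node (.leaf (nat_lit 708242))
  (.leaf (nat_lit 800126326759127))))
  (.node (.node (.node (.leaf (nat_lit 625250))
  (.leaf (nat_lit 759)))
  (.leaf (nat_lit 24202979)))
  (.node (.leaf (nat_lit 70417156691))
  (.leaf (nat_lit 1025))))
def t4c_N_15 : Tr := .node (.node (.node (.node (.leaf (nat_lit 704143))
  (.leaf (nat_lit 17425)))
  (.leaf (nat_lit 0x11045795e41b8ee195e57)))
  (.node (.leaf (nat_lit 1697696355))
  (.leaf (nat_lit 0x2b5c22b06e1b5ed7))))
  (.node (.node (.leaf (nat_lit 705168))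
  (.leaf (nat_lit 643833645667)))
  (.node (.leaf (nat_lit 755698178))
  (.leaf (nat_lit 263))))
def t4c_N_16 : Tr := .node (.node (.node (.node (.leaf (nat_lit 574000))
  (.leaf (nat_lit 232)))
  (.leaf (nat_lit 23679009857)))
  (.node (.leaf (nat_lit 726729793))
  (.leaf (nat_lit 794285918819))))
  (.node (.node (.node (.leaf (nat_lit 707219))
  (.leaf (nat_lit 18450)))
  (.leaf (nat_lit 739837635)))
  (.node (.leaf (nat_lit 1698236003))
  (.leaf (nat_lit 0x160dec1bd841b8ad7))))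
def t4c_N_17 : Tr := .node (.node (.node (.node (.leaf (nat_lit 0x45e38be237c46f88de3))
  (.leaf (nat_lit 461)))
  (.leaf (nat_lit 2921367607)))
  (.node (.leaf (nat_lit 659052144))
  (.leaf (nat_lit 0x106d70dae1b5ed7))))
  (.node (.node (.node (.leaf (nat_lit 670668701199))
  (.leaf (nat_lit 0)))
  (.leaf (nat_lit 2272386659)))
  (.node (.leaf (nat_lit 54846851667))
  (.leaf (nat_lit 2050))))
def t4c_N_18 : Tr := .node (.node (.node (.node (.leaf (nat_lit 48175))
  (.leaf (nat_lit 9226)))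
  (.leaf (nat_lit 790332961)))
  (.node (.leaf (nat_lit 741590321795))
  (.leaf (nat_lit 91948759))))
  (.node (.node (.node (.leaf (nat_lit 566467575297))
  (.leaf (nat_lit 661)))
  (.leaf (nat_lit 54817512035)))
  (.node (.leaf (nat_lit 55384788563))
  (.leaf (nat_lit 0x4c5698ad315a62b4c56))))
def t4c_N_19 : Tr := .node (.node (.node (.node (.leaf (nat_lit 21427041848802))
  (.leaf (nat_lit 528)))
  (.leaf (nat_lit 0x1986769da62b0ec29da76)))
  (.node (.leaf (nat_lit 85075))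
  (.leaf (nat_lit 0x20daf615c22b5ed7))))
  (.node (.node (.leaf (nat_lit 2868014320705))
  (.leaf (nat_lit 809688981091)))
  (.node (.leaf (nat_lit 739025))
  (.leaf (nat_lit 165))))
def t4c_N_20 : Tr := .node (.node (.node (.node (.leaf (nat_lit 560675))
  (.leaf (nat_lit 329)))
  (.leaf (nat_lit 771825)))
  (.node (.leaf (nat_lit 20050495056))
  (.leaf (nat_lit 59124712535))))
  (.node (.node (.node (.leaf (nat_lit 589842992))
  (.leaf (nat_lit 692)))
  (.leaf (nat_lit 23708392003)))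
  (.node (.leaf (nat_lit 1159792195))
  (.leaf (nat_lit 0x22b06f615c22b5ed7))))
def t4c_N_21 : Tr := .node (.node (.node (.node (.leaf (nat_lit 0x49e37c86f1bc61))
  (.leaf (nat_lit 13326)))
  (.leaf (nat_lit 693369444096630)))
  (.node (.leaf (nat_lit 738300903041))
  (.leaf (nat_lit 0x8837106c208ad7))))
  (.node (.node (.leaf (nat_lit 624447056))
  (.leaf (nat_lit 1848237091)))
  (.node (.leaf (nat_lit 2252779145827))
  (.leaf (nat_lit 132))))
def t4c_N_22 : Tr := .node (.node (.node (.node (.leaf (nat_lit 50225))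
  (.leaf (nat_lit 364)))
  (.leaf (nat_lit 24787354689)))
  (.node (.leaf (nat_lit 723601765499969))
  (.leaf (nat_lit 1170079418071))))
  (.node (.node (.node (.leaf (nat_lit 640625))
  (.leaf (nat_lit 22550)))
  (.leaf (nat_lit 37265016867)))
  (.node (.leaf (nat_lit 54829582931))
  (.leaf (nat_lit 33))))
def t4c_N_23 : Tr := .node (.node (.node (.node (.leaf (nat_lit 690817))
  (.leaf (nat_lit 561)))
  (.leaf (nat_lit 0x11067795e41b8ae195e57)))
  (.node (.leaf (nat_lit 2803976803))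
  (.leaf (nat_lit 0x1158370dae1b5ed7))))
  (.node (.node (.leaf (nat_lit 658081))
  (.leaf (nat_lit 792475000419)))
  (.node (.leaf (nat_lit 754649570))
  (.leaf (nat_lit 6150))))
def t4c_N_24 : Tr := .node (.node (.node (.node (.leaf (nat_lit 0x45f08be117c22f845f0))
  (.leaf (nat_lit 7176)))
  (.leaf (nat_lit 769775)))
  (.node (.leaf (nat_lit 626545232))
  (.leaf (nat_lit 59147650659))))
  (.node (.node (.node (.leaf (nat_lit 607825))
  (.leaf (nat_lit 627)))
  (.leaf (nat_lit 57235491)))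
  (.node (.leaf (nat_lit 1712934467))
  (.leaf (nat_lit 0x36b8ad70dae2b5ed7))))
def t4c_N_25 : Tr := .node (.node (.node (.node (.leaf (nat_lit 18958434))
  (.leaf (nat_lit 430)))
  (.leaf (nat_lit 834244505754358)))
  (.node (.leaf (nat_lit 675000943681))
  (.leaf (nat_lit 0x15ae2b5c41b5ed7))))
  (.node (.node (.leaf (nat_lit 600861949474))
  (.leaf (nat_lit 20101848643)))
  (.node (.leaf (nat_lit 36560734259))
  (.leaf (nat_lit 99))))
def t4c_N_26 : Tr := .node (.node (.node (.node (.leaf (nat_lit 49200))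
  (.leaf (nat_lit 395)))
  (.leaf (nat_lit 25336448097)))
  (.node (.leaf (nat_lit 741605001873))
  (.leaf (nat_lit 58038738007))))
  (.node (.node (.node (.leaf (nat_lit 635187052097))
  (.leaf (nat_lit 726)))
  (.leaf (nat_lit 54815033027)))
  (.node (.leaf (nat_lit 619617815123))
  (.leaf (nat_lit 0x1ce42b865795ec29da76))))
def t4c_N_27 : Tr := .node (.node (.node (.node (.leaf (nat_lit 0x117c26f84df38be707ce0f))
  (.leaf (nat_lit 16400)))
  (.leaf (nat_lit 0xa769da62b4ec29da76)))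
  (.node (.leaf (nat_lit 2689603))
  (.leaf (nat_lit 0x115ae1bdae1b5ed7))))
  (.node (.node (.leaf (nat_lit 616262396264994))
  (.leaf (nat_lit 54818594403)))
  (.node (.leaf (nat_lit 711319))
  (.leaf (nat_lit 198))))
def t4c_N_28 : Tr := .node (.node (.node (.node (.leaf (nat_lit 35875))
  (.leaf (nat_lit 298)))
  (.leaf (nat_lit 788235745)))
  (.node (.leaf (nat_lit 535430842849))
  (.leaf (nat_lit 37247572054))))
  (.node (.node (.node (.leaf (nat_lit 19833276514))
  (.leaf (nat_lit 21524)))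
  (.leaf (nat_lit 23679553107)))
  (.node (.leaf (nat_lit 69861985875))
  (.leaf (nat_lit 0x2c1bd83715822b5ed7))))
def t4c_N_29 : Tr := .node (.node (.node (.node (.leaf (nat_lit 639600))
  (.leaf (nat_lit 495)))
  (.leaf (nat_lit 0x19ca769da62b06c29da76)))
  (.node (.leaf (nat_lit 690619570783297))
  (.leaf (nat_lit 0x160dec20dec2b5ed7))))
  (.node (.node (.leaf (nat_lit 604097858096))
  (.leaf (nat_lit 19984517875)))
  (.node (.leaf (nat_lit 736975))
  (.leaf (nat_lit 4100))))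
def t4c_N_30 : Tr := .node (.node (.node (.node (.leaf (nat_lit 0x882278de378de3))
  (.leaf (nat_lit 11276)))
  (.leaf (nat_lit 791416636481)))
  (.node (.leaf (nat_lit 675506))
  (.leaf (nat_lit 0x441b86c1b0457))))
  (.node (.node (.node (.leaf (nat_lit 590892592))
  (.leaf (nat_lit 759)))
  (.leaf (nat_lit 57728055)))
  (.node (.leaf (nat_lit 88100342355))
  (.leaf (nat_lit 66))))
def t4c_N_31 : Tr := .node (.node (.node (.node (.leaf (nat_lit 22598192))
  (.leaf (nat_lit 594)))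
  (.leaf (nat_lit 0x65795e41bcae195e57)))
  (.node (.leaf (nat_lit 1160809059))
  (.leaf (nat_lit 0x115837b5c41b5ed7))))
  (.node (.node (.leaf (nat_lit 21550640))
  (.leaf (nat_lit 811466345059)))
  (.node (.leaf (nat_lit 756746786))
  (.leaf (nat_lit 263))))
def t4c_N : Tr := .node (.node (.node (.node (.node t4c_N_0
  t4c_N_1)
  (.node t4c_N_2
  t4c_N_3))
  (.node (.node t4c_N_4
  t4c_N_5)
  (.node t4c_N_6
  t4c_N_7)))
  (.node (.node (.node t4c_N_8
  t4c_N_9)
  (.node t4c_N_10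
  t4c_N_11))
  (.node (.node t4c_N_12
  t4c_N_13)
  (.node t4c_N_14
  t4c_N_15))))
  (.node (.node (.node (.node t4c_N_16
  t4c_N_17)
  (.node t4c_N_18
  t4c_N_19))
  (.node (.node t4c_N_20
  t4c_N_21)
  (.node t4c_N_22
  t4c_N_23)))
  (.node (.node (.node t4c_N_24
  t4c_N_25)
  (.node t4c_N_26
  t4c_N_27))
  (.node (.node t4c_N_28
  t4c_N_29)
  (.node t4c_N_30
  t4c_N_31))))
noncomputable def t4c : TC :=
  ⟨[.l 0, .l 1, .l 2, .l 3, .l 4, .l 5, .l 6, .l 7, .l 8, .l 9, .l 10, .l 11, .l 12, .l 13, .l 14, .l 15, .l 16, .l 17, .l 18, .l 19, .l 20, .l 21, .l 22, .l 23],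
    (nat_lit 7), (nat_lit 10), (nat_lit 0xbda959ca307b5cb62547418a418820), (nat_lit 2064399), (nat_lit 95), (nat_lit 6), (nat_lit 32), (nat_lit 6), (nat_lit 307),
    get (nat_lit 10) (nat_lit 0x400c0400c02010030080400c02010030080400c02010030080400c02010030080400c02010030080400c02010030080400c02010030080400c02010030080400c02010030080400c02010030080400c02010030080400c020400f03c0e0380e0380e0380e0340d0340d0340d0340d0340d0340c0300c0300c0300c02c0a024090200801808020080200802008020080200802008020080200701c0701c0701c0701c070180502008020080200701c0701c06018060181103c110440e03c0f0440e0440a0280c0280601c070200801c0701c060180601805010040100801c070180601806010060100401004024090200802008020080200802008020080200801c0701c0701c0701c0701c06014040100a02809020080200701806010040280902008020080200801c070180601806014040100a0280a02408020060180802008020060180401004020080200801c0601804010040100e01404010100440b024070101202c090140403c0e03008010040100401004010040100403c0a01006),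 Tr.get t4c_N, get (nat_lit 20) (nat_lit 0x3ff003ff003ff003ff003ff003ff003ff003ff003ff003ff003ff003ff003ff003ff003ff003ff003ff003ff003ff003ff003ff003ff003ff003ff003ff003ff003ff003ff003ff003ff003ff003ff003ff003ff003ff003ff003ff003ff003ff003ff003ff003ff003ff003ff003ff003ff003ff003ff003ff003ff003ff003ff003ff003ff003ff003ff003ff003ff003ff003ff003ff003ff003ff003ff003ff003ff003ff003ff003ff003ff003ff000eb000ea000e9000e8000e7000e6000e5000e4000e3000e2000e1000e0000df000de000dd000dc000db000da000d9000d8000d7000d6000d5000d4000d3000d2000d1000d0000cf000ce000cd000cc000cb000ca000c9000c8000c7000c6000c5000c4000c3000c2000c1000c0000bf000be000bd000bc000bb000ba000b9000b8000b7000b6000b5000b4000b3000b2000b1000b0000af000ae000ad000ac000ab000aa000a9000a8000a7000a6000a5000a4000a3000a2000a1000a00009f0009e0009d0009c0009b0009a000990009800097000960009500094000930009200091000900008f0008e0008d0008c0008b0008a000890008800087000860008500084000830008200081000800007f0007e0007d0007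c0007b0007a000790007800077000760007500074000730007200071000700006f0006e0006d0006c0006b0006a000690006800067000660006500064000630006200061000600005f0005e0005d0005c0005b0005a000590005800057000560005500054000530005200051000500004f0004e0004d0004c0004b0004a000490004800047000460004500044000430004200041000400003f0003e0003d0003c0003b0003a000390003800037000360003500034000330003200031000300002f0002e0002d0002c0002b0002a000290002800027000260002500024000230002200021000200001f0001e0001d0001c0001b0001a000190001800017000160001500014000130001200011000100000f0000e0000d0000c0000b0000a00009000080000700006000050000400003000020000100000),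
    Tr.get3 t4c_F (nat_lit 24) (nat_lit 5), Tr.get3 t4c_T (nat_lit 7) (nat_lit 7), Tr.get t4c_P⟩

theorem t4c_head : t4c.headOK (R4 ++ [.mul tor (.inv (.l 3))]) iv = true := by decide +kernel

theorem t4c_b0 : allFrom (nat_lit 0) (nat_lit 6) t4c.blockOK = true := by decide +kernel

theorem t4c_blocks : ∀ t < t4c.k, t4c.blockOK t = true :=
  (of_allFrom_append of_lt_zero t4c_b0)

theorem t4c_mem0 {G : Type*} [Group G] {γ : ℕ → G} (hL : Lab γ iv) (hr : ∀ t ∈ (R4 ++ [.mul tor (.inv (.l 3))]), t.ev γ = 1) {K : Subgroup G}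
    (hK : ∀ t ∈ ([.l 1, .l 2, .l 3, .l 15, .l 16, .l 17, .l 18, .l 19, .l 20] : List W), t.ev γ ∈ K) :
    W.ev γ (.l 22) ∈ K :=
  TC.mem (D := t4c) hL (List.forall_mem_cons.2 ⟨hL.zero_mem K, hK⟩) hr t4c_head t4c_blocks
    (n := (nat_lit 1)) (w := (nat_lit 22)) (st := (nat_lit 576)) (by decide +kernel) (by decide +kernel)

def t4c_loops : List W := [.l 22]

theorem t4c_mems {G : Type*} [Group G] {γ : ℕ → G} (hL : Lab γ iv) (hr : ∀ t ∈ (R4 ++ [.mul tor (.inv (.l 3))]), t.ev γ = 1) {K : Subgroup G}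
    (hK : ∀ t ∈ ([.l 1, .l 2, .l 3, .l 15, .l 16, .l 17, .l 18, .l 19, .l 20] : List W), t.ev γ ∈ K) :
    ∀ t ∈ t4c_loops, t.ev γ ∈ K :=
  List.forall_mem_cons.2 ⟨t4c_mem0 hL hr hK,
    fun _ h => absurd h List.not_mem_nil⟩

def t4zc_F : Tr := .node (.node (.leaf (nat_lit 0xa016a087821e089022408981e607101c407a812807181c607a012a07981a606b81ae061018406a00ea06a80e8061818606981660510144057815e05901240408102041810604a80a801080c203b00ec03900e403780de03180c603980a602100840218086027809e02a80680208042017805e0118046019006401a802800980260090024007801e00180060010004000800200af569381750538bf4ef37b74ad361744535bf42f34173c534a73ab33b736d3197325307f2df2f0f2832eb726d2db722d2caf1e92cb71ad2a9f1672a0f1032ab70ed27bf0af24a706b209f0271f16fc51fa6fab1c0ef431cbef2f19b6eed189eea71416e451416e05139ede7121ed87100ed430eb6d2d0dbecef0ba6cab09bec6f087ec1f08a6beb071eb87070eb4307beb2f06b6aed05a6aab02b6a6d01bea2f00b69ed00be9aeffae968ff0e902ffb68ecfe968a4fe0e842feb682cfdbe7eef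c16784fcbe76efb9e726f8966e4f81e686f80e642f8be62ef60e5c2f6be5aef59e566f516504f4b64ecf3be4aef2b646cefa642aedbe3eeecbe3aeebbe36eeabe32ee8b62ece816284e896264e6be22ee59e1e6e5b61ace39e166dfbe12edeb60ecdeb60acdd0e042dcb602cd9a5fead895fa4d80df42d5adf28d31dec6d2b5eacd195e64d01de06d00ddc2d0b5dacceb5d6ccb95d24c99dce6c795ca4c67dc5ec6bdc2ec4a5beac09dba6c095b64c00db02c0bdaeebebdaaebdb5a6cbcbda2eba9d9e6b9ad9a8b89d966b61d906b60d8c2b5b58acb3bd86eb1ad828aebd7eead15784adb576cab95724aab56eca81d686a79d666a6b562ca5b55eca4955a4a49d566a215504a27d4dea015484a0954649ebd42e9dad3e89d9d3a69d953649cbd32e9aa52ea96b52ac94ad268919d226910d1c2910d18290ad1688e9d1268e150c48ebd0ae8db506c8d950248c0cfc28cbcfae8bb4f6c8b9cf268b14ec48bb4eac8a94e648ab4e2c89a4dea891cd86890cd4289b4d2c88bccee87b4cac87acc68877cc1e870cbc287bcbae86acb68869cb26869cae684bcaae82aca6882b4a2c817c9de811c98680b496c7f949247ea48ea7c148847bb486c7abc82e79b47ec79a47aa799476479bc72e78b46ec777c69e77b466c769462476a45ea759c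5a6751c546750c50275b44ec74bc4ae73b446c737c41e730c3c273bc3ae72ac368729c326720c2c272b42ac71bc26e709c22670bc1ee6e141846ebc16e6cb412c6c7c0de6cbc0ae6bac0686b9c0266b13fc46bbbfae6aa3f6a69b3f2c67a3eea670be8266b3e6c65bbe2e63abde8639bda66313d4463b3d2c617bcde61b3cac5fa3c6a5f1bc065f93be45e0bb825ebbb6e5d9bb265d13ac45d93aa45cb3a6c5a93a245a0b9c25a9b9a6599396459b392c58938e4580b882589b866571380457b37ec56937a4561b74656bb72e547b6de54a36aa5393664530b60253bb5ee52b35ac52bb56e519b52651b34ec4e7b49e4e0b4424ebb42e4db33ec4da33aa4d9b3664d133044d9b2e64c932a44c7b25e4c9b2264b931e44b1b1864ba316a4a931244a0b0c24a9b0a6491304449bb02e48b2fec489afa6481af4648baf2e477aede4792ea4460ae4246b2e2c4592de4457ad9e45bad6e44aad28449ace64412c8444b2c6c43b2c2c4292be442b2bac4192b64411ab06410aac241baaae40b2a6c409aa263fba9ee3eb29ac3c929643c0a9023cb28ec39b28ac38aa868389282438aa7e8379a7a63792764370a70237b26ec36926a4361a646360a60236a25ea35925a4350a54235ba52e34aa4e8349a4a6341244434ba42e33b23ec33b23ac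32a236a329a32632922e4321a28632ba26e31aa228319a1e6311218431ba16e30b212c307a0de30b20ac2f920642fba02e2e99fe62e11f842eb9f6e2db9f2e2cb1eec2ca1eaa2c79e5e2cb1e2c2b91de42b79d9e2bb9d6e2aa9d282a99ce62a11c842ab9c6e28b1c2c2879bde28b1bac27a1b6a2791b2427b1aec26a1aaa2691a642619a0626099c226b99ae25b996e249992624b18ec23a18aa2391864231980623097c223b97ae21b176c21b972e20a96e820996a6201164420b962e1fb15ec1f7959e1fb156c1e915241eb94ee1d994a61d114441db142c1ba13ea1b993a61b913641b193061b092c21bb92ae19b126c197921e19091c219b91ae189916618b112c17910e4170908217b906e16990261610fc416b0fac1590f6415b8f2e1378ede13b8eae12a8e681298e261210dc412b8dae11b8d6e10b0d2c10a0cea1078c9e10b0c6c0f90c240f78bde0fb0bac0ea0b6a0e90b240e18ac60eb0aac0da0a6a0d90a240d089c20db89ae0c989660c109040cb88ee0bb08ac0b988660bb082c0a907e40a087820ab076c097871e09b86ee08a86a80898666081060408b85ee07b05ac077855e07b052c06904e406b04ac05a046a059042405183c6050838205b836e04b032c04782de04b82ae039826603b022c02901e4020818202b816e019812601100c401b80ae00b006c000000000))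
  (.leaf (nat_lit 0xb002c0000040000004106000402a000010600040bc00200010020078006007800200bc002002a00040180014046001401b0014039011803901280900034008002007800d80050014039001408800e403601e000d003403100c4078010400501040d1010407000140d10048122008001200800e000480e00080122021c04a01380410138104010410400d00c500a800d003407201c004e01380d1024402000800e000a803100a80bc00c40bc00a808600a81060218106015c03400d00c5024411301c00d10344104038009104880e001b802a01c810601b810601c010402f0086011801b021c0900104088004802e0244122015c0c500a8072044c0e003940d1012c0b9041c12f012804c00d007b050c1bf037c16f01d40c306481cb03000c9023811f05b00f805b4174066c144a732b9b0e6c3749dd27830d1036d95ba5831e0876e0e5033ebce6f970e6836b1730585961656b172c56c9f0e76b9be273a04e819c9c7e79b070019b951256c9db279319cc70706d8107bbd6f6c1e6076cb41acbc79cde731ed86730e48342bcbef06b346d2299ca64b19d464b012c11599c270706481b006b8073941a5130b242f8bb96f049c1a6b9b9caec305b019606c80bca9fe89290e6492132453001cc110044009f0af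0272050815304181b799d66e5039411605e8122012c10c045410c041c10801d4187044c173aa1e83491064347e09f8405c40f80410188b6cad0606280b995ce50611e04bc04380c305a41061314513028409204340e5922247b04c014518c464101cc09f01c80c8028009002181ba0318075045810da21ab0405340d19a1a64c006c14e031818703141c700d00ad06101bb03241990218175041816702f010b051c11300e410f01d012401ec131021c093021004100a814f02a80780130114041012d013012c01501ce025015f06ac09407140de07100b6032c086011c16003141b8046c08800b01cd06ac15f00c40ac047004004d404501b01370114136041414a050012a02dc12e01501cf01dc13406001a102a008904141d302e018d07041c6056419f03701a303641d0048c13806041a905f81aa05881d406801a605881a8b4dad8d94e258d06341d29f5674a168c5d5ae9a9a90e983d4ace29d394e25d2a4dabceb73adc71cdc7ce0d803d1a69abaab6aada50f403aab686dd0ae7e9d0be8efcfb6e2dcf1cd07cd0cc03cba4d2b2ebc2ef609d4276014b856005801b3b4b6d37a4bab37072413706f815d16f45ca0d743c9a4babc9169c5c894b65c715cc5c77ce1fc6beeefc5be66fc40e4c3c37ca1fc39cba7c215405c2b706d4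07c8dfc17c89fbf0cdc3be14a85bc7e09fbb1c647bb0edc3ba0df03b9bcbefb716c45b7a44eb0eb59edb2a5d6b88aeca9889e2277c143857c05f01aca43ab1706d011706bc17a16b45b50de83b4a43abb49d427b314b85b3ad769b39e327b11e207b10d4c3b00c5c3af9e227ac14385acadea9ac96025ab0e8c3a9a40aba91e987a8158c5a5a692b63a67eba30d7c3a2968655fa682b7e9dfe7a00d883a014845a0a606ba01d887a00ce039fb4bad9f140859fbbeef01040419dabfa8fc0d5439eabf299dbe56f9a7c51f991e587987c39f9613d85951bd4794a64eb6a7bd1f93947e59313e05927c1df92adee8f4a4a2b5aa63eb9194a2591ae4298e94665901e3878f9ca678ead2a98d144858c0c4438b0d4438a9c1a78a9d367890d483890cb038714205871c30787adce9870bf0386add298514f85840cf43831b7c7830ce8382937e582bb8af81b5fed7fa5f6b7f136857f0b6437eb2a2d23a416b2392e252315885230d64323048c15ba2e2b050414166a486ad99c866da055c0da136057dbdf6f7d7da9f7b156857b95865770d843799d7e7780ba43761c44776a426b75959e5730b283721b1c7720b243719b427701d7c770b5becdb7b15f6f0c7c36f7d69f6e7b0df6c1b2476b9d0a76aacea96a944e56913405680b2c367a3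96b670ce436512f85659c76764958e54cad56963156c5629bfa761932e55e9b1275eacae95ca43eb5c0d6435ba416b5b1c8475b92e255bb566cb794865599ae27580d60358a35eb581a9875895625589c86757a356b57bd5af569d5a75615585560a9435613e45559d526f995225529c2e7529c92751143c5519a7e74f0ab034f132054f0c3034e1cb074e141054db48ad4dab2294d0a7434d92ca54b9a5e74bb3aad491d246980a4c3490b9834812485481a78748a51eac31314547941a5471a70747a48ab46aa469467a4df4513245457a45f43ad0a91f13005427a41f420afc3419b7a7407aa1f400ad83409c9e73f92da53f1a3873d0cf031ea46ab3c12ec53c9aee73b923a53a1a2c739bcb2f36bc52f350ab83341cb873314c85009bfe7321c9473292225319c1272f1ba072fbcb6f0dac2e92d0a2032d)))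
  (.leaf (nat_lit 0x134452d121c52c0ba032b1a1c72b7a25f2aa4a6b197a21f2913dc5290bd03281a087281b6c7270b74327b2ead260b3c3260a88325146c5240b943241c2c7240b80322942e52219f87220ae032179f1f2079edf1fa36eb1e123451e0a2c31d122451caaba91ca46eaaa9c3e71b0c1031b19e071b91ee51ba2f6a8a0a0c31a136c51aa466aa70bc831979e1f197b75f180a04318bc12f160b4c313a1d6b13924a50fac1a90d09d030d12ac50da42eaabb42ed0611e050b0b9030a1bf070a9c1e7090a8030819cc70811d4507ab4e9070a18306ab4690613645051b64705a412abc19b8704931650492fa50309bc30311e450312d44fea9ae8fea38aafd92ce4fd123c4fdb3eecfb1b086fb930a4fb11a84fb9a3e6fbabea8c2999e6fa12584fa09ac2f9a2d6af979d5ef8bbdeef179d1ef779c9ef5198c6f419e46f3a3caad279b9ef21bac6f179b5ef17bb9ef013b84f01a046efa3b2aef99da6eea3aeaee19d86ee9a9e6edaa528ea99ba6e899ee6e711684e611c04e5b382ce519c86e5a2c6a68b10ac6a02c006a9a5a6e3119c4e309942e3a2caae3a112a6501940b4938a46599a66e2a2ceae209fc2e119686e191ca4e0a30eae019646e0a37eac90b7c28e795dedf93564dc9b666dc09582dbb9deed991f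24d71b546d7bb5aeaf9b5a6d60b582d613584d61b586d6935a4d69b566d513544d5b352cd40b502d411484d4b98aed2129c4d29b0e6d1bb46ed1a9ca8d119406cf91ce4ce0a482cea1ceacdab32892924e4ccbadeecba1c2acb12b04cb19386cbbadaec90af02c809302c6a132ac5b316c54193c6c509ec2c512844c41ae86c41ae46c3b30acc2a25aac20acc2c17929ec0a22eabe992a6bc12a84bc19d06bca20eabb09202bba1eea9012604b9a166ab9111c4b709e82b719e86b711204b612a44b39aca6a9a19aab119106b1a196ab0090c2af9a866adaa1e8ada212aacbaa2eac9a4e6acbaaeeabaa1a8ab9a426aa1a206aaaa128aaa2a6a580a5c2a91a5c6a991ea4a809142a8a1b2aa811004a819146a87905ea70a982a6a14eaa6929a4a61a946a5a14aaa59a926a4b90aea412904a4a146aa41a906a40a6c2a3a9fe8a190e64a199e26a0a15ea4cb9eae9318d86931130493024c09908e429f7a7de9f112c49f10e049e121049d1a1869da272a4bb272c7e113c49cb9eae991130499b172c98a1faa98a8de898b11ec97aa5e885923e497a9c688f11a44951a5466909a42711a58667919e47191a249509a02969a0269418e0692921a49118dc691112849018e4690a8d2890092428fa162a8f192468f78d1e8e78cde8dba22e3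fa222a7898e668811d048891fe487b21ac86996268511c4485196068518c468490d248410c8483098c28278c5e82aa0285c0940280b11ac8010e8480a93a86ea1e2a41b07ac4f91ba44f08b824f015404fb9b6e74a082a4699d264610e4446b8b6e39a8ba839016c04600e407da8da82e096427e111847da8ba87d18b867b10cc47a98b667a08c827909b827890ba47898b2677115047708c027718b0677a176a5eb9dae7608bc276117c476996e674b1cac7298d667118d467118a8670915e470115846f915646e18b466d10a446d995266c10b046c08a026c195066c91aa46ab992e6899a266811a046811984661994666109446478a9e63198865d90fa46278a5e627979e60997a660b97ee5f789de5f117845e18bc65e097425d10e445bb166c59a12ea5910d445808d0257a12aa571880657a122a5608b8255087c254a116a54994e653114c453914a45209482521948652a8f281d0944251b092c511944651b8a6e4e110444ea8aa84eb916e4c191864aa0d6a49a0caa4898a6647a0c2a47910244718cc6477919e461064445a096a43a092a4298da641a8c684108cc2401864640a8c284090fe418a09ea3f186063fa0faa2f7859e3e108443d08f422118f462190ee421a086a3d98f263c10f043c18f063ca87683c185463b08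5423b78e5e39b0dec3778dde37106c436a84a8361848634a8ce81f9066433984663308a8231904a43198a263010404301840630988e62fb872e2f10bc42fb0b6c2da07aa2d104442d086022d084022cb8aee2b987a62b083c22b109c42b908242ab0a6c13a03ea29184462990a642908a4229107c428187c628983a627b89ee271878627989a6261098426b096c2590964250894225a85e80c0890224108c4237835e2308882220848220a06ea20984261fa066a1fa87a818a05aa0fb01ac110050011a022a0a002801a103841eb87ae1e087421d187461d907641d087021c102c41c986a61aa042a19b062c187861e18105c417a8328170858216a036a161820616905a416a02ea151054415a02aa14984e613104c413a826813081c213184c613a026a137849e129046411b826e0f983e60f103c40fb83ae0e7839e0e983660d103440d182860d083020c183060c903240c082c20b982a60a102840a7829e0a90264090824209101040918246090820208))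
def t4zc_T : Tr := .leaf (nat_lit 0x3abd4e9f4ba3d0e7f3b9bcce5f2b93c8e3f1b8bc4e1f0b83c0dfefb7bbcddeeb73b8dbedb6bb4d9ecb63b0d7ebb5bacd5eab53a8d3e9b4ba4d1e8b43a0cfe7b3b9ccde6b3398cbe5b2b94c9e4b2390c7e3b1b8cc5e2b1388c3e1b0b84c1e0b0380bfdfafb7cbddeaf378bbddaeb74b9dcae370b7dbadb6cb5daad368b3d9acb64b1d8ac360afd7abb5cadd6ab358abd5aab54a9d4aa350a7d3a9b4ca5d2a9348a3d1a8b44a1d0a83409fcfa7b3c9dcea73389bcda6b3499cca633097cba5b2c95caa532893c9a4b2491c8a43208fc7a3b1c8dc6a33188bc5a2b1489c4a231087c3a1b0c85c2a130883c1a0b0481c0a03007fbf9fafc7dbe9f2f87bbd9eaf479bc9e2f077bb9daec75ba9d2e873b99cae471b89c2e06fb79badc6db69b2d86bb59aad469b49a2d067b399acc65b2992c863b198ac461b0982c05faf97abc5dae972b85bad96ab459ac962b057ab95aac55aa952a853a994aa451a8942a04fa793a9c4da6932984ba592a9449a49229047a391a8c45a29128843a190a8441a0902803f9f8fa7c3d9e8f2783b9d8ea74399c8e270379b8da6c359a8d26833998ca6431988c2602f978ba5c2d968b2582b958aa5429948a250279389a4c259289248239188a442190882401f8f87a3c1d8e872381b8d86a34198c86230178b85a2c158a85228138984a241188842200f8783a1c0d86832180b8582a14098482210078381a0c058281208038180a04018080200)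
def t4zc_P_0 : Tr := .node (.node (.node (.node (.leaf (nat_lit 0xe00d3ef3e500c00f0086100e3c73c900f0061300e3c30090024e00e3c700f0002200e3d6009006213e43ea00c3c93cb00d0061800c0043ad00500d0028a00c3d63c23c900d0024000c3d60070023d00c3c30070021d00c3c700d000073e000a3c13bd3c100b00a8b00a0023ad00300b00ac900a3bf00b000830083bd3c13bb0093db0045e0083bd0073d5006009008180083bd0090002c0073d50063c13c2008400063c10023ad003007004810060023af0030070027a3cc0063bb007004130063bf007000080063bd007000063c80043ad3b13ad00500a8b0040033c100200500ac90043b73af005006860043b3005000830043b90030027b0023af3ad3af3ad00300a810023b3003000770023b5003000760023b100300476))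
  (.leaf (nat_lit 0x1ff001ff001ff001ff001ff001ff001ff001ff001ff001ff001ff001ff001ffbdd0020012cbd6bdb00131b7bbd900131bcbbd200131b04bd50028032cbcdbd200131bc8bcebd100132bb0bbc00131aaebcd031802f0b81bcb00131b8ebbc0013108dbc700a8032fb5ebc500131b5fbc0bc300132bb2bb8001315f2bbf511802f3b5db9800131bbabb0001315e3bb53fe80326)))
  (.leaf (nat_lit 0x2565d310f0002c2545cb113000837b15e37f20061e2525cb1110041e2525cd1ef0041d2501021055cd74e00aa32501021050007624e10254454e0c047741903d0a91b70101524e7ac7af0020924c5c51750027624c5c76d00020724a5dc10e4bd07114500aa72487d62447bc006132485a31cb000242487d67d9000222446b06b76391c1004402447bc7bf7980081324459d0fd00006242636633513171004c92400f20f90008323e0f20f70007723c7767795756f800a4123c59711b0043d23a597117000242380f04a106311300ac92385be15d0027b69c7817c00061d23658b4a70691257a4004a623658b0f76b077c004a12360ee0f10007623658b0f7004761145ce7b87b76f953317b00a46)))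
  (.node (.leaf (nat_lit 0x1225d05d310d008131224c706f0000612011f5ef09209500ac91204c14aa5ac006861200660690027b11e4c14294c011f5eb00ca611e4c40b10067b11e4c30930007611c0640690007711a0640670001e4ed08d5af5e0002ae5935aa5e0006211104bd0730044e1104bf0e90041d10e06201e01d05d0ff006a610c06242306310d0027a10a4b706b53a004ae10a4b706b57c0008610a4bb4910b100686108060063000761084b7069004761064b9065002081044b34530470c7004c910405e063000770b85b25c40027b10005c45e03c0143d30060020050110370a1016d710005c01c00a0023af3ad00501103144d08d002d710005c01c02507500ac95945be5160021d4fb5a45920064e5b70aa0012c5b757200120))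
  (.leaf (nat_lit 0x39e2685e407e02c02f44908916b7743470029439e2685df2273710027a39a80b2690007639625e261002099c89c79ec2c081400a509e83660012f9e8995001239e8993000f09933959df37a7c72c1808419e33920012c9e39db001299be9e09dc802ed9909933959df37a37d80a403949609632707c837b0028139280479f6712bb004c939225a25d0067b3907fd26581034f0007a38e25825b0042138e91e9190041d38c7f72710007738a9bc3789b8004863887f726b817950006873867eb8c98c5942004a138624e251000773847dd367993004ae3847dd3679950008682f8fe9c2002773827d32470001e37e7d12450000837c7c926f0001d37823258510525500ac93767af30500077))))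
  (.node (.node (.leaf (nat_lit 0x824680630027b0804410314a84ab4c0008180804410330002c080468061002214ec07e43f07f0041307e44304f0061d07e4410310000605e4694e80061e07c02a02d0007707a43a07b4e2000134e14d307b000244e14d507b000224de07a43b4d20760263e93d13cf3d13e80270770082007a43d043006214da0784313f343007900a8b07849b49349a07900ac90784374350790068607843303b0027b07642f43100e3c53c73c500f3f302b0061507643102b0020907242b0730041e06e0243e102506f0027a06e42b06f0000806c46700c01103700ac906c0220250027b0680200250007646f44e4c20022106646e46d0004e0660200230002106201e02547249c004a106201e025004760604a04a348804e05100861))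
  (.leaf (nat_lit 0x8f48a6000f08f489b000ed8978ee1b265288888b6f5247802498f02cc001292cc7d48ee7848041d6fa6fd6e22fb8e91b052b1b58ed00c588eb885001231b452a5281b18e82fa6e588280c542fa1aa0a20a75291b10028d2fa1aa51f1ab2fb0028a2f61a41a37fe8015e14d15f28348bc00a1a2f66d92b5002062ee2f38df002242f21a009a0364010314a84ab06d1352998ab2c616a6802c30089e2f08cc8cb0022c2ec6cf0e649d0b51d300aa72ec6cf223000762ea6c32130067b2e68d08d31941978b40045e2e46b9195000242e418c18f000222e26b9193002092e06ad2d18b7004ae2e08a02bc2bf006861b66b58c6002772de6a318b0001e2de8368380001d2dc6a35115031736931304fa6562b500e1a2d86a3187000092d617c6886bc006862d417a181836004ae2d47ba2750027b)))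
  (.node (.leaf (nat_lit 0x1b652f0ad002091b20a603a4050080023b70033c10073d50063bd0093dd4044264a00ef010eb1ae1ad6eb6ef1ac0a403a4074053db4044030123d100600b01d0590f900eeb1ae0a40a31ab0068667d08602e00e00400300701303b0a51ad6ed6eb6ed6eb6e96ef6e76eb016eb1ac0a403a0123d301303b0a51ad002951ac6dc6df6dd5251ad00a811ac6dc6e16dd1ad0007a1ac5271ad000761ac5231ad004766e21aa51f51b51f1ab00a8b1aa51d47b51c1ab00ac91a851d04804b48304a0180080073d301303b0a31a90049b1a851b0a245b0a31a9008181a80a20a50002e1a4519550002831a4517656002081a251950a17969f1870028c1a25194935181a30028a1a25150e50021d19e09a0a10007619c19b6cb0004e19c1996c80001d19a09a4ca1316921725b10e80e700c581241276c60022119809a0996320081319663263768a004861966395760064e1966326720002e19609809d0002c19251316d0028319062a62f5e066a69c00a62))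
  (.leaf (nat_lit 0xac821800123af422a000f3ac6ac900131ac421000123360ac593e8031778eac535d802f3ac0ab000120ab98cf000edab63100012fab392500123aad21c0012f94daac8c0803172d3aaaab58032caa763f00126aa763d00120aa083d000f0ad6a9d0013162ca9d22180317a9a6bb000ed2a6a98834803179b6a97788802edacc22c00123a92aa400131860a8e2f58032c866a8b097802ed91aac322b802f391cac378c802f0a89a94001319d4a87aa8802f0a8467900126a8415a00120a829bb00117))))
def t4zc_P_1 : Tr := .node (.node (.node (.node (.leaf (nat_lit 0x283e90150067b02600c3cb3c700d027008610263e53eb027006130263e70130024e02600c00f000240263e5027000220263e9013006210243df025000770223e30230004e01e00a0094040088601e3e301f0022c01e3e101f0020601c00a3c100b01d0028a01c3df01d0000941a01a3db3d93db01b00a8b01a01941701801b00ac901a008007015006860184044074053db01900a810183dd019000760183d9019004760163db0170020940c0143d53cd3d501500a8b0143d33d53d301500ac90143cf015000830123cd0060093dd4040045d0123cd0063c1007013008180120060090002e0123cd0130002c0100043af005011004c90103d600b0067b0103c5011000770103c701100476))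
  (.leaf (nat_lit 0x7d16948340021e28428383317e18100ac92845e7121000832827cc82582169717f00a8128027f82b7eb6f91bd0086128027f82916c65e00a2628027f8290002427e11811d7011be1bb7e800cab27e11859677677b17c68800c6f27a11611d000767cf7b68220003d27827781f6997b800a5027827781f0002e2767ca23a77677b17c69600c6d27411411d004762721141170002226c11210f7fc0088626a1124bf0eb2290028a2685e407e08315d004c926610e10d25d006862000d64860d71ff80e26410e06242442206310f2650089b26410e0624a049f04e41b41940f03f4900e36070d204c41304d0d71ff006eb2645dd24b0007626210e1110042125e7f87fb73177e00a5c25e7f87fb000077a379b8020007b25a10c4bf0e521700a4025a10c1110003d25a7887870041d25810c10f0002e2565d310d78820c73000818)))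
  (.node (.leaf (nat_lit 0x6321265380061d63061d0012f630132000f363061b000f01324cb09762a13e13b6275d11278064c13e06e0730003d13e4cd13f0041e13e1396220041d13c06e0710002e13a5f61225d00061313a5f65f90002253c0b247306f13900a410fc5b861e1384cf139008811386146170fc5b80024013206c4c059a008861324cb0990020613006c4673eb00c0040030073d30150410b9018d71305a40fd0023d1304c906f0021d61010a5080047b5d55ec60e12e57a60c60e0024912e57c60c0004e5ed5d85d760760a12a57c00c5312a12d6040ce4850d30066560657d12d5ff5616000006457d12d6040ce4870d3006640ce4860cf60257d12d0006357d12d5ff5610d00cf00a6112a12d5ff0022412c06a02000a0023af3b700300901941704947b04841504b481558562014eb1284c70755c2004ae1244c70710002c))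
  (.leaf (nat_lit 0x9fca2b3018032c271a298ff8032ca0fa298fd80329a1ba298fb803209d3a299c280317963a298f7802ed97ea27302802ed9fea25901802ed3a9a238f8802f0a13a2196780329a03a2196e80326a11a2196b802ed97aa1f964802f335034f9d8390818a1c31a85685363724396896b80ed7a183a40012ca18a0d00120a0d3aba1692c8024e2945fd5c51736931304cb0991978a22bc2bf9723441fc5641fd347a14006eb3aa9629740041d97d95e9633a9a1100a403a896295f2041ff34d00cb83a626e2710027b3a426c27100476a0838e8180067b9d79e6a060067639c8139eaa043a226a26f00c463a226a26f9e59ea00440a0034a34d0067b9792c67743439fc9fe0088135495e9fa0001d3a039f9f9346343002c93a09f09600027b))))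
  (.node (.node (.leaf (nat_lit 0xae03e0414734c600aa30ae46d0950067b0ae03e041000760ac46d0910061e0aa45d45f42105d004c90a803c03f000240a846a08b006215280a645b45945b0a700a8b0a603a40703b0a700ac90a445945b4570a55250045e0a44590a351f0a20a5008180a44590a50002c0a351f0a245b4d6008400a245b03a40703b0a3004810a203a4050190490027a0a24590a30000609c4ca06c4960048609c4ca4fa0002e09c47049c002210980360335000088609403203108d0068609244f06b0067b09044f0650061e08e4f44f74c149600a5c08e44f4b80023d08e4c24f60022408e4f44f70000708c44b08d0008308a0300330002e08647c04b0062108447c0490023d0824410374ca004ae))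
  (.leaf (nat_lit 0x32273d31f0067b32273f2510047692f7f4932002213207357b50004e31e1d81d731d0068631c7467557f0004ae31a7332950027b31831792922222500ac93161d01d38da8d900aa33147fa89e89d86e0044031473120d0022e31272d1d173177e86200a5d3128508740002430e7272198668650045c30e72b2110002e30e7272190002c30e8b28d40022130c1c61c979679500aa330a7022e90022130830791127a27d00ac93061bc1bf70082600aa33061bc1bf000763041ba1bf70081c004a13041ba1bf004763021b852f0b11c50028a9058e69040047b2fe8e82fa6e32fb00a412fe1b01b50043d2fc1b01b3000248f42b60012c8f4899001298f489500120)))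
  (.node (.leaf (nat_lit 0x1dc5891d70023d1dc545584000071da5556da6d9004ae1d45c95fc0024e1d01cf72f59d5b85bb008611ce70a70d0fe59c00a5c1cc0b20b50002e1ca7041c0576006131ca53f704006761ca704709000220d04840cf71c71b71768000a467211600012c0d44840cf71c71b67e80a411c61c571160912a12d008611c65d45d7603006131c61c5712000241c6667685006217141680012916816770e712804210ca04804d4860d3710008b71c45d85d553b12b60b00a181c46676860023d1c25350b35a20fc0ff008181c25350b50002c1c05765790e5008131c05371870061d1c05350b3000061926396fe0061e5e95386fe002091be0ac0af000771b858e5910f96f46f300cb31b856c5694ba58c6f600a8c))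
  (.leaf (nat_lit 0x337b34b1080320b31b34b2c802edb10b1d9f32605ddadeadd4d0adcadf5dc261399b3280620b30914b210023db2eb2bb2990db1933700664b2bb2990db19aeb2e9004632da2ddb2990d81d2890065e90f90ab28002228c32b4657a9f5ca7ec7ef329b26912abb00c0f27c81ab2432e94a32a94800ec232e94a952b222d68ae8b1006c5b1b9cdb0fb0733094a952008c4b1eb1b9cdb0fb1d9f33990046db1b9cdb0fb1128870130b00269b0e9457ee9cab1a8bfada9f2010398bfaea1f01ebb08b0e9cc002c3b1633800123338940afe8372d9b0e9468bb80a54b13380001233361f01ebb08b0e94338180ab7b0e32674d59711d289006a694574f5570e7b02b0c93eafe8372d90141ab0bb00000f335daeeb01802f3ae232c0012fae294e000f3ae1ab40012cad822000117ad836d000f3ad298aaf1000eead09b30012facb2f40012c)))))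
  (.node (.node (.node (.leaf (nat_lit 0x6001e3e10210061306001e0210002205e01e3df01d45e03c40f40b41847600c1a05e4270390028305e42305f002084ad45c4ac0047b05a45e03c40d03d00a4105a01c0230043d05a45e46a0001d05801c0210002405642148c49e0088605648c4890022c05601c01f0020705645e488002060544190410047642d4264980047b4940524194633fb3ff01f00e4905241940d03d45f01c02300c4605241d0530004e05241b0530001d05041940d03f0061305041903f0002204e41d41940d03d45f00a1804e01a3db01b04f0028a04e41903d0000748404c41741541704d00a8b04c0183db01904d00ac904a0180080023b700300901904b0009504a41541741304b47f0045e04a41504947b04804b0081804947b048417446008400484170183db01904900481))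
  (.leaf (nat_lit 0x2d269b227004762d07e67e519e1a100ac92ce6aa6d61a26be0045c2ce6911cb0064e2ca2c98ad7cb81a0045c2ca68917d0002e2c86896968202787ca0061829813406c4673ea3ee4664c011f5ef1836a568766385885b16416b2c7012eb2c67588780021d2c468715265a2b70007a2c268116b774004ae2bc15a1596c0008132bc67b6ae0022e2b86692570024e2b87c57c3006212b66591717d4890004a12b665d20b0067b2b6661243000762b66591710047668d2438902b26512b300ca72b288888d88788f7d40045e2b087a87f2ac64b2af8852425994ab46700c01103108b171002972b014a14d65588800aa32b064d1af0067b2b014a14d000762b064f2b1004762ae1484db14964764364b2ad87d88187b14a0780263ed4664aa598243002eb2ae6451ab0067b2ac64915f6f16e76f015e6482ad000962ac1484dd4d91492ad008612ac6436472ad006132ac14814b00024)))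
  (.node (.leaf (nat_lit 0x18c096099002076b361e13806e47247109900a460a85bc6b20067618a5115af62e62b09609f00c4618a5f46950001d1885115af63c0061318851117500022186511173000071840920320103cb0110330931850009518450f12d0064e1825ee5ed667686004401800900950008317c50d1170064e1785051215f5004ae17850512166c0008617850b56e5b4006861765091070061e17608e091002095f35ae1736931305a459c00a461725b34714ca131002401725b30b30023d16e65865b5060061316e65e6610002416e6586610002216c501091002081661656840002e15208002c4304344313f63f23f800e3c80043ac3b400500f02f089165006eb1624ff0cd0067b162086089000761604fd0cb0067b15e0840870002415a4fb13764014663c004a7))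
  (.leaf (nat_lit 0x333a818ce802ed9aba7fa9080326a7c9ac0012c2cfa7d92480323a7c8d400120a7a799000f084ba789ae80326846a788b880320a79849000f07a4a7763c803207dea757a0802eda7280b0012083fa7126180317a6f5d3000f386ca6d0e780323868a6d0e5802f066ca6a63a80323374a69a8d80323229a696b8802ed805a677aa8032fa6625a001297fea67862802f0a6425800123865a65098802f391fa656b8802eda09a636b58032c2bfa611288032f9d0a5c3098032f9cea5a6bc8032f2eaa585db8032c8b5a58788802ed9eea571798032f))))
  (.node (.node (.leaf (nat_lit 0x5b7531000ed09e4ca5a45308001d5b05af5ad570004865a90b6001295a9580001235a9541000f05a60fa0012f5a659f001265a05a7540802f059f0fd5a30b247307380a410fd5a30b24734c8008400fc5300aa03c0410b3004810fa4af4a944d08d00ac90fa05a05d0027b0f605805d000760f44a70670043d0f405805b000210f24a7065002090f005605d530572004a10f005605d004760ee49f0d956d56656b00a5d0ee05645e0a9006130ee4a1061000240ee056059000225454b05845830be0c555400a460ec4a50ed002830ec4a105f002090ec49f548002080e849d0b70044e0e405441b0550e50027a0e248f0b153b004ae0e24ba4b906b00686))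
  (.leaf (nat_lit 0x376230233000763743739b59a798c9b000a6237222822f9a19a40044036e92a3188060048636e92a98e0002e9a42f87a80061d9a83108b20047b9a69a536b99b35a7928d600a549a69a536b99b35a79236500a539a2987001239a2985000f098536b99b35a78b2f98084199f9970012998899c998802ed98298536b99b35a35f80a4036a21c0e40eb78c35b0028d3688057ff6d52f5004c936821a21d0067b36687292092385d2a100a8c36679a7895db25d00ac936679c2bb0027b36278f22592a004ae36221072a311006863607912a70020935e78d22f0001d3589249278717df31100a8c35879b21657f21d00ac93587872f50027b3567833010047635295d7651fd347004c93522022050067b3502001ff34d00686)))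
  (.node (.leaf (nat_lit 0x23458d1070020923458f1b7002086d874b7b20061d23258758354b1e5004c92320ec0f1000772307367421e054948903c03f0ad1bb00e152305851030002422c78c20e77e004862265b556f5181a7004c92260e80eb0067b21e6ce6cd0022421a0e44be10d78800a4021a0e40e90003d21a21779c0041d66f10c4bf0e521700a4120c59479821657f217008812166d278620c594002402140e24910b11c9004c92146031f9000762125790eb78c004ae2105794be4bd071141004612105790e70002c20e0dc04e0550eb00ac920e5c11a70027b20c5945e311010d0044020c5c11a30063d20a5671b96fb0008620a56d58e6f60068669f5115af62e62b09609d5c077e00c572080d80dd000762085676b5004762060d84ee4f00304013fd3fb3ff0210651176a000c20))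
  (.leaf (nat_lit 0xbb6bb2001315e0bb53e380323b5bbaa001315a4b5907380326baebac00131b83b8e00131593b594bc80320ba4ba900131b71ba700131b8ab9600131afaba30248032cb9bba000131b9cb9f00131b6cb86001317dab9b473802edb57b860013118bb91abf80326b92b9500131b63b8a0013177db91abd80320b55b7600131b8cb530013157eb530548032cb88b71001316d3b5351480329b84b6c00131709b5349d80320b7eb8100131b60b7d00131ad4b534be802edb78b7b00131b65b6800131)))))
def t4zc_P : Tr := .node (.node t4zc_P_0
  (.node (.node (.node (.leaf (nat_lit 0x4604547504404700ac904601601b0008304445245545341104500a8104001400600b025004c90404630370067b03e01400600b3e302100ab703e4630330062103046203d0063d01e3e001d45e03c4633fb44043f00a4d4650280012c0223e23e001d45e03c40f43880c54460034001294500343ff3e23e001d45e03c8005303c01400600b3e101d0028d03c0143d501503d0028a03a42642342703b004c903a40903b0007603a40303b0047603840703900209038405017002080343fb0350044e0323ff0210064e0300103c90110310027a0303fd0310000802e02d44502c02f00ac902e3f50190027b02c00e01140144000aa302c3f101b0067b02c00e0110007602c3f302d0047602a3f10170061e02a3f702b00208))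
  (.leaf (nat_lit 0x2aa2a98760002e75b1ff80e80d7e32a90085f2a41405fa84e008132a463b7980022e2a262914163b7be7e000a5d2a284c84f7a40061329e13a13f0044e29e6276760003d29e85c85f0041d29c62510c4bf0e52190081829c6252590002c29a84484977c0061329a6207d60067629a6221910024e29a13813b0002429671e7190004e29612c12f000218546191d5002766921725af62e13e5f6293008462921221270003d2905f706e4720b31cd008182901221250002e2905f713d0002c7061c053912328f00a4128e8408432446b00024028e5f97880022428e5f71390000728c6952450023d28c5f11230021d28a5e91270041e28a7017020041d2865e912300008)))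
  (.node (.leaf (nat_lit 0x15a4f910f0024e1585bf5935aa5f25f15d000a4915808208165a008861584fb6340022c1560824450831570028a1564f910d0021d1544f50955f4004ae15408007f5e5006861544f31090027b53b12f6640061d1524f50935ee60e004a1152506612000761504ed0300334c259a0045d1504ed03040103108b008181504ef0d90064e15007e0810002e1504ed08b0002c14e4e90830008314c07843507914d004c914c5200a70067b14c4d914d0047614a4d914b0002214a5200a5006216426461484db4dd1490061814807843102f0850028a1485204d64db149002401485200a30023d1484d9149000071465ad4ab06d137004c914207006f13961f5b90ff00c531420700730042114007002401f4a00f1008a6))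
  (.leaf (nat_lit 0x371a55848802f07c2a525e1803237e1a525df802f039ba510f78032c672a4d10f80323159a4d5d2802f386ba4d4bf802ed239a4a1558032f816a485128032f9e6a472098032c818a455128032fa0ba4552c80326a4fa5e00131295a433578032c830a4038b8032382ca40389802ed25da3f6c48032f9eba3f68f802f09f6a3d6b58032c269a3b2378032c9f5a3b58b802f3971a3998080320675a361128032f65aa367c8802f065ea3626b802ed3a7a3520a8032fa1ca331708032c92ca338f28032638da319c48032c960a2f8928032c9f9a2d1b88032f3a1a2b6f78032f))))
  (.node (.node (.leaf (nat_lit 0xe0050055000760e048f0af004760de4910ad002080dc4890ab004760da48945f01c3e101d05b00c460da04e0530043d0d804e41d41903d0a9008610d848945f059006130d804e051000240d84890a9000220d44870d50004e0d004c04b558008860d04870d10022c0d04850d1002060cc48347f4830cd00ac90cc04a0490cb006860c804804b0002e0c6477055000770ba4e607a43a07d552008800c44b44eb0004e0c44770530001e0c047741903d45f01c3e13df01f05f5440060f0c04b45440022c0be47704f48b548006870be47704f000090bc0bb5430ba0bd00ac90bc0424524b2006860ba4e64e44e64e40bb00a810b64730730041d0b204040d0410b30027a0b24710970061d0b00af53906806b00ac9))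
  (.leaf (nat_lit 0x34a3499760041d8a987975b1ff34900a4134695833f0067b344343970000248dc2f02ef8e18a53430045e2fc2ff96c0062134076d76276b76311e59a5994af5982438ec90290700c9b34076d5ef1836a52c500a8134076d11e59a2430007a3407719080067b34076f2c50007633e1f871c71b0ca51c0a203a426063113271016d733e1f80ce04c01840440742606310d5db25d002d733e1f80ce0d720500ac995a33a0012f95533d95787975b20380a4133d95787975b7720084033c91630c71b1f38780048133a1f61f90027b3341f01ed94a00886332757229000093301ec1eb32d0068632c75121d0008332a1ea1ed0002e32874f1eb000068e493c9440061e3261e61e90007732674d23f004763241e40be0c71f100ac932474920f000837ee93a8e20021d2b47b593293493093893700a49)))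
  (.node (.leaf (nat_lit 0x2065690df0020920656b0f3002081fc72308408916b00ac91fc0d40d70027b1fa60a12a53a1c500a411fa71070f0004e1fa60660c0043d7676a8768006761f660575c1f455d1f576000c461f675e7600004e1f60ce0d50043d1f660260c000216a775c1f455c1f500a401f455b71a71f60400a5c1f468272455f5fe002411f20ca04804d0d7004c91f271716b0067b1f05570eb000837455b4752002831ee5570e90041e1ea5570e5000081e80c20c7000761e60c20c154f54505e01e01d0590f3010151a45c07480061e1e45490dd000771e21e17411dc5471dd73900c461e25490db0001e1e054904e41b04f48d41f0570ed73a00a1a1e0582736002061de545103000221de5891d9006211dc54c0c04790bf58200a18))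
  (.leaf (nat_lit 0xaecb735f980320b74b5500131aa8b73122802f0b50b6c00131b6eb6300131ae9b4e6d58032fb56b6a00131728b4eafa8032cb52b66b6500132ae6b4daf980323afdb4b20e8032f808b4baf380323a8cb4969e80323099b49511802f3695b47abf80326aa2b47abd8032059cb474c7802f39c0b4583b803178c6b436ff80317ae4b410ea8032f707b417a6803266d7b41ace803236aab41af6802f3397b3f93f80317193b3d6a3803177d0b3b5e98031737eb3b287802f08c5b3b701802ed8c0b3875780317b1cb38940802f02e9b372da80320b14b3428880323))))))
  t4zc_P_1
def t4zc_N_0 : Tr := .node (.node (.node (.node (.leaf (nat_lit 553139727))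
  (.leaf (nat_lit 8199)))
  (.leaf (nat_lit 24230169154)))
  (.node (.leaf (nat_lit 692126785))
  (.leaf (nat_lit 639668832867))))
  (.node (.node (.node (.leaf (nat_lit 0x1f2a49f2ac9f2ac841))
  (.leaf (nat_lit 594)))
  (.leaf (nat_lit 0x11047795e41bcee195e57)))
  (.node (.leaf (nat_lit 2183759459))
  (.leaf (nat_lit 0x1b0837b0af615ed7))))
def t4zc_N_1 : Tr := .node (.node (.node (.node (.leaf (nat_lit 0x1f183e2f1be2f8c1e3))
  (.leaf (nat_lit 461)))
  (.leaf (nat_lit 1814071350)))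
  (.node (.leaf (nat_lit 724651649))
  (.leaf (nat_lit 0xdae2b5ed7b5ed7))))
  (.node (.node (.node (.leaf (nat_lit 523324898))
  (.leaf (nat_lit 23575)))
  (.leaf (nat_lit 2923138659)))
  (.node (.leaf (nat_lit 37163666003))
  (.leaf (nat_lit 66))))
def t4zc_N_2 : Tr := .node (.node (.node (.node (.leaf (nat_lit 80975))
  (.leaf (nat_lit 298)))
  (.leaf (nat_lit 789284353)))
  (.node (.leaf (nat_lit 741589273218))
  (.leaf (nat_lit 69883462742))))
  (.node (.node (.node (.leaf (nat_lit 636275408399))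
  (.leaf (nat_lit 661)))
  (.leaf (nat_lit 1813054550)))
  (.node (.leaf (nat_lit 53755334227))
  (.leaf (nat_lit 0x560dc41bdae1b5ed7))))
def t4zc_N_3 : Tr := .node (.node (.node (.node (.leaf (nat_lit 2786692161))
  (.leaf (nat_lit 15375)))
  (.leaf (nat_lit 0x2769da62b0ac29da76)))
  (.node (.leaf (nat_lit 691169342325825))
  (.leaf (nat_lit 0x2b5ec2b5c22b5ed7))))
  (.node (.node (.leaf (nat_lit 672818857025))
  (.leaf (nat_lit 1141988439)))
  (.node (.leaf (nat_lit 738000))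
  (.leaf (nat_lit 165))))
def t4zc_N_4 : Tr := .node (.node (.node (.node (.leaf (nat_lit 527875))
  (.leaf (nat_lit 329)))
  (.leaf (nat_lit 770800)))
  (.node (.leaf (nat_lit 22097253936))
  (.leaf (nat_lit 793194890851))))
  (.node (.node (.node (.leaf (nat_lit 591425))
  (.leaf (nat_lit 19475)))
  (.leaf (nat_lit 90265686)))
  (.node (.leaf (nat_lit 1730203203))
  (.leaf (nat_lit 0x2c115c3615ec2b5ed7))))
def t4zc_N_5 : Tr := .node (.node (.node (.node (.leaf (nat_lit 20326455429601))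
  (.leaf (nat_lit 430)))
  (.leaf (nat_lit 0xb5c56b8ad715ae2)))
  (.node (.leaf (nat_lit 676108239937))
  (.leaf (nat_lit 0xb06d708ac208ad7))))
  (.node (.node (.leaf (nat_lit 669581426274))
  (.leaf (nat_lit 2921978947)))
  (.node (.leaf (nat_lit 1169911564899))
  (.leaf (nat_lit 3075))))
def t4zc_N_6 : Tr := .node (.node (.node (.node (.leaf (nat_lit 83025))
  (.leaf (nat_lit 12299)))
  (.leaf (nat_lit 25358337633)))
  (.node (.leaf (nat_lit 2905632050241))
  (.leaf (nat_lit 2991111310039))))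
  (.node (.node (.node (.leaf (nat_lit 626275))
  (.leaf (nat_lit 726)))
  (.leaf (nat_lit 70551012419)))
  (.node (.leaf (nat_lit 37146397267))
  (.leaf (nat_lit 33))))
def t4zc_N_7 : Tr := .node (.node (.node (.node (.leaf (nat_lit 0x9c9f3941f284df29be0f))
  (.leaf (nat_lit 561)))
  (.leaf (nat_lit 0x25795e41b86e195e57)))
  (.node (.leaf (nat_lit 638682723))
  (.leaf (nat_lit 0x2b0ae115ae1b5ed7))))
  (.node (.node (.leaf (nat_lit 685565988585058))
  (.leaf (nat_lit 791986396771)))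
  (.node (.leaf (nat_lit 757794914))
  (.leaf (nat_lit 198))))
def t4zc_N_8 : Tr := .node (.node (.node (.node (.leaf (nat_lit 615227808333359))
  (.leaf (nat_lit 232)))
  (.leaf (nat_lit 92410042433)))
  (.node (.leaf (nat_lit 626086465))
  (.leaf (nat_lit 59180616291))))
  (.node (.node (.node (.leaf (nat_lit 593475))
  (.leaf (nat_lit 627)))
  (.leaf (nat_lit 90789955)))
  (.node (.leaf (nat_lit 2201028195))
  (.leaf (nat_lit 0x3615c560ded7b5ed7))))
def t4zc_N_9 : Tr := .node (.node (.node (.node (.leaf (nat_lit 606800))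
  (.leaf (nat_lit 14349)))
  (.leaf (nat_lit 57728055)))
  (.node (.leaf (nat_lit 21090717232))
  (.leaf (nat_lit 0x15ae20dae1b5ed7))))
  (.node (.node (.node (.leaf (nat_lit 566502211074))
  (.leaf (nat_lit 0)))
  (.leaf (nat_lit 21175590499)))
  (.node (.leaf (nat_lit 54814362675))
  (.leaf (nat_lit 99))))
def t4zc_N_10 : Tr := .node (.node (.node (.node (.leaf (nat_lit 82000))
  (.leaf (nat_lit 395)))
  (.leaf (nat_lit 773555937)))
  (.node (.leaf (nat_lit 741603953296))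
  (.leaf (nat_lit 92398509143))))
  (.node (.node (.node (.leaf (nat_lit 600827313697))
  (.leaf (nat_lit 20501)))
  (.leaf (nat_lit 55500801635)))
  (.node (.leaf (nat_lit 53755873875))
  (.leaf (nat_lit 0x4837906f20de41bc837))))
def t4zc_N_11 : Tr := .node (.node (.node (.node (.leaf (nat_lit 0x4de37cde378441))
  (.leaf (nat_lit 528)))
  (.leaf (nat_lit 0x4769da62b4ac29da76)))
  (.node (.leaf (nat_lit 51250))
  (.leaf (nat_lit 0x2b5c5615c22b5ed7))))
  (.node (.node (.leaf (nat_lit 687763430587919))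
  (.leaf (nat_lit 810241580643)))
  (.node (.leaf (nat_lit 741018306))
  (.leaf (nat_lit 5125))))
def t4zc_N_12 : Tr := .node (.node (.node (.node (.leaf (nat_lit 68675))
  (.leaf (nat_lit 10249)))
  (.leaf (nat_lit 24239714)))
  (.node (.leaf (nat_lit 691123848257))
  (.leaf (nat_lit 36564928567))))
  (.node (.node (.node (.leaf (nat_lit 522242529))
  (.leaf (nat_lit 692)))
  (.leaf (nat_lit 1832472259)))
  (.node (.leaf (nat_lit 36543483475))
  (.leaf (nat_lit 0x2c115c36bd822b5ed7))))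
def t4zc_N_13 : Tr := .node (.node (.node (.node (.leaf (nat_lit 0x24f849f28be507ca0f8be01))
  (.leaf (nat_lit 495)))
  (.leaf (nat_lit 659251265101399)))
  (.node (.leaf (nat_lit 2873422875713))
  (.leaf (nat_lit 0x88370d84115857))))
  (.node (.node (.leaf (nat_lit 624479825))
  (.leaf (nat_lit 1713098483)))
  (.node (.leaf (nat_lit 740035))
  (.leaf (nat_lit 132))))
def t4zc_N_14 : Tr := .node (.node (.node (.node (.leaf (nat_lit 36542908450))
  (.leaf (nat_lit 364)))
  (.leaf (nat_lit 791987062369)))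
  (.node (.leaf (nat_lit 708242))
  (.leaf (nat_lit 800126326759127))))
  (.node (.node (.node (.leaf (nat_lit 625250))
  (.leaf (nat_lit 759)))
  (.leaf (nat_lit 24202979)))
  (.node (.leaf (nat_lit 70417156691))
  (.leaf (nat_lit 1025))))
def t4zc_N_15 : Tr := .node (.node (.node (.node (.leaf (nat_lit 704143))
  (.leaf (nat_lit 17425)))
  (.leaf (nat_lit 0x11045795e41b8ee195e57)))
  (.node (.leaf (nat_lit 1697696355))
  (.leaf (nat_lit 0x2b5c22b06e1b5ed7))))
  (.node (.node (.leaf (nat_lit 705168))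
  (.leaf (nat_lit 643833645667)))
  (.node (.leaf (nat_lit 755698178))
  (.leaf (nat_lit 263))))
def t4zc_N_16 : Tr := .node (.node (.node (.node (.leaf (nat_lit 574000))
  (.leaf (nat_lit 232)))
  (.leaf (nat_lit 23679009857)))
  (.node (.leaf (nat_lit 726729793))
  (.leaf (nat_lit 794285918819))))
  (.node (.node (.node (.leaf (nat_lit 707219))
  (.leaf (nat_lit 18450)))
  (.leaf (nat_lit 739837635)))
  (.node (.leaf (nat_lit 1698236003))
  (.leaf (nat_lit 0x160dec1bd841b8ad7))))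
def t4zc_N_17 : Tr := .node (.node (.node (.node (.leaf (nat_lit 0x45e38be237c46f88de3))
  (.leaf (nat_lit 461)))
  (.leaf (nat_lit 2921367607)))
  (.node (.leaf (nat_lit 659052144))
  (.leaf (nat_lit 0x106d70dae1b5ed7))))
  (.node (.node (.node (.leaf (nat_lit 670668701199))
  (.leaf (nat_lit 0)))
  (.leaf (nat_lit 2272386659)))
  (.node (.leaf (nat_lit 54846851667))
  (.leaf (nat_lit 2050))))
def t4zc_N_18 : Tr := .node (.node (.node (.node (.leaf (nat_lit 48175))
  (.leaf (nat_lit 9226)))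
  (.leaf (nat_lit 790332961)))
  (.node (.leaf (nat_lit 741590321795))
  (.leaf (nat_lit 91948759))))
  (.node (.node (.node (.leaf (nat_lit 566467575297))
  (.leaf (nat_lit 661)))
  (.leaf (nat_lit 54817512035)))
  (.node (.leaf (nat_lit 55384788563))
  (.leaf (nat_lit 0x4c5698ad315a62b4c56))))
def t4zc_N_19 : Tr := .node (.node (.node (.node (.leaf (nat_lit 21427041848802))
  (.leaf (nat_lit 528)))
  (.leaf (nat_lit 0x1986769da62b0ec29da76)))
  (.node (.leaf (nat_lit 85075))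
  (.leaf (nat_lit 0x20daf615c22b5ed7))))
  (.node (.node (.leaf (nat_lit 2868014320705))
  (.leaf (nat_lit 809688981091)))
  (.node (.leaf (nat_lit 739025))
  (.leaf (nat_lit 165))))
def t4zc_N_20 : Tr := .node (.node (.node (.node (.leaf (nat_lit 560675))
  (.leaf (nat_lit 329)))
  (.leaf (nat_lit 771825)))
  (.node (.leaf (nat_lit 20050495056))
  (.leaf (nat_lit 59124712535))))
  (.node (.node (.node (.leaf (nat_lit 589842992))
  (.leaf (nat_lit 692)))
  (.leaf (nat_lit 23708392003)))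
  (.node (.leaf (nat_lit 1159792195))
  (.leaf (nat_lit 0x22b06f615c22b5ed7))))
def t4zc_N_21 : Tr := .node (.node (.node (.node (.leaf (nat_lit 0x49e37c86f1bc61))
  (.leaf (nat_lit 13326)))
  (.leaf (nat_lit 693369444096630)))
  (.node (.leaf (nat_lit 738300903041))
  (.leaf (nat_lit 0x8837106c208ad7))))
  (.node (.node (.leaf (nat_lit 624447056))
  (.leaf (nat_lit 1848237091)))
  (.node (.leaf (nat_lit 2252779145827))
  (.leaf (nat_lit 132))))
def t4zc_N_22 : Tr := .node (.node (.node (.node (.leaf (nat_lit 50225))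
  (.leaf (nat_lit 364)))
  (.leaf (nat_lit 24787354689)))
  (.node (.leaf (nat_lit 723601765499969))
  (.leaf (nat_lit 1170079418071))))
  (.node (.node (.node (.leaf (nat_lit 640625))
  (.leaf (nat_lit 22550)))
  (.leaf (nat_lit 37265016867)))
  (.node (.leaf (nat_lit 54829582931))
  (.leaf (nat_lit 33))))
def t4zc_N_23 : Tr := .node (.node (.node (.node (.leaf (nat_lit 690817))
  (.leaf (nat_lit 561)))
  (.leaf (nat_lit 0x11067795e41b8ae195e57)))
  (.node (.leaf (nat_lit 2803976803))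
  (.leaf (nat_lit 0x1158370dae1b5ed7))))
  (.node (.node (.leaf (nat_lit 658081))
  (.leaf (nat_lit 792475000419)))
  (.node (.leaf (nat_lit 754649570))
  (.leaf (nat_lit 6150))))
def t4zc_N_24 : Tr := .node (.node (.node (.node (.leaf (nat_lit 0x45f08be117c22f845f0))
  (.leaf (nat_lit 7176)))
  (.leaf (nat_lit 769775)))
  (.node (.leaf (nat_lit 626545232))
  (.leaf (nat_lit 59147650659))))
  (.node (.node (.node (.leaf (nat_lit 607825))
  (.leaf (nat_lit 627)))
  (.leaf (nat_lit 57235491)))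
  (.node (.leaf (nat_lit 1712934467))
  (.leaf (nat_lit 0x36b8ad70dae2b5ed7))))
def t4zc_N_25 : Tr := .node (.node (.node (.node (.leaf (nat_lit 18958434))
  (.leaf (nat_lit 430)))
  (.leaf (nat_lit 834244505754358)))
  (.node (.leaf (nat_lit 675000943681))
  (.leaf (nat_lit 0x15ae2b5c41b5ed7))))
  (.node (.node (.leaf (nat_lit 600861949474))
  (.leaf (nat_lit 20101848643)))
  (.node (.leaf (nat_lit 36560734259))
  (.leaf (nat_lit 99))))
def t4zc_N_26 : Tr := .node (.node (.node (.node (.leaf (nat_lit 49200))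
  (.leaf (nat_lit 395)))
  (.leaf (nat_lit 25336448097)))
  (.node (.leaf (nat_lit 741605001873))
  (.leaf (nat_lit 58038738007))))
  (.node (.node (.node (.leaf (nat_lit 635187052097))
  (.leaf (nat_lit 726)))
  (.leaf (nat_lit 54815033027)))
  (.node (.leaf (nat_lit 619617815123))
  (.leaf (nat_lit 0x88221ce42b865795ec29da76))))
def t4zc_N_27 : Tr := .node (.node (.node (.node (.leaf (nat_lit 0x117c26f84df38be707ce0f))
  (.leaf (nat_lit 16400)))
  (.leaf (nat_lit 0xa769da62b4ec29da76)))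
  (.node (.leaf (nat_lit 2689603))
  (.leaf (nat_lit 0x115ae1bdae1b5ed7))))
  (.node (.node (.leaf (nat_lit 616262396264994))
  (.leaf (nat_lit 54818594403)))
  (.node (.leaf (nat_lit 711319))
  (.leaf (nat_lit 198))))
def t4zc_N_28 : Tr := .node (.node (.node (.node (.leaf (nat_lit 35875))
  (.leaf (nat_lit 298)))
  (.leaf (nat_lit 788235745)))
  (.node (.leaf (nat_lit 535430842849))
  (.leaf (nat_lit 37247572054))))
  (.node (.node (.node (.leaf (nat_lit 19833276514))
  (.leaf (nat_lit 21524)))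
  (.leaf (nat_lit 23679553107)))
  (.node (.leaf (nat_lit 69861985875))
  (.leaf (nat_lit 0x2c1bd83715822b5ed7))))
def t4zc_N_29 : Tr := .node (.node (.node (.node (.leaf (nat_lit 639600))
  (.leaf (nat_lit 495)))
  (.leaf (nat_lit 0x19ca769da62b06c29da76)))
  (.node (.leaf (nat_lit 690619570783297))
  (.leaf (nat_lit 0x160dec20dec2b5ed7))))
  (.node (.node (.leaf (nat_lit 604097858096))
  (.leaf (nat_lit 19984517875)))
  (.node (.leaf (nat_lit 736975))
  (.leaf (nat_lit 4100))))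
def t4zc_N_30 : Tr := .node (.node (.node (.node (.leaf (nat_lit 0x882278de378de3))
  (.leaf (nat_lit 11276)))
  (.leaf (nat_lit 791416636481)))
  (.node (.leaf (nat_lit 675506))
  (.leaf (nat_lit 0x441b86c1b0457))))
  (.node (.node (.node (.leaf (nat_lit 590892592))
  (.leaf (nat_lit 759)))
  (.leaf (nat_lit 57728055)))
  (.node (.leaf (nat_lit 88100342355))
  (.leaf (nat_lit 66))))
def t4zc_N_31 : Tr := .node (.node (.node (.node (.leaf (nat_lit 22598192))
  (.leaf (nat_lit 594)))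
  (.leaf (nat_lit 0x65795e41bcae195e57)))
  (.node (.leaf (nat_lit 1160809059))
  (.leaf (nat_lit 0x115837b5c41b5ed7))))
  (.node (.node (.leaf (nat_lit 21550640))
  (.leaf (nat_lit 811466345059)))
  (.node (.leaf (nat_lit 756746786))
  (.leaf (nat_lit 263))))
def t4zc_N : Tr := .node (.node (.node (.node (.node t4zc_N_0
  t4zc_N_1)
  (.node t4zc_N_2
  t4zc_N_3))
  (.node (.node t4zc_N_4
  t4zc_N_5)
  (.node t4zc_N_6
  t4zc_N_7)))
  (.node (.node (.node t4zc_N_8
  t4zc_N_9)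
  (.node t4zc_N_10
  t4zc_N_11))
  (.node (.node t4zc_N_12
  t4zc_N_13)
  (.node t4zc_N_14
  t4zc_N_15))))
  (.node (.node (.node (.node t4zc_N_16
  t4zc_N_17)
  (.node t4zc_N_18
  t4zc_N_19))
  (.node (.node t4zc_N_20
  t4zc_N_21)
  (.node t4zc_N_22
  t4zc_N_23)))
  (.node (.node (.node t4zc_N_24
  t4zc_N_25)
  (.node t4zc_N_26
  t4zc_N_27))
  (.node (.node t4zc_N_28
  t4zc_N_29)
  (.node t4zc_N_30
  t4zc_N_31))))
noncomputable def t4zc : TC :=
  ⟨[.l 0, .l 1, .l 2, .l 3, .l 4, .l 5, .l 6, .l 7, .l 8, .l 9, .l 10, .l 11, .l 12, .l 13, .l 14, .l 15, .l 16, .l 17, .l 18, .l 19, .l 20, .l 21, .l 22, .l 23],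
    (nat_lit 9), (nat_lit 12), (nat_lit 0xbda959ca307b5cb62547418a418820), (nat_lit 2064399), (nat_lit 470), (nat_lit 7), (nat_lit 32), (nat_lit 33), (nat_lit 307),
    get (nat_lit 10) (nat_lit 0x400c0400c02010030080400c02010030080400c02010030080400c02010030080400c02010030080400c02010030080400c02010030080400c02010030080400c02010030080400c02010030080400c02010030080400c020500f03c0e0380e0380e0380e0340d0340d0340d0340d0340d0340c0300c0300c0300c02c0a024090200801808020080200802008020080200802008020080200701c0701c0701c0701c070180502008020080200701c0701c06018060181103c110440e03c0f0440e0440a0280c0280601c070200801c0701c060180601805010040100801c070180601806010060100401004024090200802008020080200802008020080200801c0701c0701c0701c0701c06014040100a02809020080200701806010040280902008020080200801c070180601806014040100a0280a02408020060180802008020060180401004020080200801c0601804010040100e01404010100440b024070101202c090140403c0e03008010040100401004010040100403c0a01006),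 Tr.get t4zc_N, get (nat_lit 20) (nat_lit 0x3ff003ff003ff003ff003ff003ff003ff003ff003ff003ff003ff003ff003ff003ff003ff003ff003ff003ff003ff003ff003ff003ff003ff003ff003ff003ff003ff003ff003ff003ff003ff003ff003ff003ff003ff003ff003ff003ff003ff003ff003ff003ff003ff003ff003ff003ff003ff003ff003ff003ff003ff003ff003ff003ff003ff003ff003ff003ff003ff003ff003ff003ff003ff003ff003ff003ff003ff003ff003ff003ff003ff000eb000ea000e9000e8000e7000e6000e5000e4000e3000e2000e1000e0000df000de000dd000dc000db000da000d9000d8000d7000d6000d5000d4000d3000d2000d1000d0000cf000ce000cd000cc000cb000ca000c9000c8000c7000c6000c5000c4000c3000c2000c1000c0000bf000be000bd000bc000bb000ba000b9000b8000b7000b6000b5000b4000b3000b2000b1000b0000af000ae000ad000ac000ab000aa000a9000a8000a7000a6000a5000a4000a3000a2000a1000a00009f0009e0009d0009c0009b0009a000990009800097000960009500094000930009200091000900008f0008e0008d0008c0008b0008a000890008800087000860008500084000830008200081000800007f0007e0007d000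7c0007b0007a000790007800077000760007500074000730007200071000700006f0006e0006d0006c0006b0006a000690006800067000660006500064000630006200061000600005f0005e0005d0005c0005b0005a000590005800057000560005500054000530005200051000500004f0004e0004d0004c0004b0004a000490004800047000460004500044000430004200041000400003f0003e0003d0003c0003b0003a000390003800037000360003500034000330003200031000300002f0002e0002d0002c0002b0002a000290002800027000260002500024000230002200021000200001f0001e0001d0001c0001b0001a000190001800017000160001500014000130001200011000100000f0000e0000d0000c0000b0000a00009000080000700006000050000400003000020000100000),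
    Tr.get3 t4zc_F (nat_lit 28) (nat_lit 5), Tr.get3 t4zc_T (nat_lit 9) (nat_lit 6), Tr.get t4zc_P⟩

theorem t4zc_head : t4zc.headOK (R4 ++ [.mul tor (.inv (.mul (.pow (.mul (.l 1) (.l 2)) 2) (.l 3)))]) iv = true := by decide +kernel

theorem t4zc_b0 : allFrom (nat_lit 0) (nat_lit 33) t4zc.blockOK = true := by decide +kernel

theorem t4zc_blocks : ∀ t < t4zc.k, t4zc.blockOK t = true :=
  (of_allFrom_append of_lt_zero t4zc_b0)

theorem t4zc_mem0 {G : Type*} [Group G] {γ : ℕ → G} (hL : Lab γ iv) (hr : ∀ t ∈ (R4 ++ [.mul tor (.inv (.mul (.pow (.mul (.l 1) (.l 2)) 2) (.l 3)))]), t.ev γ = 1) {K : Subgroup G}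
    (hK : ∀ t ∈ ([.l 1, .l 2, .l 3, .l 15, .l 16, .l 17, .l 18, .l 19, .l 20] : List W), t.ev γ ∈ K) :
    W.ev γ (.l 22) ∈ K :=
  TC.mem (D := t4zc) hL (List.forall_mem_cons.2 ⟨hL.zero_mem K, hK⟩) hr t4zc_head t4zc_blocks
    (n := (nat_lit 1)) (w := (nat_lit 22)) (st := (nat_lit 3038)) (by decide +kernel) (by decide +kernel)

def t4zc_loops : List W := [.l 22]

theorem t4zc_mems {G : Type*} [Group G] {γ : ℕ → G} (hL : Lab γ iv) (hr : ∀ t ∈ (R4 ++ [.mul tor (.inv (.mul (.pow (.mul (.l 1) (.l 2)) 2) (.l 3)))]), t.ev γ = 1) {K : Subgroup G}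
    (hK : ∀ t ∈ ([.l 1, .l 2, .l 3, .l 15, .l 16, .l 17, .l 18, .l 19, .l 20] : List W), t.ev γ ∈ K) :
    ∀ t ∈ t4zc_loops, t.ev γ ∈ K :=
  List.forall_mem_cons.2 ⟨t4zc_mem0 hL hr hK,
    fun _ h => absurd h List.not_mem_nil⟩


end Cfsg.Lib.T2.Z
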