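import Cfsg.Agent.Lib.T2.Rf

/-! The centraliser of a transvection in `L₅(2)`: model and facts (generated). -/

set_option autoImplicit false
set_option maxRecDepth 1000000
set_option maxHeartbeats 0

namespace Cfsg.Lib.T2.L

open Cfsg.Lib.Calc Cfsg.Lib.Grp Cfsg.Lib.T2

/-- all letters are involutions -/
def iv : ℕ := 9043225708576

/-- the letters of `C(z)` -/
def labH : List W := [.l 0, .l 1, .l 2, .l 3, .l 4, .l 5, .l 6]

/-- forget `s` and `v` -/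
abbrev res {G : Type*} [Group G] (γ : ℕ → G) : ℕ → G := newLet γ labH

/-- x₂₅ -/
abbrev uu {G : Type*} [Group G] (γ : ℕ → G) : G := γ 5 * (γ 3 * γ 4) ^ 2 * γ 5

/-- x₁₅ -/
abbrev zz {G : Type*} [Group G] (γ : ℕ → G) : G := (γ 1 * uu γ) ^ 2

/-- x₁₃ -/
abbrev nn {G : Type*} [Group G] (γ : ℕ → G) : G := γ 5 * γ 1 * γ 5

/-- x₂₄ -/
abbrev mm {G : Type*} [Group G] (γ : ℕ → G) : G := γ 5 * γ 3 * γ 5

/-- x₃₅ -/
abbrev pp {G : Type*} [Group G] (γ : ℕ → G) : G := (γ 3 * γ 4) ^ 2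

/-- x₁₄ -/
abbrev ee {G : Type*} [Group G] (γ : ℕ → G) : G := (γ 1 * mm γ) ^ 2

/-- x₁₄ x₂₅ -/
abbrev tt {G : Type*} [Group G] (γ : ℕ → G) : G := ee γ * uu γ

/-- an element of order 3 -/
abbrev yy {G : Type*} [Group G] (γ : ℕ → G) : G := γ 6 * γ 3

def hh_L0 : List (ℕ × List ℕ) := [((nat_lit 4), [(nat_lit 0xffbbcdeb38bdab49ca307b9ac5a928398a418820), (nat_lit 0xf7f9ddeb38b5e959ca3073d8d5a92831c8518820), (nat_lit 0xffbbcbdab4deb389ca307b9ac398a45a92818820), (nat_lit 0xf7f9dbdab4d6f199ca3073d8d398a452d0918820), (nat_lit 0xdeb38bdab4ffbbc9ca305a928398a47b9ac18820), (nat_lit 0xffbbc7b9acdeb385a928bdab4398a49ca3018820), (nat_lit 0xd6f19bdab4f7f9d9ca3052d09398a473d8d18820), (nat_lit 0xf7f9d7b9acd6f195a928b5e95398a494e1118820), (nat_lit 0xdeb387b9acffbbc5a9289ca30398a4bdab418820), (nat_lit 0xbdab47b9ac9ca305a928ffbbc398a4deb3818820), (nat_lit 0xd6f197b9acf7f9d5a92894e11398a4b5e9518820),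 (nat_lit 0xb5e957b9ac94e115a928f7f9d398a4d6f1918820), (nat_lit 0x9ca307b9acbdab45a928deb38398a4ffbbc18820), (nat_lit 0x94e117b9acb5e955a928d6f19398a4f7f9d18820)]),
  ((nat_lit 8), [(nat_lit 0xffbbcdeb38bdab49ca307b9ac5a928398a418820), (nat_lit 0xdeb38ffbbcbdab49ca305a9287b9ac398a418820), (nat_lit 0xd6f19f7f9dbdab49ca3052d0973d8d398a418820), (nat_lit 0xffbbcdeb387b9ac5a928bdab49ca30398a418820), (nat_lit 0xf7f9dd6f19bdab49ca3073d8d52d09398a418820), (nat_lit 0xdeb38ffbbc7b9ac5a9289ca30bdab4398a418820), (nat_lit 0xd6f19f7f9d7b9ac5a92894e11b5e95398a418820), (nat_lit 0xbdab49ca307b9ac5a928ffbbcdeb38398a418820), (nat_lit 0xf7f9dd6f197b9ac5a928b5e9594e11398a418820), (nat_lit 0x9ca30bdab47b9ac5a928deb38ffbbc398a418820), (nat_lit 0x94e11b5e957b9ac5a928d6f19f7f9d398a418820), (nat_lit 0xb5e9594e117b9ac5a928f7f9dd6f19398a418820)]),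
  ((nat_lit 16), [(nat_lit 0xffbbcdeb38bdab49ca307b9ac5a928398a418820), (nat_lit 0xbdab49ca30ffbbcdeb387b9ac5a928398a418820), (nat_lit 0x9ca30bdab4deb38ffbbc7b9ac5a928398a418820), (nat_lit 0x94e11b5e95d6f19f7f9d7b9ac5a928398a418820), (nat_lit 0xdeb38ffbbc9ca30bdab47b9ac5a928398a418820), (nat_lit 0xd6f19f7f9d94e11b5e957b9ac5a928398a418820), (nat_lit 0xf7f9dd6f19b5e9594e117b9ac5a928398a418820), (nat_lit 0xb5e9594e11f7f9dd6f197b9ac5a928398a418820)]),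
  ((nat_lit 2), [(nat_lit 0xffbbcdeb38bdab49ca307b9ac5a928398a418820), (nat_lit 0x7bbbc5ab3839ab418a30ff9acde928bd8a49c820), (nat_lit 0x39bbc18b387bab45aa30bd9ac9c928ff8a4de820), (nat_lit 0x18bbc39b385aab47ba309c9acbd928de8a4ff820), (nat_lit 0x10fbc31f3852eb473e3094dacb5d28d6ca4f7c20), (nat_lit 0xbdbbc9cb38ffab4dea30399ac189287b8a45a820), (nat_lit 0x9cbbcbdb38deab4ffa30189ac399285a8a47b820), (nat_lit 0x94fbcb5f38d6eb4f7e3010dac31d2852ca473c20), (nat_lit 0xdebbcffb389cab4bda305a9ac7b928188a439820), (nat_lit 0xd6fbcf7f3894eb4b5e3052dac73d2810ca431c20), (nat_lit 0xf7fbcd6f38b5eb494e3073dac52d2831ca410c20), (nat_lit 0x5abbc7bb3818ab439a30de9acff9289c8a4bd820), (nat_lit 0x52fbc73f3810eb431e30d6dacf7d2894ca4b5c20), (nat_lit 0x73fbc52f3831eb410e30f7dacd6d28b5ca494c20), (nat_lit 0x31fbc10f3873eb452e30b5dac94d28f7ca4d6c20), (nat_lit 0xb5fbc94f38f7eb4d6e3031dac10d2873ca452c20)])]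

def hh_D0 : List ℕ := [(nat_lit 0), (nat_lit 513), (nat_lit 2561), (nat_lit 84482), (nat_lit 102402), (nat_lit 113666), (nat_lit 134146), (nat_lit 146434), (nat_lit 172034), (nat_lit 198146), (nat_lit 229378), (nat_lit 259586), (nat_lit 293378), (nat_lit 349698), (nat_lit 0), (nat_lit 1025), (nat_lit 8718595), (nat_lit 3073), (nat_lit 1418295556), (nat_lit 588802), (nat_lit 638978), (nat_lit 689666), (nat_lit 745474), (nat_lit 800258), (nat_lit 858626), (nat_lit 951810), (nat_lit 0), (nat_lit 1537), (nat_lit 55312643), (nat_lit 61169411), (nat_lit 7115946244), (nat_lit 7709841156), (nat_lit 8575748868), (nat_lit 9774829316), (nat_lit 0), (nat_lit 2049), (nat_lit 128943363), (nat_lit 138970883), (nat_lit 149502211), (nat_lit 16892454148), (nat_lit 18019430148), (nat_lit 19195447556), (nat_lit 20893605636), (nat_lit 22200543492), (nat_lit 24098887940), (nat_lit 26686850820),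 (nat_lit 28258146564), (nat_lit 30528940292), (nat_lit 33615399172), (nat_lit 37636262148)]

def hh_L1 : List (ℕ × List ℕ) := [((nat_lit 16), [(nat_lit 0xffbbcdeb38bdab49ca307b9ac5a928398a418820), (nat_lit 0xbdab49ca30ffbbcdeb387b9ac5a928398a418820), (nat_lit 0xdeb38ffbbc9ca30bdab47b9ac5a928398a418820), (nat_lit 0xf7f9dd6f19b5e9594e117b9ac5a928398a418820), (nat_lit 0x9ca30bdab4deb38ffbbc7b9ac5a928398a418820), (nat_lit 0xb5e9594e11f7f9dd6f197b9ac5a928398a418820), (nat_lit 0xd6f19f7f9d94e11b5e957b9ac5a928398a418820), (nat_lit 0x94e11b5e95d6f19f7f9d7b9ac5a928398a418820)]),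
  ((nat_lit 2), [(nat_lit 0xffbbcdeb38bdab49ca307b9ac5a928398a418820), (nat_lit 0xbdbbc9cb38ffab4dea30399ac189287b8a45a820), (nat_lit 0xdebbcffb389cab4bda305a9ac7b928188a439820), (nat_lit 0xf7fbcd6f38b5eb494e3073dac52d2831ca410c20), (nat_lit 0x9cbbcbdb38deab4ffa30189ac399285a8a47b820), (nat_lit 0xb5fbc94f38f7eb4d6e3031dac10d2873ca452c20), (nat_lit 0xd6fbcf7f3894eb4b5e3052dac73d2810ca431c20), (nat_lit 0x94fbcb5f38d6eb4f7e3010dac31d2852ca473c20)])]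

def hh_D1 : List ℕ := [(nat_lit 0), (nat_lit 513), (nat_lit 1537), (nat_lit 2561), (nat_lit 91650), (nat_lit 100866), (nat_lit 122370), (nat_lit 160258), (nat_lit 0), (nat_lit 1025), (nat_lit 2049), (nat_lit 3073), (nat_lit 313346), (nat_lit 330754), (nat_lit 368642), (nat_lit 431106)]

def hh_L2 : List (ℕ × List ℕ) := [((nat_lit 4), [(nat_lit 0xffbbcdeb38bdab49ca307b9ac5a928398a418820), (nat_lit 0xf7f9ddeb38b5e959ca3073d8d5a92831c8518820)]),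
  ((nat_lit 8), [(nat_lit 0xffbbcdeb38bdab49ca307b9ac5a928398a418820), (nat_lit 0xdeb38ffbbcbdab49ca305a9287b9ac398a418820), (nat_lit 0xd6f19f7f9dbdab49ca3052d0973d8d398a418820), (nat_lit 0xf7f9dd6f19bdab49ca3073d8d52d09398a418820)]),
  ((nat_lit 16), [(nat_lit 0xffbbcdeb38bdab49ca307b9ac5a928398a418820), (nat_lit 0xbdab49ca30ffbbcdeb387b9ac5a928398a418820), (nat_lit 0x9ca30bdab4deb38ffbbc7b9ac5a928398a418820), (nat_lit 0x94e11b5e95d6f19f7f9d7b9ac5a928398a418820), (nat_lit 0xdeb38ffbbc9ca30bdab47b9ac5a928398a418820), (nat_lit 0xd6f19f7f9d94e11b5e957b9ac5a928398a418820), (nat_lit 0xf7f9dd6f19b5e9594e117b9ac5a928398a418820), (nat_lit 0xb5e9594e11f7f9dd6f197b9ac5a928398a418820)]),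
  ((nat_lit 2), [(nat_lit 0xffbbcdeb38bdab49ca307b9ac5a928398a418820), (nat_lit 0x7bbbc5ab3839ab418a30ff9acde928bd8a49c820), (nat_lit 0x39bbc18b387bab45aa30bd9ac9c928ff8a4de820), (nat_lit 0x18bbc39b385aab47ba309c9acbd928de8a4ff820), (nat_lit 0x10fbc31f3852eb473e3094dacb5d28d6ca4f7c20), (nat_lit 0xbdbbc9cb38ffab4dea30399ac189287b8a45a820), (nat_lit 0x9cbbcbdb38deab4ffa30189ac399285a8a47b820), (nat_lit 0x94fbcb5f38d6eb4f7e3010dac31d2852ca473c20), (nat_lit 0xdebbcffb389cab4bda305a9ac7b928188a439820), (nat_lit 0xd6fbcf7f3894eb4b5e3052dac73d2810ca431c20), (nat_lit 0xf7fbcd6f38b5eb494e3073dac52d2831ca410c20), (nat_lit 0x5abbc7bb3818ab439a30de9acff9289c8a4bd820), (nat_lit 0x52fbc73f3810eb431e30d6dacf7d2894ca4b5c20), (nat_lit 0x73fbc52f3831eb410e30f7dacd6d28b5ca494c20), (nat_lit 0x31fbc10f3873eb452e30b5dac94d28f7ca4d6c20), (nat_lit 0xb5fbc94f38f7eb4d6e3031dac10d2873ca452c20)])]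

def hh_D2 : List ℕ := [(nat_lit 0), (nat_lit 513), (nat_lit 0), (nat_lit 1025), (nat_lit 1017091), (nat_lit 34020612), (nat_lit 0), (nat_lit 1537), (nat_lit 2813187), (nat_lit 3660547), (nat_lit 169624836), (nat_lit 206099204), (nat_lit 266991364), (nat_lit 364350212), (nat_lit 0), (nat_lit 2049), (nat_lit 10930435), (nat_lit 12983043), (nat_lit 15269123), (nat_lit 1146722564), (nat_lit 1296749316), (nat_lit 1459322116), (nat_lit 1712579332), (nat_lit 1910824196), (nat_lit 2221980932), (nat_lit 2678299396), (nat_lit 2956262660), (nat_lit 3384941828), (nat_lit 4005711108), (nat_lit 4862967044)]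

def hh_L3 : List (ℕ × List ℕ) := [((nat_lit 8), [(nat_lit 0xffbbcdeb38bdab49ca307b9ac5a928398a418820), (nat_lit 0xdeb38ffbbcbdab49ca305a9287b9ac398a418820), (nat_lit 0xffbbcdeb387b9ac5a928bdab49ca30398a418820), (nat_lit 0xf7f9dd6f19bdab49ca3073d8d52d09398a418820), (nat_lit 0xdeb38ffbbc7b9ac5a9289ca30bdab4398a418820), (nat_lit 0xd6f19f7f9dbdab49ca3052d0973d8d398a418820), (nat_lit 0xbdab49ca307b9ac5a928ffbbcdeb38398a418820), (nat_lit 0xf7f9dd6f197b9ac5a928b5e9594e11398a418820), (nat_lit 0x9ca30bdab47b9ac5a928deb38ffbbc398a418820), (nat_lit 0xd6f19f7f9d7b9ac5a92894e11b5e95398a418820), (nat_lit 0xbdab49ca3073d8d52d09f7f9dd6f19398a418820), (nat_lit 0x9ca30bdab473d8d52d09d6f19f7f9d398a418820)]),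
  ((nat_lit 16), [(nat_lit 0xffbbcdeb38bdab49ca307b9ac5a928398a418820), (nat_lit 0xbdab49ca30ffbbcdeb387b9ac5a928398a418820), (nat_lit 0x9ca30bdab4deb38ffbbc7b9ac5a928398a418820), (nat_lit 0xf7f9dd6f19b5e9594e117b9ac5a928398a418820), (nat_lit 0xdeb38ffbbc9ca30bdab47b9ac5a928398a418820), (nat_lit 0xb5e9594e11f7f9dd6f197b9ac5a928398a418820), (nat_lit 0x94e11b5e95d6f19f7f9d7b9ac5a928398a418820), (nat_lit 0xd6f19f7f9d94e11b5e957b9ac5a928398a418820)]),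
  ((nat_lit 2), [(nat_lit 0xffbbcdeb38bdab49ca307b9ac5a928398a418820), (nat_lit 0x7bbbc5ab3839ab418a30ff9acde928bd8a49c820), (nat_lit 0x39bbc18b387bab45aa30bd9ac9c928ff8a4de820), (nat_lit 0x18bbc39b385aab47ba309c9acbd928de8a4ff820), (nat_lit 0x73fbc52f3831eb410e30f7dacd6d28b5ca494c20), (nat_lit 0xbdbbc9cb38ffab4dea30399ac189287b8a45a820), (nat_lit 0x9cbbcbdb38deab4ffa30189ac399285a8a47b820), (nat_lit 0xf7fbcd6f38b5eb494e3073dac52d2831ca410c20), (nat_lit 0xdebbcffb389cab4bda305a9ac7b928188a439820), (nat_lit 0xb5fbc94f38f7eb4d6e3031dac10d2873ca452c20), (nat_lit 0x94fbcb5f38d6eb4f7e3010dac31d2852ca473c20), (nat_lit 0x5abbc7bb3818ab439a30de9acff9289c8a4bd820), (nat_lit 0x31fbc10f3873eb452e30b5dac94d28f7ca4d6c20), (nat_lit 0x10fbc31f3852eb473e3094dacb5d28d6ca4f7c20), (nat_lit 0x52fbc73f3810eb431e30d6dacf7d2894ca4b5c20), (nat_lit 0xd6fbcf7f3894eb4b5e3052dac73d2810ca431c20)])]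

def hh_D3 : List ℕ := [(nat_lit 0), (nat_lit 513), (nat_lit 2049), (nat_lit 2561), (nat_lit 73730), (nat_lit 81410), (nat_lit 99330), (nat_lit 121858), (nat_lit 144386), (nat_lit 171010), (nat_lit 199170), (nat_lit 246274), (nat_lit 0), (nat_lit 1025), (nat_lit 5779203), (nat_lit 7337219), (nat_lit 835657476), (nat_lit 955673860), (nat_lit 1142026500), (nat_lit 1418372356), (nat_lit 0), (nat_lit 1537), (nat_lit 30603011), (nat_lit 34546947), (nat_lit 38810371), (nat_lit 3332145924), (nat_lit 3665930500), (nat_lit 4021292804), (nat_lit 4555161860), (nat_lit 4970051332), (nat_lit 5597846276), (nat_lit 6487913732), (nat_lit 7029658372), (nat_lit 7840605956), (nat_lit 8981842692), (nat_lit 10517548804)]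

def hh_L4 : List (ℕ × List ℕ) := [((nat_lit 8), [(nat_lit 0xffbbcdeb38bdab49ca307b9ac5a928398a418820), (nat_lit 0xdeb38ffbbcbdab49ca305a9287b9ac398a418820), (nat_lit 0xf7f9dd6f19bdab49ca3073d8d52d09398a418820), (nat_lit 0xd6f19f7f9dbdab49ca3052d0973d8d398a418820)]),
  ((nat_lit 16), [(nat_lit 0xffbbcdeb38bdab49ca307b9ac5a928398a418820), (nat_lit 0xbdab49ca30ffbbcdeb387b9ac5a928398a418820), (nat_lit 0x9ca30bdab4deb38ffbbc7b9ac5a928398a418820), (nat_lit 0xb5e9594e11f7f9dd6f197b9ac5a928398a418820), (nat_lit 0xdeb38ffbbc9ca30bdab47b9ac5a928398a418820), (nat_lit 0xf7f9dd6f19b5e9594e117b9ac5a928398a418820), (nat_lit 0xd6f19f7f9d94e11b5e957b9ac5a928398a418820), (nat_lit 0x94e11b5e95d6f19f7f9d7b9ac5a928398a418820)]),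
  ((nat_lit 2), [(nat_lit 0xffbbcdeb38bdab49ca307b9ac5a928398a418820), (nat_lit 0x7bbbc5ab3839ab418a30ff9acde928bd8a49c820), (nat_lit 0x39bbc18b387bab45aa30bd9ac9c928ff8a4de820), (nat_lit 0x18bbc39b385aab47ba309c9acbd928de8a4ff820), (nat_lit 0x31fbc10f3873eb452e30b5dac94d28f7ca4d6c20), (nat_lit 0xbdbbc9cb38ffab4dea30399ac189287b8a45a820), (nat_lit 0x9cbbcbdb38deab4ffa30189ac399285a8a47b820), (nat_lit 0xb5fbc94f38f7eb4d6e3031dac10d2873ca452c20), (nat_lit 0xdebbcffb389cab4bda305a9ac7b928188a439820), (nat_lit 0xf7fbcd6f38b5eb494e3073dac52d2831ca410c20), (nat_lit 0xd6fbcf7f3894eb4b5e3052dac73d2810ca431c20), (nat_lit 0x5abbc7bb3818ab439a30de9acff9289c8a4bd820), (nat_lit 0x73fbc52f3831eb410e30f7dacd6d28b5ca494c20), (nat_lit 0x52fbc73f3810eb431e30d6dacf7d2894ca4b5c20), (nat_lit 0x10fbc31f3852eb473e3094dacb5d28d6ca4f7c20), (nat_lit 0x94fbcb5f38d6eb4f7e3010dac31d2852ca473c20)])]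

def hh_D4 : List ℕ := [(nat_lit 0), (nat_lit 513), (nat_lit 2049), (nat_lit 51202), (nat_lit 0), (nat_lit 1025), (nat_lit 1512707), (nat_lit 2092803), (nat_lit 92095748), (nat_lit 115236612), (nat_lit 155324164), (nat_lit 221810436), (nat_lit 0), (nat_lit 1537), (nat_lit 7457027), (nat_lit 9078531), (nat_lit 10908931), (nat_lit 795041028), (nat_lit 909042436), (nat_lit 1033451780), (nat_lit 1230162692), (nat_lit 1384534276), (nat_lit 1630436612), (nat_lit 1995892484), (nat_lit 2218505476), (nat_lit 2565832964), (nat_lit 3074317572), (nat_lit 3783366916)]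

def hh_L5 : List (ℕ × List ℕ) := [((nat_lit 8), [(nat_lit 0xffbbcdeb38bdab49ca307b9ac5a928398a418820), (nat_lit 0xdeb38ffbbcbdab49ca305a9287b9ac398a418820), (nat_lit 0xf7f9dd6f19bdab49ca3073d8d52d09398a418820), (nat_lit 0xd6f19f7f9dbdab49ca3052d0973d8d398a418820)]),
  ((nat_lit 16), [(nat_lit 0xffbbcdeb38bdab49ca307b9ac5a928398a418820), (nat_lit 0xdeb38ffbbc9ca30bdab47b9ac5a928398a418820), (nat_lit 0xf7f9dd6f19b5e9594e117b9ac5a928398a418820), (nat_lit 0xd6f19f7f9d94e11b5e957b9ac5a928398a418820)]),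
  ((nat_lit 2), [(nat_lit 0xffbbcdeb38bdab49ca307b9ac5a928398a418820), (nat_lit 0xdebbcffb389cab4bda305a9ac7b928188a439820), (nat_lit 0xf7fbcd6f38b5eb494e3073dac52d2831ca410c20), (nat_lit 0xd6fbcf7f3894eb4b5e3052dac73d2810ca431c20)])]

def hh_D5 : List ℕ := [(nat_lit 0), (nat_lit 513), (nat_lit 1025), (nat_lit 82946), (nat_lit 0), (nat_lit 1537), (nat_lit 2049), (nat_lit 174082), (nat_lit 0), (nat_lit 2561), (nat_lit 3073), (nat_lit 297986)]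

def hh_L6 : List (ℕ × List ℕ) := [((nat_lit 4), [(nat_lit 0xffbbcdeb38bdab49ca307b9ac5a928398a418820), (nat_lit 0xf7f9ddeb38b5e959ca3073d8d5a92831c8518820)]),
  ((nat_lit 2), [(nat_lit 0xffbbcdeb38bdab49ca307b9ac5a928398a418820), (nat_lit 0x7bbbc5ab3839ab418a30ff9acde928bd8a49c820), (nat_lit 0xbdbbc9cb38ffab4dea30399ac189287b8a45a820), (nat_lit 0xdebbcffb389cab4bda305a9ac7b928188a439820), (nat_lit 0x7bb9d5ab1939a9518a11f7dacd6d28b5ca494c20), (nat_lit 0x39bbc18b387bab45aa30bd9ac9c928ff8a4de820), (nat_lit 0x5abbc7bb3818ab439a30de9acff9289c8a4bd820), (nat_lit 0xbdb9d9cb19f7eb4d6e303998d1890973ca452c20), (nat_lit 0x9cbbcbdb38deab4ffa30189ac399285a8a47b820), (nat_lit 0xffb9ddeb19bda959ca1173dac52d2831ca410c20), (nat_lit 0x39b9d18b197ba955aa11b5dac94d28f7ca4d6c20), (nat_lit 0x5ab9d7bb1918a9539a11d6dacf7d2894ca4b5c20), (nat_lit 0x18bbc39b385aab47ba309c9acbd928de8a4ff820), (nat_lit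 0x9cb9dbdb19d6eb4f7e301898d3990952ca473c20), (nat_lit 0xdeb9dffb199ca95bda1152dac73d2810ca431c20), (nat_lit 0x18b9d39b195aa957ba1194dacb5d28d6ca4f7c20)]),
  ((nat_lit 8), [(nat_lit 0xffbbcdeb38bdab49ca307b9ac5a928398a418820), (nat_lit 0xf7f9dd6f19bdab49ca3073d8d52d09398a418820)]),
  ((nat_lit 16), [(nat_lit 0xffbbcdeb38bdab49ca307b9ac5a928398a418820), (nat_lit 0xf7f9dd6f19b5e9594e117b9ac5a928398a418820)])]

def hh_D6 : List ℕ := [(nat_lit 0), (nat_lit 513), (nat_lit 0), (nat_lit 1025), (nat_lit 2049), (nat_lit 2561), (nat_lit 136194), (nat_lit 145410), (nat_lit 156162), (nat_lit 181762), (nat_lit 194050), (nat_lit 240642), (nat_lit 254978), (nat_lit 268802), (nat_lit 303618), (nat_lit 363010), (nat_lit 426498), (nat_lit 469506), (nat_lit 0), (nat_lit 1537), (nat_lit 0), (nat_lit 3073)]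

def hh_L7 : List (ℕ × List ℕ) := [((nat_lit 4), [(nat_lit 0xffbbcdeb38bdab49ca307b9ac5a928398a418820), (nat_lit 0xdeb38bdab45a928398a4ffbbc9ca307b9ac18820), (nat_lit 0x7b9acffbbcdeb385a928398a4bdab49ca3018820), (nat_lit 0xbdab45a9289ca307b9acdeb38398a4ffbbc18820), (nat_lit 0x398a47b9acffbbcbdab49ca30deb385a92818820), (nat_lit 0x5a9289ca30398a4ffbbcbdab47b9acdeb3818820), (nat_lit 0x9ca30398a47b9acdeb385a928ffbbcbdab418820)])]

def hh_D7 : List ℕ := [(nat_lit 0), (nat_lit 513), (nat_lit 769), (nat_lit 15874), (nat_lit 25346), (nat_lit 36354), (nat_lit 49922)]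

def hh_L8 : List (ℕ × List ℕ) := [((nat_lit 4), [(nat_lit 0xffbbcdeb38bdab49ca307b9ac5a928398a418820), (nat_lit 0xf7f9ddeb38b5e959ca3073d8d5a92831c8518820)]),
  ((nat_lit 16), [(nat_lit 0xffbbcdeb38bdab49ca307b9ac5a928398a418820), (nat_lit 0xbdab49ca30ffbbcdeb387b9ac5a928398a418820), (nat_lit 0xffbbcdeb387b9ac5a928bdab49ca30398a418820)]),
  ((nat_lit 2), [(nat_lit 0xffbbcdeb38bdab49ca307b9ac5a928398a418820), (nat_lit 0x7bbbc5ab3839ab418a30ff9acde928bd8a49c820), (nat_lit 0x39bbc18b387bab45aa30bd9ac9c928ff8a4de820), (nat_lit 0xbdbbc9cb38ffab4dea30399ac189287b8a45a820)]),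
  ((nat_lit 8), [(nat_lit 0xffbbcdeb38bdab49ca307b9ac5a928398a418820), (nat_lit 0x7b9ac5a928bdab49ca30ffbbcdeb38398a418820)])]

def hh_D8 : List ℕ := [(nat_lit 0), (nat_lit 513), (nat_lit 0), (nat_lit 1025), (nat_lit 2049), (nat_lit 0), (nat_lit 1537), (nat_lit 2400515), (nat_lit 101801220), (nat_lit 0), (nat_lit 3752195)]

def hh_L9 : List (ℕ × List ℕ) := [((nat_lit 2), [(nat_lit 0xffbbcdeb38bdab49ca307b9ac5a928398a418820), (nat_lit 0x7bbbc5ab3839ab418a30ff9acde928bd8a49c820)]),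
  ((nat_lit 8), [(nat_lit 0xffbbcdeb38bdab49ca307b9ac5a928398a418820), (nat_lit 0xdeb38ffbbcbdab49ca305a9287b9ac398a418820), (nat_lit 0xffbbcbdab4deb389ca307b9ac398a45a92818820), (nat_lit 0xdeb38f7f9db5e959ca305a92873d8d31c8518820), (nat_lit 0xf7f9db5e95deb389ca3073d8d31c855a92818820), (nat_lit 0xffbbcd6f19b5e959ca307b9ac52d0931c8518820)]),
  ((nat_lit 4), [(nat_lit 0xffbbcdeb38bdab49ca307b9ac5a928398a418820), (nat_lit 0xf7f9ddeb38b5e959ca3073d8d5a92831c8518820), (nat_lit 0xbdab4deb38ffbbc9ca30398a45a9287b9ac18820), (nat_lit 0xb5e95deb38f7f9d9ca3031c855a92873d8d18820)])]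

def hh_D9 : List ℕ := [(nat_lit 0), (nat_lit 513), (nat_lit 0), (nat_lit 1025), (nat_lit 2049), (nat_lit 83458), (nat_lit 102914), (nat_lit 123906), (nat_lit 0), (nat_lit 1537), (nat_lit 3752195), (nat_lit 239145220)]

def hh_L10 : List (ℕ × List ℕ) := [((nat_lit 8), [(nat_lit 0xffbbcdeb38bdab49ca307b9ac5a928398a418820), (nat_lit 0xdeb38ffbbcbdab49ca305a9287b9ac398a418820), (nat_lit 0xf7f9dd6f19bdab49ca3073d8d52d09398a418820), (nat_lit 0xd6f19f7f9dbdab49ca3052d0973d8d398a418820)]),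
  ((nat_lit 16), [(nat_lit 0xffbbcdeb38bdab49ca307b9ac5a928398a418820), (nat_lit 0xbdab49ca30ffbbcdeb387b9ac5a928398a418820), (nat_lit 0x9ca30bdab4deb38ffbbc7b9ac5a928398a418820), (nat_lit 0xb5e9594e11f7f9dd6f197b9ac5a928398a418820), (nat_lit 0xdeb38ffbbc9ca30bdab47b9ac5a928398a418820), (nat_lit 0xf7f9dd6f19b5e9594e117b9ac5a928398a418820), (nat_lit 0xd6f19f7f9d94e11b5e957b9ac5a928398a418820), (nat_lit 0x94e11b5e95d6f19f7f9d7b9ac5a928398a418820)]),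
  ((nat_lit 2), [(nat_lit 0xffbbcdeb38bdab49ca307b9ac5a928398a418820), (nat_lit 0xbdbbc9cb38ffab4dea30399ac189287b8a45a820), (nat_lit 0x9cbbcbdb38deab4ffa30189ac399285a8a47b820), (nat_lit 0xb5fbc94f38f7eb4d6e3031dac10d2873ca452c20), (nat_lit 0xdebbcffb389cab4bda305a9ac7b928188a439820), (nat_lit 0xf7fbcd6f38b5eb494e3073dac52d2831ca410c20), (nat_lit 0xd6fbcf7f3894eb4b5e3052dac73d2810ca431c20), (nat_lit 0x94fbcb5f38d6eb4f7e3010dac31d2852ca473c20)])]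

def hh_D10 : List ℕ := [(nat_lit 0), (nat_lit 513), (nat_lit 1537), (nat_lit 50690), (nat_lit 0), (nat_lit 1025), (nat_lit 1512707), (nat_lit 2092803), (nat_lit 92095748), (nat_lit 115236612), (nat_lit 155324164), (nat_lit 221810436), (nat_lit 0), (nat_lit 2049), (nat_lit 4517123), (nat_lit 5820163), (nat_lit 688303364), (nat_lit 792088324), (nat_lit 954566404), (nat_lit 1197444868)]

def hh_L11 : List (ℕ × List ℕ) := [((nat_lit 2), [(nat_lit 0xffbbcdeb38bdab49ca307b9ac5a928398a418820), (nat_lit 0x7bbbc5ab3839ab418a30ff9acde928bd8a49c820), (nat_lit 0xbdbbc9cb38ffab4dea30399ac189287b8a45a820), (nat_lit 0xdebbcffb389cab4bda305a9ac7b928188a439820), (nat_lit 0xf7fbcd6f38b5eb494e3073dac52d2831ca410c20), (nat_lit 0x39bbc18b387bab45aa30bd9ac9c928ff8a4de820), (nat_lit 0x5abbc7bb3818ab439a30de9acff9289c8a4bd820), (nat_lit 0x73fbc52f3831eb410e30f7dacd6d28b5ca494c20), (nat_lit 0x9cbbcbdb38deab4ffa30189ac399285a8a47b820),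 (nat_lit 0xb5fbc94f38f7eb4d6e3031dac10d2873ca452c20), (nat_lit 0xd6fbcf7f3894eb4b5e3052dac73d2810ca431c20), (nat_lit 0x18bbc39b385aab47ba309c9acbd928de8a4ff820), (nat_lit 0x31fbc10f3873eb452e30b5dac94d28f7ca4d6c20), (nat_lit 0x52fbc73f3810eb431e30d6dacf7d2894ca4b5c20), (nat_lit 0x94fbcb5f38d6eb4f7e3010dac31d2852ca473c20), (nat_lit 0x10fbc31f3852eb473e3094dacb5d28d6ca4f7c20)])]

def hh_D11 : List ℕ := [(nat_lit 0), (nat_lit 513), (nat_lit 1025), (nat_lit 1537), (nat_lit 2049), (nat_lit 62466), (nat_lit 69122), (nat_lit 75778), (nat_lit 94722), (nat_lit 102402), (nat_lit 124930), (nat_lit 165378), (nat_lit 176130), (nat_lit 204802), (nat_lit 254978), (nat_lit 329730)]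

def hh_L12 : List (ℕ × List ℕ) := [((nat_lit 4), [(nat_lit 0xffbbcdeb38bdab49ca307b9ac5a928398a418820), (nat_lit 0xf7f9ddeb38b5e959ca3073d8d5a92831c8518820), (nat_lit 0xffbbcbdab4deb389ca307b9ac398a45a92818820), (nat_lit 0xf7f9dbdab4d6f199ca3073d8d398a452d0918820), (nat_lit 0xdeb38bdab4ffbbc9ca305a928398a47b9ac18820), (nat_lit 0xd6f19bdab4f7f9d9ca3052d09398a473d8d18820)]),
  ((nat_lit 8), [(nat_lit 0xffbbcdeb38bdab49ca307b9ac5a928398a418820), (nat_lit 0xdeb38ffbbcbdab49ca305a9287b9ac398a418820), (nat_lit 0xd6f19f7f9dbdab49ca3052d0973d8d398a418820), (nat_lit 0xf7f9dd6f19bdab49ca3073d8d52d09398a418820)]),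
  ((nat_lit 16), [(nat_lit 0xffbbcdeb38bdab49ca307b9ac5a928398a418820), (nat_lit 0xbdab49ca30ffbbcdeb387b9ac5a928398a418820), (nat_lit 0x9ca30bdab4deb38ffbbc7b9ac5a928398a418820), (nat_lit 0x94e11b5e95d6f19f7f9d7b9ac5a928398a418820), (nat_lit 0xdeb38ffbbc9ca30bdab47b9ac5a928398a418820), (nat_lit 0xd6f19f7f9d94e11b5e957b9ac5a928398a418820), (nat_lit 0xf7f9dd6f19b5e9594e117b9ac5a928398a418820), (nat_lit 0xb5e9594e11f7f9dd6f197b9ac5a928398a418820)]),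
  ((nat_lit 2), [(nat_lit 0xffbbcdeb38bdab49ca307b9ac5a928398a418820), (nat_lit 0x7bbbc5ab3839ab418a30ff9acde928bd8a49c820), (nat_lit 0x39bbc18b387bab45aa30bd9ac9c928ff8a4de820), (nat_lit 0x18bbc39b385aab47ba309c9acbd928de8a4ff820), (nat_lit 0x10fbc31f3852eb473e3094dacb5d28d6ca4f7c20), (nat_lit 0xbdbbc9cb38ffab4dea30399ac189287b8a45a820), (nat_lit 0x9cbbcbdb38deab4ffa30189ac399285a8a47b820), (nat_lit 0x94fbcb5f38d6eb4f7e3010dac31d2852ca473c20), (nat_lit 0xdebbcffb389cab4bda305a9ac7b928188a439820), (nat_lit 0xd6fbcf7f3894eb4b5e3052dac73d2810ca431c20), (nat_lit 0xf7fbcd6f38b5eb494e3073dac52d2831ca410c20), (nat_lit 0x5abbc7bb3818ab439a30de9acff9289c8a4bd820), (nat_lit 0x52fbc73f3810eb431e30d6dacf7d2894ca4b5c20), (nat_lit 0x73fbc52f3831eb410e30f7dacd6d28b5ca494c20), (nat_lit 0x31fbc10f3873eb452e30b5dac94d28f7ca4d6c20), (nat_lit 0xb5fbc94f38f7eb4d6e3031dac10d2873ca452c20)])]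

def hh_D12 : List ℕ := [(nat_lit 0), (nat_lit 513), (nat_lit 2561), (nat_lit 67074), (nat_lit 82946), (nat_lit 102402), (nat_lit 0), (nat_lit 1025), (nat_lit 2842371), (nat_lit 182972164), (nat_lit 0), (nat_lit 1537), (nat_lit 8688387), (nat_lit 10416387), (nat_lit 567773956), (nat_lit 657578244), (nat_lit 799008004), (nat_lit 1011966212), (nat_lit 0), (nat_lit 2049), (nat_lit 23651075), (nat_lit 26993923), (nat_lit 30631683), (nat_lit 2526841604), (nat_lit 2798109956), (nat_lit 3088129796), (nat_lit 3527550212), (nat_lit 3869667076), (nat_lit 4391839492), (nat_lit 5138175236), (nat_lit 5592573700), (nat_lit 6277672708), (nat_lit 7248537348), (nat_lit 8563326724)]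

def hh_L13 : List (ℕ × List ℕ) := [((nat_lit 8), [(nat_lit 0xffbbcdeb38bdab49ca307b9ac5a928398a418820), (nat_lit 0xdeb38ffbbcbdab49ca305a9287b9ac398a418820), (nat_lit 0xf7f9dd6f19bdab49ca3073d8d52d09398a418820), (nat_lit 0xd6f19f7f9dbdab49ca3052d0973d8d398a418820)]),
  ((nat_lit 16), [(nat_lit 0xffbbcdeb38bdab49ca307b9ac5a928398a418820), (nat_lit 0xbdab49ca30ffbbcdeb387b9ac5a928398a418820), (nat_lit 0x9ca30bdab4deb38ffbbc7b9ac5a928398a418820), (nat_lit 0xdeb38ffbbc9ca30bdab47b9ac5a928398a418820), (nat_lit 0x18a3031e955ab3873f9df7d8dde928b5c859c820), (nat_lit 0x5ab3873f9d18a3031e95f7d8dde928b5c859c820), (nat_lit 0x18bbc31f195aab473e1194d8dbd928d6c85ff820), (nat_lit 0x5aab473e1118bbc31f1994d8dbd928d6c85ff820)]),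
  ((nat_lit 2), [(nat_lit 0xffbbcdeb38bdab49ca307b9ac5a928398a418820), (nat_lit 0x73f9d5ab3831e9518a30f7d8dde928b5c859c820), (nat_lit 0x9cbbcbdb38deab4ffa30189ac399285a8a47b820), (nat_lit 0x31f9d18b3873e955aa30b5d8d9c928f7c85de820), (nat_lit 0x10f9d39b3852e957ba3094d8dbd928d6c85ff820), (nat_lit 0xbdbbc9cb38ffab4dea30399ac189287b8a45a820), (nat_lit 0x18b9d31f385aa9573e309c98db5d28de885f7c20), (nat_lit 0x5ab9d73f3818a9531e30de98df7d289c885b5c20), (nat_lit 0x52f9d7bb3810e9539a30d6d8dff92894c85bd820), (nat_lit 0x94fbcb5f38d6eb4f7e3010dac31d2852ca473c20), (nat_lit 0xd6fbcf7f3894eb4b5e3052dac73d2810ca431c20), (nat_lit 0xdebbcffb389cab4bda305a9ac7b928188a439820), (nat_lit 0x7bb9d52f3839a9510e30ff98dd6d28bd88594c20), (nat_lit 0x39b9d10f387ba9552e30bd98d94d28ff885d6c20), (nat_lit 0xf7fbcd6f38b5eb494e3073dac52d2831ca410c20), (nat_lit 0xb5fbc94f38f7eb4d6e3031dac10d2873ca452c20)])]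

def hh_D13 : List ℕ := [(nat_lit 0), (nat_lit 513), (nat_lit 1537), (nat_lit 66050), (nat_lit 0), (nat_lit 1025), (nat_lit 2092803), (nat_lit 101441284), (nat_lit 174594), (nat_lit 202242), (nat_lit 238587652), (nat_lit 306036484), (nat_lit 0), (nat_lit 2561), (nat_lit 5820163), (nat_lit 10048259), (nat_lit 835702532), (nat_lit 958925572), (nat_lit 494082), (nat_lit 1294213892), (nat_lit 1521618692), (nat_lit 610818), (nat_lit 1995949828), (nat_lit 2309818116), (nat_lit 2667237124), (nat_lit 3064506116), (nat_lit 3638693636), (nat_lit 4137293572)]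

def hh : PM :=
  ⟨(nat_lit 32), (nat_lit 5), [(nat_lit 0xf7f9ddeb38b5e959ca3073d8d5a92831c8518820), (nat_lit 0xdeb38ffbbcbdab49ca305a9287b9ac398a418820), (nat_lit 0xbdab49ca30ffbbcdeb387b9ac5a928398a418820), (nat_lit 0x7bbbc5ab3839ab418a30ff9acde928bd8a49c820), (nat_lit 0xffbbcbdab4deb389ca307b9ac398a45a92818820), (nat_lit 0xffbbcdeb387b9ac5a928bdab49ca30398a418820)],
    [[.l 1, .l 2, .l 3, .l 4, .l 5, .l 6],
    [.l 3, .pow (.mul (.l 3) (.l 4)) 2, .pow (.mul (.l 2) (.l 3)) 2, .pow (.mul (.l 2) (.pow (.mul (.l 3) (.l 4)) 2)) 2, .pow (.mul (.mul (.mul (.l 5) (.l 1)) (.l 5)) (.l 3)) 2, .pow (.mul (.mul (.mul (.l 5) (.l 1)) (.l 5)) (.pow (.mul (.l 3) (.l 4)) 2)) 2],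
    [.l 1, .l 2, .l 3, .l 4],
    [.l 2, .l 3, .l 4, .l 6, .mul (.mul (.l 5) (.l 1)) (.l 5)],
    [.l 2, .l 3, .l 4, .mul (.mul (.l 5) (.l 1)) (.l 5)],
    [.l 2, .pow (.mul (.l 2) (.l 1)) 2, .pow (.mul (.l 3) (.l 2)) 2, .pow (.mul (.l 3) (.pow (.mul (.l 2) (.l 1)) 2)) 2, .pow (.mul (.mul (.mul (.l 6) (.l 4)) (.l 6)) (.l 2)) 2, .pow (.mul (.mul (.mul (.l 6) (.l 4)) (.l 6)) (.pow (.mul (.l 2) (.l 1)) 2)) 2],
    [.l 1, .l 4, .mul (.mul (.l 5) (.l 1)) (.l 5), .pow (.mul (.l 3) (.l 4)) 2, .mul (.mul (.l 5) (.pow (.mul (.l 3) (.l 4)) 2)) (.l 5), .pow (.mul (.l 1) (.mul (.mul (.l 5) (.l 3)) (.l 5))) 2],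
    [.mul (.mul (.l 2) (.l 5)) (.l 6)],
    [.l 1, .l 3, .l 4, .l 6],
    [.l 4, .l 2, .l 1, .l 5],
    [.l 2, .l 3, .mul (.mul (.l 5) (.l 1)) (.l 5), .pow (.mul (.l 3) (.l 4)) 2],
    [.l 4, .pow (.mul (.l 3) (.l 4)) 2, .mul (.mul (.l 5) (.pow (.mul (.l 3) (.l 4)) 2)) (.l 5), .pow (.mul (.l 1) (.mul (.mul (.l 5) (.pow (.mul (.l 3) (.l 4)) 2)) (.l 5))) 2],
    [.l 1, .l 2, .l 3, .l 4, .l 5],
    [.l 2, .l 3, .mul (.mul (.l 5) (.l 1)) (.l 5), .pow (.mul (.l 3) (.l 4)) 2, .mul (.l 1) (.l 4)]],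
    [hh_L0, hh_L1, hh_L2, hh_L3, hh_L4, hh_L5, hh_L6, hh_L7, hh_L8, hh_L9, hh_L10, hh_L11, hh_L12, hh_L13], [hh_D0, hh_D1, hh_D2, hh_D3, hh_D4, hh_D5, hh_D6, hh_D7, hh_D8, hh_D9, hh_D10, hh_D11, hh_D12, hh_D13]⟩

instance hh_ne : NeZero hh.n := ⟨by decide⟩

theorem hh_ok0 : hh.ok0 = true := by decide +kernel

theorem hh_k0 : allFrom (nat_lit 0) (nat_lit 1) hh.okK = true := by decide +kernel

theorem hh_k1 : allFrom (nat_lit 1) (nat_lit 1) hh.okK = true := by decide +kernel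

theorem hh_k2 : allFrom (nat_lit 2) (nat_lit 1) hh.okK = true := by decide +kernel

theorem hh_k3 : allFrom (nat_lit 3) (nat_lit 1) hh.okK = true := by decide +kernel

theorem hh_k4 : allFrom (nat_lit 4) (nat_lit 1) hh.okK = true := by decide +kernel

theorem hh_k5 : allFrom (nat_lit 5) (nat_lit 1) hh.okK = true := by decide +kernel

theorem hh_k6 : allFrom (nat_lit 6) (nat_lit 1) hh.okK = true := by decide +kernel

theorem hh_k7 : allFrom (nat_lit 7) (nat_lit 1) hh.okK = true := by decide +kernel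

theorem hh_k8 : allFrom (nat_lit 8) (nat_lit 1) hh.okK = true := by decide +kernel

theorem hh_k9 : allFrom (nat_lit 9) (nat_lit 1) hh.okK = true := by decide +kernel

theorem hh_k10 : allFrom (nat_lit 10) (nat_lit 1) hh.okK = true := by decide +kernel

theorem hh_k11 : allFrom (nat_lit 11) (nat_lit 1) hh.okK = true := by decide +kernel

theorem hh_k12 : allFrom (nat_lit 12) (nat_lit 1) hh.okK = true := by decide +kernel

theorem hh_k13 : allFrom (nat_lit 13) (nat_lit 1) hh.okK = true := by decide +kernel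

theorem hh_ok : hh.OK := PM.OK.of_check hh_ok0
  (of_allFrom_append (of_allFrom_append (of_allFrom_append (of_allFrom_append (of_allFrom_append (of_allFrom_append (of_allFrom_append (of_allFrom_append (of_allFrom_append (of_allFrom_append (of_allFrom_append (of_allFrom_append (of_allFrom_append (of_allFrom_append of_lt_zero hh_k0) hh_k1) hh_k2) hh_k3) hh_k4) hh_k5) hh_k6) hh_k7) hh_k8) hh_k9) hh_k10) hh_k11) hh_k12) hh_k13)

theorem hh_card0 : Nat.card (genW hh.gam (hh.ws 0)) = 21504 := (hh_ok.card 0).trans (by decide +kernel)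

theorem hh_card1 : Nat.card (genW hh.gam (hh.ws 1)) = 64 := (hh_ok.card 1).trans (by decide +kernel)

theorem hh_card2 : Nat.card (genW hh.gam (hh.ws 2)) = 1024 := (hh_ok.card 2).trans (by decide +kernel)

theorem hh_card3 : Nat.card (genW hh.gam (hh.ws 3)) = 1536 := (hh_ok.card 3).trans (by decide +kernel)

theorem hh_card4 : Nat.card (genW hh.gam (hh.ws 4)) = 512 := (hh_ok.card 4).trans (by decide +kernel)

theorem hh_card5 : Nat.card (genW hh.gam (hh.ws 5)) = 64 := (hh_ok.card 5).trans (by decide +kernel)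

theorem hh_card6 : Nat.card (genW hh.gam (hh.ws 6)) = 128 := (hh_ok.card 6).trans (by decide +kernel)

theorem hh_card7 : Nat.card (genW hh.gam (hh.ws 7)) = 7 := (hh_ok.card 7).trans (by decide +kernel)

theorem hh_card8 : Nat.card (genW hh.gam (hh.ws 8)) = 48 := (hh_ok.card 8).trans (by decide +kernel)

theorem hh_card9 : Nat.card (genW hh.gam (hh.ws 9)) = 48 := (hh_ok.card 9).trans (by decide +kernel)

theorem hh_card10 : Nat.card (genW hh.gam (hh.ws 10)) = 256 := (hh_ok.card 10).trans (by decide +kernel)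

theorem hh_card11 : Nat.card (genW hh.gam (hh.ws 11)) = 16 := (hh_ok.card 11).trans (by decide +kernel)

theorem hh_card12 : Nat.card (genW hh.gam (hh.ws 12)) = 3072 := (hh_ok.card 12).trans (by decide +kernel)

theorem hh_card13 : Nat.card (genW hh.gam (hh.ws 13)) = 512 := (hh_ok.card 13).trans (by decide +kernel)

/-- the subgroups of the model -/
abbrev KK {G : Type*} [Group G] (γ : ℕ → G) (k : ℕ) : Subgroup G := genW (res γ) (hh.ws k)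

theorem hh_lab : Lab hh.gam iv := hh_ok.lab (by decide) (by decide +kernel) (by decide)

theorem hh_res : res hh.gam = hh.gam := hh_ok.newLet_eq hh_lab (by decide) (by decide) (by decide +kernel)

/-- relators of the parabolic subgroup of order 3072 -/
def relB : List W := [.pow (.mul (.l 1) (.l 2)) 4, .pow (.mul (.l 2) (.l 3)) 4, .pow (.mul (.l 3) (.l 4)) 4, .pow (.mul (.l 1) (.l 3)) 2, .pow (.mul (.l 1) (.l 4)) 2, .pow (.mul (.l 2) (.l 4)) 2, .mul (.mul (.mul (.mul (.mul (.mul (.mul (.mul (.mul (.mul (.mul (.l 1) (.l 2)) (.l 1)) (.l 3)) (.l 2)) (.l 1)) (.l 3)) (.l 2)) (.l 1)) (.l 3)) (.l 2)) (.l 3), .mul (.mul (.mul (.mul (.mul (.mul (.mul (.mul (.mul (.mul (.mul (.l 2) (.l 3)) (.l 2)) (.l 4)) (.l 3)) (.l 2)) (.l 4)) (.l 3)) (.l 2)) (.l 4)) (.l 3)) (.l 4), .mul (.mul (.mul (.l 4) (.l 5)) (.l 4)) (.l 5), .mul (.mul (.mul (.mul (.mul (.l 2) (.l 5)) (.l 2)) (.l 5)) (.l 2))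 (.l 5), .mul (.mul (.mul (.mul (.mul (.mul (.l 1) (.l 2)) (.l 1)) (.l 2)) (.l 5)) (.l 1)) (.l 5), .mul (.mul (.mul (.mul (.mul (.mul (.l 2) (.l 3)) (.l 2)) (.l 3)) (.l 5)) (.l 3)) (.l 5)]

/-- relators of `C(z)` -/
def relH : List W := relB ++ [.mul (.mul (.mul (.l 1) (.l 6)) (.l 1)) (.l 6), .mul (.mul (.mul (.mul (.mul (.l 3) (.l 6)) (.l 3)) (.l 6)) (.l 3)) (.l 6), .mul (.mul (.mul (.mul (.mul (.mul (.l 4) (.l 3)) (.l 4)) (.l 3)) (.l 6)) (.l 4)) (.l 6), .mul (.mul (.mul (.mul (.mul (.mul (.l 3) (.l 2)) (.l 3)) (.l 2)) (.l 6)) (.l 2)) (.l 6), .mul (.mul (.mul (.mul (.mul (.l 6) (.l 5)) (.l 6)) (.l 5)) (.l 6)) (.l 5)]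

theorem hh_relH : ∀ t ∈ relH, t.ev hh.gam = 1 := hh_ok.rels (by decide +kernel)

theorem hh_T4_ev : hh.eval (.lt 40 (.mul (.mul (.l 5) (.pow (.mul (.l 3) (.l 4)) 2)) (.l 5)) (.lt 41 (.pow (.mul (.l 1) (.l 40)) 2) (.all 2 42 [] (.or (.one (.pow (.l 42) 4)) (.eq (.pow (.l 42) 4) (.l 41)))))) = true := by
  decide +kernel

theorem hh_T4 {G : Type*} [Group G] {γ : ℕ → G} (h : IsoW hh.gam (res γ)) :
    ∀ x ∈ KK γ 2, x ^ 4 = 1 ∨ x ^ 4 = zz γ :=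
  hh_ok.transfer h hh_T4_ev

theorem hh_ZT_ev : hh.eval (.lt 40 (.mul (.mul (.l 5) (.pow (.mul (.l 3) (.l 4)) 2)) (.l 5)) (.lt 41 (.pow (.mul (.l 1) (.l 40)) 2) (.all 2 42 [(.l 1, .l 1), (.l 2, .l 2), (.l 3, .l 3), (.l 4, .l 4)] (.or (.one (.l 42)) (.eq (.l 42) (.l 41)))))) = true := by
  decide +kernel

theorem hh_ZT {G : Type*} [Group G] {γ : ℕ → G} (h : IsoW hh.gam (res γ)) :
    ∀ x ∈ KK γ 2, x * γ 1 = γ 1 * x → x * γ 2 = γ 2 * x → x * γ 3 = γ 3 * x → x * γ 4 = γ 4 * x → x = 1 ∨ x = zz γ :=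
  hh_ok.transfer h hh_ZT_ev

theorem hh_ZH_ev : hh.eval (.lt 40 (.mul (.mul (.l 5) (.pow (.mul (.l 3) (.l 4)) 2)) (.l 5)) (.lt 41 (.pow (.mul (.l 1) (.l 40)) 2) (.all 0 42 [(.l 1, .l 1), (.l 2, .l 2), (.l 3, .l 3), (.l 4, .l 4), (.l 5, .l 5), (.l 6, .l 6)] (.or (.one (.l 42)) (.eq (.l 42) (.l 41)))))) = true := by
  decide +kernel

theorem hh_ZH {G : Type*} [Group G] {γ : ℕ → G} (h : IsoW hh.gam (res γ)) :
    ∀ x ∈ KK γ 0, x * γ 1 = γ 1 * x → x * γ 2 = γ 2 * x → x * γ 3 = γ 3 * x → x * γ 4 = γ 4 * x → x * γ 5 = γ 5 * x → x * γ 6 = γ 6 * x → x = 1 ∨ x = zz γ :=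
  hh_ok.transfer h hh_ZH_ev

theorem hh_c1_ev : hh.eval (.all 2 40 [] (.imp (.one (.mul (.l 40) (.l 40))) (.ex 7 41 [] (.or (.mem 1 (.mul (.mul (.l 41) (.l 40)) (.inv (.l 41)))) (.mem 5 (.mul (.mul (.l 41) (.l 40)) (.inv (.l 41)))))))) = true := by
  decide +kernel

theorem hh_c1 {G : Type*} [Group G] {γ : ℕ → G} (h : IsoW hh.gam (res γ)) :
    ∀ x ∈ KK γ 2, x * x = 1 → ∃ g ∈ KK γ 7, g * x * g⁻¹ ∈ KK γ 1 ∨ g * x * g⁻¹ ∈ KK γ 5 :=
  hh_ok.transfer h hh_c1_ev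

theorem hh_c3_ev : hh.eval (.lt 40 (.mul (.mul (.l 5) (.pow (.mul (.l 3) (.l 4)) 2)) (.l 5)) (.lt 41 (.pow (.mul (.l 1) (.l 40)) 2) (.lt 42 (.mul (.mul (.l 5) (.l 1)) (.l 5)) (.lt 43 (.mul (.mul (.l 5) (.l 3)) (.l 5)) (.lt 44 (.pow (.mul (.l 1) (.l 43)) 2) (.lt 45 (.mul (.l 44) (.l 40)) (.all 5 46 [] (.or (.one (.l 46)) (.or (.eq (.l 46) (.l 41)) (.or (.ex 8 47 [(.l 46, .l 44)] (.tt)) (.or (.ex 8 47 [(.l 46, .l 40)] (.tt)) (.or (.ex 8 47 [(.l 46, .l 45)] (.tt)) (.or (.ex 8 47 [(.l 46, .l 43)] (.tt)) (.or (.ex 8 47 [(.l 46, .mul (.l 43) (.l 41))] (.tt)) (.ex 8 47 [(.l 46, .mul (.l 42) (.l 43))] (.tt)))))))))))))))) = true := by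
  decide +kernel

theorem hh_c3 {G : Type*} [Group G] {γ : ℕ → G} (h : IsoW hh.gam (res γ)) :
    ∀ x ∈ KK γ 5, x = 1 ∨ x = zz γ ∨ (∃ g ∈ KK γ 8, g * x = ee γ * g ∧ True) ∨ (∃ g ∈ KK γ 8, g * x = uu γ * g ∧ True) ∨ (∃ g ∈ KK γ 8, g * x = tt γ * g ∧ True) ∨ (∃ g ∈ KK γ 8, g * x = mm γ * g ∧ True) ∨ (∃ g ∈ KK γ 8, g * x = mm γ * zz γ * g ∧ True) ∨ (∃ g ∈ KK γ 8, g * x = nn γ * mm γ * g ∧ True) :=
  hh_ok.transfer h hh_c3_ev

theorem hh_ZS_ev : hh.eval (.lt 40 (.mul (.mul (.l 5) (.pow (.mul (.l 3) (.l 4)) 2)) (.l 5)) (.lt 41 (.pow (.mul (.l 1) (.l 40)) 2) (.lt 42 (.mul (.mul (.l 5) (.l 1)) (.l 5)) (.all 4 43 [(.l 2, .l 2), (.l 3, .l 3), (.l 4, .l 4), (.l 42, .l 42)] (.or (.one (.l 43)) (.or (.eq (.l 43) (.l 41)) (.or (.eq (.l 43) (.l 40)) (.eq (.l 43) (.mul (.l 41) (.l 40)))))))))) = true := by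
  decide +kernel

theorem hh_ZS {G : Type*} [Group G] {γ : ℕ → G} (h : IsoW hh.gam (res γ)) :
    ∀ x ∈ KK γ 4, x * γ 2 = γ 2 * x → x * γ 3 = γ 3 * x → x * γ 4 = γ 4 * x → x * nn γ = nn γ * x → x = 1 ∨ x = zz γ ∨ x = uu γ ∨ x = zz γ * uu γ :=
  hh_ok.transfer h hh_ZS_ev

theorem hh_y2_ev : hh.eval (.lt 40 (.mul (.mul (.l 5) (.pow (.mul (.l 3) (.l 4)) 2)) (.l 5)) (.lt 41 (.pow (.mul (.l 1) (.l 40)) 2) (.lt 42 (.mul (.l 6) (.l 3)) (.all 3 43 [(.l 42, .l 42)] (.and (.or (.one (.pow (.l 43) 3)) (.or (.eq (.pow (.l 43) 3) (.l 41)) (.or (.eq (.pow (.l 43) 3) (.l 40)) (.eq (.pow (.l 43) 3) (.mul (.l 41) (.l 40)))))) (.and (.or (.one (.pow (.l 43) 4)) (.or (.eq (.pow (.l 43) 4) (.l 42)) (.eq (.pow (.l 43) 4) (.mul (.l 42) (.l 42))))) (.imp (.one (.mul (.mul (.mul (.l 1) (.l 43)) (.l 1)) (.l 43))) (.or (.one (.l 43)) (.eq (.l 43) (.l 41)))))))))) = true := by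
  decide +kernel

theorem hh_y2 {G : Type*} [Group G] {γ : ℕ → G} (h : IsoW hh.gam (res γ)) :
    ∀ x ∈ KK γ 3, x * yy γ = yy γ * x → (x ^ 3 = 1 ∨ x ^ 3 = zz γ ∨ x ^ 3 = uu γ ∨ x ^ 3 = zz γ * uu γ) ∧ (x ^ 4 = 1 ∨ x ^ 4 = yy γ ∨ x ^ 4 = yy γ * yy γ) ∧ (γ 1 * x * γ 1 * x = 1 → x = 1 ∨ x = zz γ) :=
  hh_ok.transfer h hh_y2_ev

theorem hh_CU_ev : hh.eval (.all 0 40 [(.l 3, .l 3), (.pow (.mul (.l 3) (.l 4)) 2, .pow (.mul (.l 3) (.l 4)) 2), (.pow (.mul (.l 2) (.l 3)) 2, .pow (.mul (.l 2) (.l 3)) 2), (.pow (.mul (.l 2) (.pow (.mul (.l 3) (.l 4)) 2)) 2, .pow (.mul (.l 2) (.pow (.mul (.l 3) (.l 4)) 2)) 2), (.pow (.mul (.mul (.mul (.l 5) (.l 1)) (.l 5)) (.l 3)) 2, .pow (.mul (.mul (.mul (.l 5) (.l 1)) (.l 5)) (.l 3)) 2), (.pow (.mul (.mul (.mul (.l 5) (.l 1)) (.l 5)) (.pow (.mul (.l 3) (.l 4)) 2)) 2, .pow (.mul (.mul (.mul (.l 5) (.l 1)) (.l 5)) (.pow (.mul (.l 3) (.l 4)) 2)) 2)] (.mem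 1 (.l 40))) = true := by
  decide +kernel

theorem hh_CU {G : Type*} [Group G] {γ : ℕ → G} (h : IsoW hh.gam (res γ)) :
    ∀ x ∈ KK γ 0, x * γ 3 = γ 3 * x → x * (γ 3 * γ 4) ^ 2 = (γ 3 * γ 4) ^ 2 * x → x * (γ 2 * γ 3) ^ 2 = (γ 2 * γ 3) ^ 2 * x → x * (γ 2 * (γ 3 * γ 4) ^ 2) ^ 2 = (γ 2 * (γ 3 * γ 4) ^ 2) ^ 2 * x → x * (γ 5 * γ 1 * γ 5 * γ 3) ^ 2 = (γ 5 * γ 1 * γ 5 * γ 3) ^ 2 * x → x * (γ 5 * γ 1 * γ 5 * (γ 3 * γ 4) ^ 2) ^ 2 = (γ 5 * γ 1 * γ 5 * (γ 3 * γ 4) ^ 2) ^ 2 * x → x ∈ KK γ 1 :=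
  hh_ok.transfer h hh_CU_ev

theorem hh_CP_ev : hh.eval (.lt 40 (.mul (.mul (.l 5) (.l 1)) (.l 5)) (.lt 41 (.pow (.mul (.l 3) (.l 4)) 2) (.all 0 42 [(.l 2, .l 2), (.l 3, .l 3), (.l 40, .l 40), (.l 41, .l 41)] (.mem 1 (.l 42))))) = true := by
  decide +kernel

theorem hh_CP {G : Type*} [Group G] {γ : ℕ → G} (h : IsoW hh.gam (res γ)) :
    ∀ x ∈ KK γ 0, x * γ 2 = γ 2 * x → x * γ 3 = γ 3 * x → x * nn γ = nn γ * x → x * pp γ = pp γ * x → x ∈ KK γ 1 :=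
  hh_ok.transfer h hh_CP_ev

theorem hh_et_ev : hh.eval (.lt 40 (.mul (.mul (.l 5) (.pow (.mul (.l 3) (.l 4)) 2)) (.l 5)) (.lt 41 (.mul (.mul (.l 5) (.l 3)) (.l 5)) (.lt 42 (.pow (.mul (.l 1) (.l 41)) 2) (.lt 43 (.mul (.l 42) (.l 40)) (.all 0 44 [(.l 42, .l 43)] (.not (.tt))))))) = true := by
  decide +kernel

theorem hh_et {G : Type*} [Group G] {γ : ℕ → G} (h : IsoW hh.gam (res γ)) :
    ∀ x ∈ KK γ 0, x * ee γ = tt γ * x → ¬ True :=
  hh_ok.transfer h hh_et_ev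

theorem hh_CW_ev : hh.eval (.lt 40 (.mul (.mul (.l 5) (.pow (.mul (.l 3) (.l 4)) 2)) (.l 5)) (.lt 41 (.mul (.mul (.l 5) (.l 3)) (.l 5)) (.lt 42 (.pow (.mul (.l 3) (.l 4)) 2) (.all 0 43 [(.mul (.mul (.l 41) (.l 42)) (.l 40), .mul (.mul (.l 41) (.l 42)) (.l 40)), (.mul (.l 3) (.l 40), .mul (.l 3) (.l 40))] (.mem 1 (.l 43)))))) = true := by
  decide +kernel

theorem hh_CW {G : Type*} [Group G] {γ : ℕ → G} (h : IsoW hh.gam (res γ)) :
    ∀ x ∈ KK γ 0, x * (mm γ * pp γ * uu γ) = mm γ * pp γ * uu γ * x → x * (γ 3 * uu γ) = γ 3 * uu γ * x → x ∈ KK γ 1 :=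
  hh_ok.transfer h hh_CW_ev

theorem hh_Cm_ev : hh.eval (.lt 40 (.mul (.mul (.l 5) (.l 3)) (.l 5)) (.all 0 41 [(.l 40, .l 40)] (.mem 10 (.l 41)))) = true := by
  decide +kernel

theorem hh_Cm {G : Type*} [Group G] {γ : ℕ → G} (h : IsoW hh.gam (res γ)) :
    ∀ x ∈ KK γ 0, x * mm γ = mm γ * x → x ∈ KK γ 10 :=
  hh_ok.transfer h hh_Cm_ev

theorem hh_P0_ev : hh.eval (.lt 40 (.mul (.mul (.l 5) (.pow (.mul (.l 3) (.l 4)) 2)) (.l 5)) (.lt 41 (.pow (.mul (.l 1) (.l 40)) 2) (.lt 42 (.mul (.mul (.l 5) (.l 3)) (.l 5)) (.lt 43 (.pow (.mul (.l 1) (.l 42)) 2) (.all 10 44 [] (.or (.one (.mul (.l 44) (.l 44))) (.or (.eq (.mul (.l 44) (.l 44)) (.l 41)) (.or (.eq (.mul (.l 44) (.l 44)) (.l 43)) (.or (.eq (.mul (.l 44) (.l 44)) (.mul (.l 43) (.l 41))) (.or (.eq (.mul (.l 44) (.l 44)) (.l 40)) (.or (.eq (.mul (.l 44) (.l 44)) (.mul (.l 40) (.l 41))) (.or (.eq (.mul (.l 44) (.l 44)) (.l 42))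 (.or (.eq (.mul (.l 44) (.l 44)) (.mul (.l 42) (.l 43))) (.or (.eq (.mul (.l 44) (.l 44)) (.mul (.l 42) (.l 40))) (.eq (.mul (.l 44) (.l 44)) (.mul (.mul (.mul (.l 42) (.l 43)) (.l 40)) (.l 41))))))))))))))))) = true := by
  decide +kernel

theorem hh_P0 {G : Type*} [Group G] {γ : ℕ → G} (h : IsoW hh.gam (res γ)) :
    ∀ x ∈ KK γ 10, x * x = 1 ∨ x * x = zz γ ∨ x * x = ee γ ∨ x * x = ee γ * zz γ ∨ x * x = uu γ ∨ x * x = uu γ * zz γ ∨ x * x = mm γ ∨ x * x = mm γ * ee γ ∨ x * x = mm γ * uu γ ∨ x * x = mm γ * ee γ * uu γ * zz γ :=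
  hh_ok.transfer h hh_P0_ev

theorem hh_P2_ev : hh.eval (.lt 40 (.mul (.mul (.l 5) (.pow (.mul (.l 3) (.l 4)) 2)) (.l 5)) (.lt 41 (.pow (.mul (.l 1) (.l 40)) 2) (.lt 42 (.mul (.mul (.l 5) (.l 3)) (.l 5)) (.lt 43 (.pow (.mul (.l 1) (.l 42)) 2) (.all 10 44 [] (.not (.or (.eq (.mul (.l 41) (.mul (.l 44) (.l 44))) (.l 42)) (.or (.eq (.mul (.l 41) (.mul (.l 44) (.l 44))) (.mul (.l 42) (.l 43))) (.or (.eq (.mul (.l 41) (.mul (.l 44) (.l 44))) (.mul (.l 42) (.l 40))) (.eq (.mul (.l 41) (.mul (.l 44) (.l 44))) (.mul (.mul (.mul (.l 42) (.l 43)) (.l 40)) (.l 41)))))))))))) = true := by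
  decide +kernel

theorem hh_P2 {G : Type*} [Group G] {γ : ℕ → G} (h : IsoW hh.gam (res γ)) :
    ∀ x ∈ KK γ 10, ¬ (zz γ * (x * x) = mm γ ∨ zz γ * (x * x) = mm γ * ee γ ∨ zz γ * (x * x) = mm γ * uu γ ∨ zz γ * (x * x) = mm γ * ee γ * uu γ * zz γ) :=
  hh_ok.transfer h hh_P2_ev

def tcH_F : Tr := .leaf (nat_lit 0x363634351d1e0e0e2e2e26260d0d2d2d25251c1c0c0c24241b1b0b0b333323231212222232320a0a11112121090928282020181810100808161415132c2a2b291a1931300000)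
def tcH_T : Tr := .leaf (nat_lit 1754760)
def tcH_P : Tr := .leaf (nat_lit 0x1ff001ff001ff001ff001ff001ff001ff001ff001ff18cc6c186340203c528170063300c0f18202075a2c0082c631107c48d0040a18212891a004123178d0020514ac3190e2c010285063a1c5801048a4e2c008144043a1528900a0b1094fa53e24028284231200010182a50874380505863a64e990e0141418117061c0004031b0e00010101110674280107843608a830a0081c101130614008342190a0000608893224c180507822654995060141c087830000c)
def tcH_N_0 : Tr := .node (.node (.node (.node (.leaf (nat_lit 69861442625))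
  (.leaf (nat_lit 198)))
  (.leaf (nat_lit 174233766)))
  (.node (.node (.leaf (nat_lit 168100))
  (.leaf (nat_lit 8200)))
  (.leaf (nat_lit 99))))
  (.node (.node (.node (.leaf (nat_lit 132225))
  (.leaf (nat_lit 231)))
  (.leaf (nat_lit 66)))
  (.node (.leaf (nat_lit 197825))
  (.leaf (nat_lit 4100))))
def tcH_N_1 : Tr := .node (.node (.node (.node (.leaf (nat_lit 140797676675))
  (.leaf (nat_lit 6150)))
  (.leaf (nat_lit 33)))
  (.node (.node (.leaf (nat_lit 5407573057))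
  (.leaf (nat_lit 0)))
  (.leaf (nat_lit 132))))
  (.node (.node (.node (.leaf (nat_lit 0x1886110c2218441))
  (.leaf (nat_lit 264)))
  (.leaf (nat_lit 2050)))
  (.node (.leaf (nat_lit 6583062628))
  (.leaf (nat_lit 165))))
def tcH_N_2 : Tr := .node (.node (.node (.node (.leaf (nat_lit 105329559650))
  (.leaf (nat_lit 198)))
  (.leaf (nat_lit 33)))
  (.node (.node (.leaf (nat_lit 170035362))
  (.leaf (nat_lit 0)))
  (.leaf (nat_lit 3075))))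
  (.node (.node (.node (.leaf (nat_lit 133250))
  (.leaf (nat_lit 7175)))
  (.leaf (nat_lit 66)))
  (.node (.leaf (nat_lit 204672195))
  (.leaf (nat_lit 165))))
def tcH_N_3 : Tr := .node (.node (.node (.node (.leaf (nat_lit 99425))
  (.leaf (nat_lit 231)))
  (.leaf (nat_lit 1025)))
  (.node (.leaf (nat_lit 5474715746))
  (.leaf (nat_lit 132))))
  (.node (.node (.node (.leaf (nat_lit 0x20c821904320862))
  (.leaf (nat_lit 264)))
  (.leaf (nat_lit 99)))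
  (.node (.leaf (nat_lit 6515919939))
  (.leaf (nat_lit 5125))))
def tcH_N : Tr := .node (.node tcH_N_0
  tcH_N_1)
  (.node tcH_N_2
  tcH_N_3)
noncomputable def tcH : TC :=
  ⟨[.l 0, .l 1, .l 2, .l 3, .l 4, .l 5, .l 6, .l 7, .l 8],
    (nat_lit 3), (nat_lit 7), (nat_lit 9043225708576), (nat_lit 63), (nat_lit 7), (nat_lit 5), (nat_lit 32), (nat_lit 1), (nat_lit 43),
    get (nat_lit 10) (nat_lit 0x400c0400c02010030080400c02010030080400c02010030080400c02010030080601c070180401c07018040300c010040100802008), Tr.get tcH_N, get (nat_lit 20) (nat_lit 0x3ff003ff003ff003ff003ff003ff003ff003ff003ff003ff003ff003ff003ff003ff003ff003ff003ff003ff003ff003ff003ff003ff003ff003ff003ff003ff000100000f0000e0000d0000c0000b0000a00009000080000700006000050000400003000020000100000),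
    Tr.get3 tcH_F (nat_lit 16) (nat_lit 5), Tr.get3 tcH_T (nat_lit 3) (nat_lit 8), Tr.get tcH_P⟩

theorem tcH_head : tcH.headOK relH iv = true := by decide +kernel

theorem tcH_b0 : allFrom (nat_lit 0) (nat_lit 1) tcH.blockOK = true := by decide +kernel

def tcH_Q6 : Tr := .leaf (nat_lit 301352975073666)
theorem tcH_f6_0 : allFrom (nat_lit 0) (nat_lit 7) (tcH.finOK (nat_lit 7) (Tr.get3 tcH_Q6 (nat_lit 7) (nat_lit 7)) (nat_lit 6)) = true := by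
  decide +kernel

def tcH_Q5 : Tr := .leaf (nat_lit 4181303525782)
theorem tcH_f5_0 : allFrom (nat_lit 0) (nat_lit 7) (tcH.finOK (nat_lit 7) (Tr.get3 tcH_Q5 (nat_lit 6) (nat_lit 7)) (nat_lit 5)) = true := by
  decide +kernel

def tcH_Q4 : Tr := .leaf (nat_lit 4042346079892)
theorem tcH_f4_0 : allFrom (nat_lit 0) (nat_lit 7) (tcH.finOK (nat_lit 7) (Tr.get3 tcH_Q4 (nat_lit 6) (nat_lit 7)) (nat_lit 4)) = true := by
  decide +kernel

def tcH_Q3 : Tr := .leaf (nat_lit 283721873834514)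
theorem tcH_f3_0 : allFrom (nat_lit 0) (nat_lit 7) (tcH.finOK (nat_lit 7) (Tr.get3 tcH_Q3 (nat_lit 7) (nat_lit 7)) (nat_lit 3)) = true := by
  decide +kernel

def tcH_Q2 : Tr := .leaf (nat_lit 905368454928)
theorem tcH_f2_0 : allFrom (nat_lit 0) (nat_lit 7) (tcH.finOK (nat_lit 7) (Tr.get3 tcH_Q2 (nat_lit 6) (nat_lit 7)) (nat_lit 2)) = true := by
  decide +kernel

def tcH_Q1 : Tr := .leaf (nat_lit 4321553540622)
theorem tcH_f1_0 : allFrom (nat_lit 0) (nat_lit 7) (tcH.finOK (nat_lit 7) (Tr.get3 tcH_Q1 (nat_lit 6) (nat_lit 7)) (nat_lit 1)) = true := by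
  decide +kernel

theorem tcH_blocks : ∀ t < tcH.k, tcH.blockOK t = true :=
  (of_allFrom_append of_lt_zero tcH_b0)

/-- index 7 max 7 total 7 facts 35 | needed cosets 7 facts 35 steps 116 trivial 0 -/
theorem tcH_index {G : Type*} [Group G] {γ : ℕ → G} (hL : Lab γ iv) (hr : ∀ t ∈ relH, t.ev γ = 1) {K : Subgroup G}
    (hK : ∀ t ∈ ([.l 1, .l 2, .l 3, .l 4, .l 5] : List W), t.ev γ ∈ K) :
    K.relIndex (genW γ [.l 1, .l 2, .l 3, .l 4, .l 5, .l 6]) ≠ 0 ∧ K.relIndex (genW γ [.l 1, .l 2, .l 3, .l 4, .l 5, .l 6]) ≤ 7 :=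
  TC.relIndex_le (D := tcH) (gens := [1, 2, 3, 4, 5, 6]) hL (List.forall_mem_cons.2 ⟨hL.zero_mem K, hK⟩) hr tcH_head tcH_blocks (by decide) (by decide)
   (List.forall_mem_cons.2 ⟨⟨_, (of_allFrom_append of_lt_zero tcH_f1_0)⟩,
    List.forall_mem_cons.2 ⟨⟨_, (of_allFrom_append of_lt_zero tcH_f2_0)⟩,
    List.forall_mem_cons.2 ⟨⟨_, (of_allFrom_append of_lt_zero tcH_f3_0)⟩,
    List.forall_mem_cons.2 ⟨⟨_, (of_allFrom_append of_lt_zero tcH_f4_0)⟩,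
    List.forall_mem_cons.2 ⟨⟨_, (of_allFrom_append of_lt_zero tcH_f5_0)⟩,
    List.forall_mem_cons.2 ⟨⟨_, (of_allFrom_append of_lt_zero tcH_f6_0)⟩,
    fun _ h => absurd h List.not_mem_nil⟩⟩⟩⟩⟩⟩)


end Cfsg.Lib.T2.L
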