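import Cfsg.Agent.Lib.T2.Fm

/-! The model `h0` of `2^{1+4}_-:A₅` (letters `t r v y Y`), and models of `A₆`, `L₂(7)` (generated by tools/fm.py). -/

set_option autoImplicit false
set_option maxRecDepth 100000

namespace Cfsg.Lib.T2.J

open Cfsg.Lib.Calc Cfsg.Lib.Grp Cfsg.Lib.T2

/-- inverse letters -/
def iv : ℕ := 6582011936

def h0_L0 : List (ℕ × List ℕ) := [((nat_lit 0), [(nat_lit 0xffbbcdeb38bdab49ca307b9ac5a928398a418820), (nat_lit 0xc5f349c7bff31fcdab49aa0f634a0e6ac6229001), (nat_lit 0x7b66bcdb5bf1b15fa3a5e2891649d0bd06149c02), (nat_lit 0xec9f1d531bf1b36f96675913c65dd06d42252003), (nat_lit 0xa9f66eb233bafefc3b23a485ab2909f70a083424), (nat_lit 0xcaaba8f3f3bafacc0f6d30a14b79093bc0493825), (nat_lit 0x76f34e255ff310592f07b12301deba6f4229bc06), (nat_lit 0xafd0984672f0debdd9472929a35fbc6b822c640c), (nat_lit 0xe13ecd1ad96d3787c2635c83d8a145f552075c47),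 (nat_lit 0x5a7ecc1a9a95779ec1e18dc53e1487f594073468), (nat_lit 0x9a39db57796d34678ff7605cb8f9452600794049), (nat_lit 0x79573a5b7a95706e87ed609d1e78874e408bc06a), (nat_lit 0x44fbca4258bd9c351bed60b492f9f13e404dd42b), (nat_lit 0x7e1d04eb6ab96a69b24d18b915fb343a004ff436), (nat_lit 0xa0b168ad9d3f27faa76532819d3a43bbe014788d), (nat_lit 0x34316faf9153e7dca6a0d789ba0c4dbb24141cae), (nat_lit 0xb46435313cdf7e876b21a5c5882c87f1660ab4cf), (nat_lit 0x2d36698e30fba4faf1014dc4ad5887f2f00eb599), (nat_lit 0xdba9963e7d3f22ba971eb0106d5e4317c2d52490), (nat_lit 0xc3e0e2f7e86a78cc9a57186b6a7a6b22807de851), (nat_lit 0x567555ba4f6c60343377307a54fb1624c07ff054), (nat_lit 0xa8cdbe327153febc8307b111aa5c4d8742ef24b2), (nat_lit 0xcaed8497fcdf54c7064d18ab4878878a00fbe8d3), (nat_lit 0x458aa8ae50fba63a876d30ba9d7887a3c19bf198), (nat_lit 0x26b168bafd972012b36d30a6757b344bc08fac75),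 (nat_lit 0xcf60e3cfe59296cd1aed08ad4af9f149008de07c), (nat_lit 0x585f1b50da2573be17e962013ec2436e1c2578f7), (nat_lit 0x1f26bd9749c21557d1c0878928b04db9be1c9edd), (nat_lit 0xfd5281e70e3c296ead5e281ece5f661482d9c49a), (nat_lit 0xe999f80f149e65640147291fc4dc4dd3835f457b), (nat_lit 0x73072d1949c236578267593308dc4de543df52df), (nat_lit 0x302ba6717113fb3a0f10b383bca5453fd0495dbe)]),
  ((nat_lit 1), [(nat_lit 0xffbbcdeb38bdab49ca307b9ac5a928398a418820), (nat_lit 0x97973bf2a86a7ba26f05b2be33bdd0c863433040), (nat_lit 0xdfb16fcdfd97171d5e8ecc1a6a94e44b14808860), (nat_lit 0x6faba950f1dbf24e7ca8526e2ebad858e13604c0), (nat_lit 0xdf8e46cfb0fb97ca5d114be46cd945a8b1a08d80)]),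
  ((nat_lit 3), [(nat_lit 0xffbbcdeb38bdab49ca307b9ac5a928398a418820), (nat_lit 0x979d0ff10ab97a9c6e9acd5a3b4e2f3b16430820), (nat_lit 0xdfb34fbfb3bae3cc36aed4246b1d095308510c20), (nat_lit 0xdfaba941f3badd157d3c475a62e29938ec460820)]),
  ((nat_lit 2), [(nat_lit 0xffbbcdeb38bdab49ca307b9ac5a928398a418820), (nat_lit 0xdf9286f613baf8e3cb31a3fe622b55c08b61b020), (nat_lit 0x6fb55fa627b910fc4a1975362b2bbc9b0ab19820)])]

def h0_D0 : List ℕ := [(nat_lit 0), (nat_lit 513), (nat_lit 44034), (nat_lit 50690), (nat_lit 65026), (nat_lit 82434), (nat_lit 92162), (nat_lit 100610), (nat_lit 120834), (nat_lit 130562), (nat_lit 154626), (nat_lit 165378), (nat_lit 176130), (nat_lit 186626), (nat_lit 253442), (nat_lit 287234), (nat_lit 303106), (nat_lit 317698), (nat_lit 353794), (nat_lit 370690), (nat_lit 386306), (nat_lit 426498), (nat_lit 444418), (nat_lit 461058), (nat_lit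 506370), (nat_lit 554498), (nat_lit 604162), (nat_lit 657666), (nat_lit 779266), (nat_lit 907266), (nat_lit 934146), (nat_lit 1143298), (nat_lit 0), (nat_lit 59316995), (nat_lit 1537), (nat_lit 95222019), (nat_lit 10796452612), (nat_lit 0), (nat_lit 155409667), (nat_lit 150822147), (nat_lit 166070531), (nat_lit 0), (nat_lit 1776322420485), (nat_lit 1931545901317)]

def h0_L1 : List (ℕ × List ℕ) := [((nat_lit 0), [(nat_lit 0xffbbcdeb38bdab49ca307b9ac5a928398a418820), (nat_lit 0xc5f349c7bff31fcdab49aa0f634a0e6ac6229001), (nat_lit 0xcb6d87cffc2756cd20cad97d4ac0720c5d7480e2), (nat_lit 0xd4b66efd6f2c593a7ac4c1d35c85a2772f002143), (nat_lit 0x76c72f11495a0e50f1ac17e30be716a829aebe66), (nat_lit 0xe13ecd1ad96d3787c2635c83d8a145f552075c47), (nat_lit 0x79573a5b7a95706e87ed609d1e78874e408bc06a), (nat_lit 0x4ad450b46edc052f64983daa80719f8dfafa68d3), (nat_lit 0xe9d9faef14164d68b97298efc7a4aa0691e805a4),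 (nat_lit 0x5a62fc534686f35f8b81ede536101e558e568dc8), (nat_lit 0x54509105d2d0ef025819f53653b3bc9b7ebc1aaf), (nat_lit 0x8aa6bce0d51eadbe5d82fb60fe80e4453c90ba45), (nat_lit 0x9a1f1b66bb71a9a637b7e046bf9fc02e08a14a09), (nat_lit 0x273c01bae2a36012ed1a4d70754e2ffc96c35b3d), (nat_lit 0x44caab8a50339a3050f626349f77ec78791cd76b), (nat_lit 0x2bd286de03ac82e3e3d4064ca27f9d58993b6f51), (nat_lit 0x3f41e9402dc89d75193546ac42adf160e7fde29c), (nat_lit 0xa0b168ad9d3f27faa76532819d3a43bbe014788d), (nat_lit 0x34355ff22b4cfafc1280cf95bb0837931a33950e), (nat_lit 0x969d02010a897c91303dbf2636db34d9f06fadf5), (nat_lit 0xa8cdbe327153febc8307b111aa5c4d8742ef24b2), (nat_lit 0xdbaba675f342f91b1f3ea00a6c36e11fc5222930), (nat_lit 0x152e12a3c4e1d201cdd183fed96f55c28d65b3b9), (nat_lit 0x81a4301ca89a48abf45f6b1ee0d2d8d7b35e457b), (nat_lit 0x1d60e3f9257a8086fefc0f57216299312db64e3a),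 (nat_lit 0x6e43752407e911e92e0f7458219abab17789ff94), (nat_lit 0xb06995bf8c07e3d316a8d2498d8dd014e4d51fd7), (nat_lit 0xbe1a2494806794773e531af81868dbca2b48f7f6), (nat_lit 0xd84d428fef80a48446b94fb775766a27597f198), (nat_lit 0x6039d356960e35958dee8c05f9950926d47936fe), (nat_lit 0x3087749b7c04624e8a656f3e43e6be423dad2df), (nat_lit 0xf7ce480c41b5e4d4555b29a804c573eb9fcd670c)])]

def h0_D1 : List ℕ := [(nat_lit 0), (nat_lit 513), (nat_lit 1025), (nat_lit 1537), (nat_lit 2049), (nat_lit 62466), (nat_lit 69122), (nat_lit 75778), (nat_lit 93698), (nat_lit 101890), (nat_lit 109570), (nat_lit 131586), (nat_lit 140290), (nat_lit 149506), (nat_lit 175618), (nat_lit 185346), (nat_lit 195074), (nat_lit 225794), (nat_lit 237058), (nat_lit 247810), (nat_lit 282114), (nat_lit 293890), (nat_lit 306178), (nat_lit 344578), (nat_lit 357378), (nat_lit 370178), (nat_lit 413698),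 (nat_lit 460802), (nat_lit 508418), (nat_lit 766978), (nat_lit 826370), (nat_lit 886274)]

def h0_L2 : List (ℕ × List ℕ) := [((nat_lit 3), [(nat_lit 0xffbbcdeb38bdab49ca307b9ac5a928398a418820), (nat_lit 0x979d0ff10ab97a9c6e9acd5a3b4e2f3b16430820), (nat_lit 0xdfb16fcdfd97171d5e8ecc1a6a94e44b14808860), (nat_lit 0xcaaba8f3f3bafacc0f6d30a14b79093bc0493825), (nat_lit 0xdfaba941f3badd157d3c475a62e29938ec460820), (nat_lit 0x1a84dce93eb82a89c59cff6125e3663d2c47b825), (nat_lit 0x44fbca4258bd9c351bed60b492f9f13e404dd42b), (nat_lit 0x79573a5b7a95706e87ed609d1e78874e408bc06a), (nat_lit 0x7e1d04eb6ab96a69b24d18b915fb343a004ff436), (nat_lit 0x8abbc1b4d8bd85bf651a4d60f04d9f3c964a3825), (nat_lit 0x34c4d4723eb83afc507093b5bb2bec3a4a4cd42b), (nat_lit 0x6604d7c29eb81d9524dadd79f2ce433c56447436), (nat_lit 0x4e2ba63473bac52f3f30a3b88028db3fca48f436), (nat_lit 0xa4dd03358ab945ff21fc8f759060723eec44d42b),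 (nat_lit 0x3744dcba3e9020f29d93faedb56ae14d2a82607c), (nat_lit 0x8ea0e634c59285bf1336a626f074374ff883ac75)]),
  ((nat_lit 0), [(nat_lit 0xffbbcdeb38bdab49ca307b9ac5a928398a418820), (nat_lit 0xa17557f58b0cf9fb48c2db5d9c0128247c71c2ea), (nat_lit 0x8ebbc214d86595b74822bb66f80128c9fd41aff5), (nat_lit 0x3f4aace83033ab79c982fb6c4581287d3d11e37c)]),
  ((nat_lit 1), [(nat_lit 0xffbbcdeb38bdab49ca307b9ac5a928398a418820), (nat_lit 0xdf8aabf5f0fbb91b48eb24da6c5528a075918980), (nat_lit 0xbfb55f948bdcd4774a98cd9a1871288b3af188c0)])]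

def h0_D2 : List ℕ := [(nat_lit 0), (nat_lit 513), (nat_lit 1025), (nat_lit 1537), (nat_lit 769), (nat_lit 47618), (nat_lit 72194), (nat_lit 79874), (nat_lit 86786), (nat_lit 108034), (nat_lit 129538), (nat_lit 139010), (nat_lit 165378), (nat_lit 226818), (nat_lit 277506), (nat_lit 331778), (nat_lit 0), (nat_lit 5486851), (nat_lit 921871620), (nat_lit 1053095684), (nat_lit 0), (nat_lit 7708931), (nat_lit 8349955)]

def h0_L3 : List (ℕ × List ℕ) := [((nat_lit 3), [(nat_lit 0xffbbcdeb38bdab49ca307b9ac5a928398a418820), (nat_lit 0x979d0ff10ab97a9c6e9acd5a3b4e2f3b16430820), (nat_lit 0xdfaba941f3badd157d3c475a62e29938ec460820)])]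

def h0_D3 : List ℕ := [(nat_lit 0), (nat_lit 513), (nat_lit 769)]

def h0_L4 : List (ℕ × List ℕ) := [((nat_lit 0), [(nat_lit 0xffbbcdeb38bdab49ca307b9ac5a928398a418820), (nat_lit 0xc5f349c7bff31fcdab49aa0f634a0e6ac6229001), (nat_lit 0xcb6d87cffc2756cd20cad97d4ac0720c5d7480e2), (nat_lit 0xe13ecd1ad96d3787c2635c83d8a145f552075c47), (nat_lit 0xe9d9faef14164d68b97298efc7a4aa0691e805a4), (nat_lit 0xa0b168ad9d3f27faa76532819d3a43bbe014788d), (nat_lit 0xb06995bf8c07e3d316a8d2498d8dd014e4d51fd7), (nat_lit 0x6039d356960e35958dee8c05f9950926d47936fe)]),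
  ((nat_lit 3), [(nat_lit 0xffbbcdeb38bdab49ca307b9ac5a928398a418820), (nat_lit 0x979d0ff10ab97a9c6e9acd5a3b4e2f3b16430820), (nat_lit 0xdfaba941f3badd157d3c475a62e29938ec460820)])]

def h0_D4 : List ℕ := [(nat_lit 0), (nat_lit 513), (nat_lit 1025), (nat_lit 36866), (nat_lit 49666), (nat_lit 65026), (nat_lit 82946), (nat_lit 102402), (nat_lit 0), (nat_lit 1537), (nat_lit 1793)]

def h0 : PM :=
  ⟨(nat_lit 32), (nat_lit 5), [(nat_lit 0xc5f349c7bff31fcdab49aa0f634a0e6ac6229001), (nat_lit 0xdfb55ff66f6c78bccacec42e6a20aa2312718440), (nat_lit 0xdfb16fcdfd97171d5e8ecc1a6a94e44b14808860), (nat_lit 0x979d0ff10ab97a9c6e9acd5a3b4e2f3b16430820), (nat_lit 0xdfaba941f3badd157d3c475a62e29938ec460820)],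
    [[.l 1, .l 2, .l 3, .l 4],
    [.l 1, .mul (.mul (.l 2) (.l 1)) (.l 2), .mul (.mul (.l 3) (.l 1)) (.l 3), .mul (.mul (.mul (.mul (.l 4) (.l 3)) (.l 1)) (.l 3)) (.l 5)],
    [.l 4, .l 3, .mul (.mul (.l 1) (.l 3)) (.l 1)],
    [.l 4],
    [.l 1, .mul (.mul (.l 2) (.l 1)) (.l 2), .l 4]],
    [h0_L0, h0_L1, h0_L2, h0_L3, h0_L4], [h0_D0, h0_D1, h0_D2, h0_D3, h0_D4]⟩

instance h0_ne : NeZero h0.n := ⟨by decide⟩

theorem h0_ok0 : h0.ok0 = true := by decide +kernel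

theorem h0_k0 : allFrom (nat_lit 0) (nat_lit 1) h0.okK = true := by decide +kernel

theorem h0_k1 : allFrom (nat_lit 1) (nat_lit 1) h0.okK = true := by decide +kernel

theorem h0_k2 : allFrom (nat_lit 2) (nat_lit 1) h0.okK = true := by decide +kernel

theorem h0_k3 : allFrom (nat_lit 3) (nat_lit 1) h0.okK = true := by decide +kernel

theorem h0_k4 : allFrom (nat_lit 4) (nat_lit 1) h0.okK = true := by decide +kernel

theorem h0_ok : h0.OK := PM.OK.of_check h0_ok0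
  (of_allFrom_append (of_allFrom_append (of_allFrom_append (of_allFrom_append (of_allFrom_append of_lt_zero h0_k0) h0_k1) h0_k2) h0_k3) h0_k4)

theorem h0_card0 : Nat.card (genW h0.gam (h0.ws 0)) = 1920 := (h0_ok.card 0).trans (by decide +kernel)

theorem h0_card1 : Nat.card (genW h0.gam (h0.ws 1)) = 32 := (h0_ok.card 1).trans (by decide +kernel)

theorem h0_card2 : Nat.card (genW h0.gam (h0.ws 2)) = 192 := (h0_ok.card 2).trans (by decide +kernel)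

theorem h0_card3 : Nat.card (genW h0.gam (h0.ws 3)) = 3 := (h0_ok.card 3).trans (by decide +kernel)

theorem h0_card4 : Nat.card (genW h0.gam (h0.ws 4)) = 24 := (h0_ok.card 4).trans (by decide +kernel)

/-- the central involution -/
abbrev zz {G : Type*} [Group G] (γ : ℕ → G) : G := (γ 1 * γ 2) ^ 4

/-- a noncentral involution of `Q` -/
abbrev uu {G : Type*} [Group G] (γ : ℕ → G) : G := γ 2 * γ 1 * γ 2

/-- a conjugate of `v` -/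
abbrev ww {G : Type*} [Group G] (γ : ℕ → G) : G := γ 1 * γ 3 * γ 1

theorem h0_norm : allP (h0.ws 0) (fun a => allP (h0.ws 1) fun b => h0.eval (.mem 1 (.mul (.mul a b) (.inv a)))) = true := by
  decide +kernel

theorem h0_lab : Lab h0.gam iv := h0_ok.lab (by decide) (by decide +kernel) (by decide)

theorem h0_x1_ev : h0.eval (.lt 40 (.pow (.mul (.l 1) (.l 2)) 4) (.lt 41 (.mul (.mul (.l 2) (.l 1)) (.l 2)) (.and (.mem 1 (.l 40)) (.and (.not (.one (.l 40))) (.and (.one (.mul (.l 40) (.l 40))) (.and (.eq (.mul (.l 1) (.l 40)) (.mul (.l 40) (.l 1))) (.and (.eq (.mul (.mul (.mul (.l 2) (.l 1)) (.l 2)) (.l 40)) (.mul (.l 40) (.mul (.mul (.l 2) (.l 1)) (.l 2)))) (.and (.eq (.mul (.mul (.mul (.l 3) (.l 1)) (.l 3)) (.l 40)) (.mul (.l 40) (.mul (.mul (.l 3) (.l 1)) (.l 3)))) (.eq (.mul (.mul (.mul (.mul (.mul (.l 4) (.l 3)) (.l 1)) (.l 3)) (.l 5)) (.l 40)) (.mul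 (.l 40) (.mul (.mul (.mul (.mul (.l 4) (.l 3)) (.l 1)) (.l 3)) (.l 5)))))))))))) = true := by
  decide +kernel

theorem h0_x1 {G : Type*} [Group G] {γ : ℕ → G} (h : IsoW h0.gam γ) :
    (γ 1 * γ 2) ^ 4 ∈ genW γ (h0.ws 1) ∧ (γ 1 * γ 2) ^ 4 ≠ 1 ∧ (γ 1 * γ 2) ^ 4 * (γ 1 * γ 2) ^ 4 = 1 ∧ γ 1 * (γ 1 * γ 2) ^ 4 = (γ 1 * γ 2) ^ 4 * γ 1 ∧ γ 2 * γ 1 * γ 2 * (γ 1 * γ 2) ^ 4 = (γ 1 * γ 2) ^ 4 * (γ 2 * γ 1 * γ 2) ∧ γ 3 * γ 1 * γ 3 * (γ 1 * γ 2) ^ 4 = (γ 1 * γ 2) ^ 4 * (γ 3 * γ 1 * γ 3) ∧ γ 4 * γ 3 * γ 1 * γ 3 * γ 5 * (γ 1 * γ 2) ^ 4 = (γ 1 * γ 2) ^ 4 * (γ 4 * γ 3 * γ 1 * γ 3 * γ 5) :=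
  h0_ok.transfer h h0_x1_ev

theorem h0_x2_ev : h0.eval (.lt 40 (.pow (.mul (.l 1) (.l 2)) 4) (.lt 41 (.mul (.mul (.l 2) (.l 1)) (.l 2)) (.all 1 42 [] (.or (.one (.mul (.l 42) (.l 42))) (.eq (.mul (.l 42) (.l 42)) (.l 40)))))) = true := by
  decide +kernel

theorem h0_x2 {G : Type*} [Group G] {γ : ℕ → G} (h : IsoW h0.gam γ) :
    ∀ x ∈ genW γ (h0.ws 1), x * x = 1 ∨ x * x = (γ 1 * γ 2) ^ 4 :=
  h0_ok.transfer h h0_x2_ev

theorem h0_x4_ev : h0.eval (.lt 40 (.pow (.mul (.l 1) (.l 2)) 4) (.lt 41 (.mul (.mul (.l 2) (.l 1)) (.l 2)) (.all 0 42 [(.l 1, .l 1), (.mul (.mul (.l 2) (.l 1)) (.l 2), .mul (.mul (.l 2) (.l 1)) (.l 2)), (.mul (.mul (.l 3) (.l 1)) (.l 3), .mul (.mul (.l 3) (.l 1)) (.l 3)), (.mul (.mul (.mul (.mul (.l 4) (.l 3)) (.l 1)) (.l 3)) (.l 5), .mul (.mul (.mul (.mul (.l 4) (.l 3)) (.l 1)) (.l 3)) (.l 5))] (.or (.one (.l 42)) (.eq (.l 42) (.l 40))))))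 = true := by
  decide +kernel

theorem h0_x4 {G : Type*} [Group G] {γ : ℕ → G} (h : IsoW h0.gam γ) :
    ∀ x ∈ genW γ (h0.ws 0), x * γ 1 = γ 1 * x → x * (γ 2 * γ 1 * γ 2) = γ 2 * γ 1 * γ 2 * x → x * (γ 3 * γ 1 * γ 3) = γ 3 * γ 1 * γ 3 * x → x * (γ 4 * γ 3 * γ 1 * γ 3 * γ 5) = γ 4 * γ 3 * γ 1 * γ 3 * γ 5 * x → x = 1 ∨ x = (γ 1 * γ 2) ^ 4 :=
  h0_ok.transfer h h0_x4_ev

theorem h0_a1_ev : h0.eval (.lt 40 (.pow (.mul (.l 1) (.l 2)) 4) (.lt 41 (.mul (.mul (.l 2) (.l 1)) (.l 2)) (.all 1 42 [] (.ex 1 43 [(.l 42, .l 42)] (.eq (.mul (.l 43) (.l 43)) (.l 40)))))) = true := by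
  decide +kernel

theorem h0_a1 {G : Type*} [Group G] {γ : ℕ → G} (h : IsoW h0.gam γ) :
    ∀ w ∈ genW γ (h0.ws 1), ∃ j ∈ genW γ (h0.ws 1), j * w = w * j ∧ j * j = (γ 1 * γ 2) ^ 4 :=
  h0_ok.transfer h h0_a1_ev

theorem h0_a2_ev : h0.eval (.lt 40 (.pow (.mul (.l 1) (.l 2)) 4) (.lt 41 (.mul (.mul (.l 2) (.l 1)) (.l 2)) (.all 0 42 [] (.imp (.one (.pow (.l 42) 4)) (.imp (.not (.one (.mul (.l 42) (.l 42)))) (.imp (.not (.eq (.mul (.l 42) (.l 42)) (.l 40))) (.imp (.mem 1 (.mul (.l 42) (.l 42))) (.ex 1 43 [(.mul (.l 42) (.l 42), .mul (.l 42) (.l 42))] (.and (.eq (.mul (.l 43) (.l 43)) (.l 40)) (.one (.mul (.mul (.l 42) (.l 43)) (.mul (.l 42) (.l 43))))))))))))) = true := by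
  decide +kernel

theorem h0_a2 {G : Type*} [Group G] {γ : ℕ → G} (h : IsoW h0.gam γ) :
    ∀ x ∈ genW γ (h0.ws 0), x ^ 4 = 1 → x * x ≠ 1 → x * x ≠ (γ 1 * γ 2) ^ 4 → x * x ∈ genW γ (h0.ws 1) → ∃ j ∈ genW γ (h0.ws 1), j * (x * x) = x * x * j ∧ j * j = (γ 1 * γ 2) ^ 4 ∧ x * j * (x * j) = 1 :=
  h0_ok.transfer h h0_a2_ev

theorem h0_a3_ev : h0.eval (.lt 40 (.pow (.mul (.l 1) (.l 2)) 4) (.lt 41 (.mul (.mul (.l 2) (.l 1)) (.l 2)) (.all 0 42 [] (.imp (.one (.pow (.l 42) 4)) (.imp (.not (.one (.mul (.l 42) (.l 42)))) (.imp (.not (.eq (.mul (.l 42) (.l 42)) (.l 40))) (.imp (.mem 1 (.mul (.l 42) (.l 42))) (.all 1 43 [] (.imp (.eq (.mul (.l 43) (.l 43)) (.l 40)) (.not (.eq (.mul (.l 42) (.l 43)) (.mul (.inv (.l 43)) (.l 42))))))))))))) = true := by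
  decide +kernel

theorem h0_a3 {G : Type*} [Group G] {γ : ℕ → G} (h : IsoW h0.gam γ) :
    ∀ x ∈ genW γ (h0.ws 0), x ^ 4 = 1 → x * x ≠ 1 → x * x ≠ (γ 1 * γ 2) ^ 4 → x * x ∈ genW γ (h0.ws 1) → ∀ j ∈ genW γ (h0.ws 1), j * j = (γ 1 * γ 2) ^ 4 → x * j ≠ j⁻¹ * x :=
  h0_ok.transfer h h0_a3_ev

theorem h0_a4_ev : h0.eval (.lt 40 (.pow (.mul (.l 1) (.l 2)) 4) (.lt 41 (.mul (.mul (.l 2) (.l 1)) (.l 2)) (.all 0 42 [] (.imp (.eq (.mul (.l 42) (.l 42)) (.l 40)) (.mem 1 (.l 42)))))) = true := by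
  decide +kernel

theorem h0_a4 {G : Type*} [Group G] {γ : ℕ → G} (h : IsoW h0.gam γ) :
    ∀ x ∈ genW γ (h0.ws 0), x * x = (γ 1 * γ 2) ^ 4 → x ∈ genW γ (h0.ws 1) :=
  h0_ok.transfer h h0_a4_ev

theorem h0_a5_ev : h0.eval (.all 0 40 [] (.imp (.one (.mul (.l 40) (.l 40))) (.or (.mem 1 (.l 40)) (.ex 0 41 [(.l 3, .l 40)] (.tt))))) = true := by
  decide +kernel

theorem h0_a5 {G : Type*} [Group G] {γ : ℕ → G} (h : IsoW h0.gam γ) :
    ∀ x ∈ genW γ (h0.ws 0), x * x = 1 → x ∈ genW γ (h0.ws 1) ∨ (∃ g ∈ genW γ (h0.ws 0), g * γ 3 = x * g ∧ True) :=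
  h0_ok.transfer h h0_a5_ev

theorem h0_a6_ev : h0.eval (.and (.not (.mem 1 (.l 2))) (.and (.not (.mem 1 (.l 3))) (.not (.mem 1 (.mul (.l 5) (.l 2)))))) = true := by
  decide +kernel

theorem h0_a6 {G : Type*} [Group G] {γ : ℕ → G} (h : IsoW h0.gam γ) :
    γ 2 ∉ genW γ (h0.ws 1) ∧ γ 3 ∉ genW γ (h0.ws 1) ∧ γ 5 * γ 2 ∉ genW γ (h0.ws 1) :=
  h0_ok.transfer h h0_a6_ev

theorem h0_b1_ev : h0.eval (.lt 40 (.pow (.mul (.l 1) (.l 2)) 4) (.lt 41 (.mul (.mul (.l 2) (.l 1)) (.l 2)) (.all 1 42 [] (.imp (.one (.mul (.l 42) (.l 42))) (.imp (.not (.one (.l 42))) (.imp (.not (.eq (.l 42) (.l 40))) (.ex 0 43 [(.l 42, .mul (.l 40) (.l 41))] (.tt)))))))) = true := by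
  decide +kernel

theorem h0_b1 {G : Type*} [Group G] {γ : ℕ → G} (h : IsoW h0.gam γ) :
    ∀ x ∈ genW γ (h0.ws 1), x * x = 1 → x ≠ 1 → x ≠ (γ 1 * γ 2) ^ 4 → ∃ g ∈ genW γ (h0.ws 0), g * x = (γ 1 * γ 2) ^ 4 * (γ 2 * γ 1 * γ 2) * g ∧ True :=
  h0_ok.transfer h h0_b1_ev

theorem h0_b2_ev : h0.eval (.lt 40 (.pow (.mul (.l 1) (.l 2)) 4) (.lt 41 (.mul (.mul (.l 2) (.l 1)) (.l 2)) (.all 0 42 [] (.imp (.one (.pow (.l 42) 3)) (.all 1 43 [(.l 42, .l 42)] (.imp (.one (.mul (.l 43) (.l 43))) (.imp (.not (.one (.l 43))) (.imp (.not (.eq (.l 43) (.l 40))) (.ex 1 44 [(.l 42, .l 42), (.l 43, .mul (.l 43) (.l 40))] (.one (.mul (.l 44) (.l 44)))))))))))) = true := by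
  decide +kernel

theorem h0_b2 {G : Type*} [Group G] {γ : ℕ → G} (h : IsoW h0.gam γ) :
    ∀ x ∈ genW γ (h0.ws 0), x ^ 3 = 1 → ∀ w ∈ genW γ (h0.ws 1), w * x = x * w → w * w = 1 → w ≠ 1 → w ≠ (γ 1 * γ 2) ^ 4 → ∃ s ∈ genW γ (h0.ws 1), s * x = x * s ∧ s * w = w * (γ 1 * γ 2) ^ 4 * s ∧ s * s = 1 :=
  h0_ok.transfer h h0_b2_ev

theorem h0_b3_ev : h0.eval (.lt 40 (.pow (.mul (.l 1) (.l 2)) 4) (.lt 41 (.mul (.mul (.l 2) (.l 1)) (.l 2)) (.all 2 42 [(.l 4, .l 4)] (.imp (.one (.mul (.mul (.l 42) (.l 1)) (.mul (.l 42) (.l 1)))) (.or (.one (.l 42)) (.eq (.l 42) (.l 40))))))) = true := by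
  decide +kernel

theorem h0_b3 {G : Type*} [Group G] {γ : ℕ → G} (h : IsoW h0.gam γ) :
    ∀ c ∈ genW γ (h0.ws 2), c * γ 4 = γ 4 * c → c * γ 1 * (c * γ 1) = 1 → c = 1 ∨ c = (γ 1 * γ 2) ^ 4 :=
  h0_ok.transfer h h0_b3_ev

theorem h0_b4_ev : h0.eval (.lt 40 (.pow (.mul (.l 1) (.l 2)) 4) (.lt 41 (.mul (.mul (.l 2) (.l 1)) (.l 2)) (.all 0 42 [(.l 41, .l 41)] (.mem 2 (.l 42))))) = true := by
  decide +kernel

theorem h0_b4 {G : Type*} [Group G] {γ : ℕ → G} (h : IsoW h0.gam γ) :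
    ∀ x ∈ genW γ (h0.ws 0), x * (γ 2 * γ 1 * γ 2) = γ 2 * γ 1 * γ 2 * x → x ∈ genW γ (h0.ws 2) :=
  h0_ok.transfer h h0_b4_ev

theorem h0_b5_ev : h0.eval (.lt 40 (.pow (.mul (.l 1) (.l 2)) 4) (.lt 41 (.mul (.mul (.l 2) (.l 1)) (.l 2)) (.lt 42 (.mul (.mul (.l 1) (.l 3)) (.l 1)) (.all 2 43 [] (.imp (.one (.mul (.l 43) (.l 43))) (.imp (.one (.pow (.mul (.l 43) (.l 4)) 3)) (.all 2 44 [] (.imp (.one (.mul (.l 44) (.l 44))) (.imp (.one (.pow (.mul (.l 44) (.l 4)) 3)) (.imp (.eq (.pow (.mul (.l 43) (.l 44)) 2) (.l 41)) (.imp (.all 3 45 [] (.and (.imp (.eq (.l 43) (.mul (.mul (.l 45) (.l 3)) (.inv (.l 45)))) (.eq (.mul (.mul (.l 45) (.l 43)) (.inv (.l 45))) (.l 3))) (.and (.imp (.eq (.l 43) (.mul (.mul (.l 45) (.l 42)) (.inv (.l 45)))) (.eq (.mul (.mul (.l 45) (.l 44)) (.inv (.l 45))) (.l 3))) (.imp (.eq (.l 44) (.mul (.mul (.l 45) (.l 42)) (.inv (.l 45)))) (.eq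 (.mul (.mul (.l 45) (.l 44)) (.inv (.l 45))) (.l 42)))))) (.eq (.l 44) (.mul (.mul (.l 4) (.l 3)) (.l 5)))))))))))))) = true := by
  decide +kernel

theorem h0_b5 {G : Type*} [Group G] {γ : ℕ → G} (h : IsoW h0.gam γ) :
    ∀ a ∈ genW γ (h0.ws 2), a * a = 1 → (a * γ 4) ^ 3 = 1 → ∀ b ∈ genW γ (h0.ws 2), b * b = 1 → (b * γ 4) ^ 3 = 1 → (a * b) ^ 2 = γ 2 * γ 1 * γ 2 → (∀ c ∈ genW γ (h0.ws 3), (a = c * γ 3 * c⁻¹ → c * a * c⁻¹ = γ 3) ∧ (a = c * (γ 1 * γ 3 * γ 1) * c⁻¹ → c * b * c⁻¹ = γ 3) ∧ (b = c * (γ 1 * γ 3 * γ 1) * c⁻¹ → c * b * c⁻¹ = γ 1 * γ 3 * γ 1)) → b = γ 4 * γ 3 * γ 5 :=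
  h0_ok.transfer h h0_b5_ev

theorem h0_b6_ev : h0.eval (.lt 40 (.pow (.mul (.l 1) (.l 2)) 4) (.lt 41 (.mul (.mul (.l 2) (.l 1)) (.l 2)) (.lt 42 (.mul (.mul (.l 1) (.l 3)) (.l 1)) (.and (.mem 1 (.mul (.l 40) (.l 41))) (.and (.one (.mul (.mul (.l 40) (.l 41)) (.mul (.l 40) (.l 41)))) (.and (.not (.one (.mul (.l 40) (.l 41)))) (.and (.not (.eq (.mul (.l 40) (.l 41)) (.l 40))) (.and (.eq (.mul (.l 4) (.mul (.l 40) (.l 41))) (.mul (.mul (.l 40) (.l 41)) (.l 4))) (.and (.one (.mul (.l 41) (.l 41))) (.and (.eq (.mul (.l 40) (.l 41)) (.mul (.l 41) (.l 40))) (.and (.eq (.mul (.mul (.l 1) (.l 41)) (.l 1)) (.mul (.l 40) (.l 41))) (.and (.eq (.mul (.l 3) (.l 41)) (.mul (.l 41) (.l 3))) (.and (.eq (.mul (.l 42) (.l 41)) (.mul (.l 41) (.l 42))) (.and (.eq (.pow (.mul (.l 3) (.l 42)) 2) (.l 40)) (.and (.one (.pow (.mul (.l 3) (.l 4)) 3)) (.and (.one (.pow (.mul (.l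 42) (.l 4)) 3)) (.and (.eq (.pow (.mul (.l 1) (.l 41)) 2) (.l 40)) (.and (.not (.one (.l 4))) (.eq (.mul (.l 4) (.l 41)) (.mul (.l 41) (.l 4))))))))))))))))))))) = true := by
  decide +kernel

theorem h0_b6 {G : Type*} [Group G] {γ : ℕ → G} (h : IsoW h0.gam γ) :
    (γ 1 * γ 2) ^ 4 * (γ 2 * γ 1 * γ 2) ∈ genW γ (h0.ws 1) ∧ (γ 1 * γ 2) ^ 4 * (γ 2 * γ 1 * γ 2) * ((γ 1 * γ 2) ^ 4 * (γ 2 * γ 1 * γ 2)) = 1 ∧ (γ 1 * γ 2) ^ 4 * (γ 2 * γ 1 * γ 2) ≠ 1 ∧ (γ 1 * γ 2) ^ 4 * (γ 2 * γ 1 * γ 2) ≠ (γ 1 * γ 2) ^ 4 ∧ γ 4 * ((γ 1 * γ 2) ^ 4 * (γ 2 * γ 1 * γ 2)) = (γ 1 * γ 2) ^ 4 * (γ 2 * γ 1 * γ 2) * γ 4 ∧ γ 2 * γ 1 * γ 2 * (γ 2 * γ 1 * γ 2) = 1 ∧ (γ 1 * γ 2) ^ 4 * (γ 2 * γ 1 * γ 2) = γ 2 * γ 1 * γ 2 * (γ 1 * γ 2) ^ 4 ∧ γ 1 * (γ 2 * γ 1 * γ 2) * γ 1 = (γ 1 * γ 2) ^ 4 * (γ 2 * γ 1 * γ 2) ∧ γ 3 * (γ 2 * γ 1 * γ 2) = γ 2 * γ 1 * γ 2 * γ 3 ∧ γ 1 * γ 3 * γ 1 * (γ 2 * γ 1 * γ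 2) = γ 2 * γ 1 * γ 2 * (γ 1 * γ 3 * γ 1) ∧ (γ 3 * (γ 1 * γ 3 * γ 1)) ^ 2 = (γ 1 * γ 2) ^ 4 ∧ (γ 3 * γ 4) ^ 3 = 1 ∧ (γ 1 * γ 3 * γ 1 * γ 4) ^ 3 = 1 ∧ (γ 1 * (γ 2 * γ 1 * γ 2)) ^ 2 = (γ 1 * γ 2) ^ 4 ∧ γ 4 ≠ 1 ∧ γ 4 * (γ 2 * γ 1 * γ 2) = γ 2 * γ 1 * γ 2 * γ 4 :=
  h0_ok.transfer h h0_b6_ev

theorem h0_c1_ev : h0.eval (.all 0 40 [(.l 4, .l 4)] (.mem 4 (.l 40))) = true := by
  decide +kernel

theorem h0_c1 {G : Type*} [Group G] {γ : ℕ → G} (h : IsoW h0.gam γ) :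
    ∀ x ∈ genW γ (h0.ws 0), x * γ 4 = γ 4 * x → x ∈ genW γ (h0.ws 4) :=
  h0_ok.transfer h h0_c1_ev

theorem h0_e1_ev : h0.eval (.lt 40 (.pow (.mul (.l 1) (.l 2)) 4) (.lt 41 (.mul (.mul (.l 2) (.l 1)) (.l 2)) (.and (.all 0 42 [(.l 3, .l 3)] (.imp (.one (.pow (.l 42) 5)) (.one (.l 42)))) (.all 0 42 [(.mul (.l 40) (.l 41), .mul (.l 40) (.l 41))] (.imp (.one (.pow (.l 42) 5)) (.one (.l 42))))))) = true := by
  decide +kernel

theorem h0_e1 {G : Type*} [Group G] {γ : ℕ → G} (h : IsoW h0.gam γ) :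
    (∀ f ∈ genW γ (h0.ws 0), f * γ 3 = γ 3 * f → f ^ 5 = 1 → f = 1) ∧ (∀ f ∈ genW γ (h0.ws 0), f * ((γ 1 * γ 2) ^ 4 * (γ 2 * γ 1 * γ 2)) = (γ 1 * γ 2) ^ 4 * (γ 2 * γ 1 * γ 2) * f → f ^ 5 = 1 → f = 1) :=
  h0_ok.transfer h h0_e1_ev

/-- relators of `h0` -/
def relH : List W := [.pow (.l 4) 3, .mul (.mul (.mul (.inv (.l 4)) (.l 2)) (.inv (.l 4))) (.l 2), .mul (.mul (.mul (.inv (.l 4)) (.l 1)) (.l 4)) (.l 1), .mul (.mul (.mul (.mul (.mul (.inv (.l 4)) (.l 3)) (.inv (.l 4))) (.l 3)) (.inv (.l 4))) (.l 3), .mul (.mul (.mul (.mul (.mul (.l 2) (.l 3)) (.l 2)) (.l 3)) (.l 2)) (.l 3), .mul (.mul (.mul (.mul (.mul (.mul (.mul (.mul (.mul (.mul (.mul (.mul (.mul (.mul (.inv (.l 4)) (.l 2)) (.l 1)) (.l 2)) (.l 3)) (.l 4)) (.l 1)) (.l 3)) (.inv (.l 4))) (.l 1)) (.l 3)) (.l 1)) (.l 4)) (.l 3)) (.l 1), .mul (.mul (.inv (.l 4)) (.inv (.l 4))) (.inv (.l 4)), .mul (.mul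 (.mul (.mul (.mul (.mul (.inv (.l 4)) (.inv (.l 4))) (.l 3)) (.l 4)) (.l 3)) (.l 4)) (.l 3), .mul (.mul (.mul (.mul (.mul (.mul (.mul (.inv (.l 4)) (.l 2)) (.inv (.l 4))) (.l 3)) (.l 2)) (.l 3)) (.l 2)) (.l 3), .mul (.mul (.mul (.mul (.mul (.mul (.mul (.inv (.l 4)) (.l 2)) (.l 3)) (.l 4)) (.l 3)) (.l 4)) (.l 3)) (.l 2), .mul (.mul (.mul (.mul (.mul (.mul (.mul (.inv (.l 4)) (.l 1)) (.l 3)) (.inv (.l 4))) (.l 3)) (.inv (.l 4))) (.l 3)) (.l 1), .mul (.mul (.mul (.mul (.mul (.mul (.mul (.l 2) (.l 1)) (.l 2)) (.l 3)) (.l 2)) (.l 1)) (.l 2)) (.l 3), .mul (.mul (.mul (.mul (.mul (.mul (.mul (.l 2) (.l 1)) (.l 3)) (.l 2)) (.l 3)) (.l 1)) (.l 2)) (.l 3), .mul (.mul (.mul (.mul (.mul (.mul (.mul (.l 2) (.l 3)) (.l 1)) (.l 3)) (.l 2)) (.l 3)) (.l 1)) (.l 3), .mul (.mul (.mul (.mul (.mul (.mul (.mul (.mul (.inv (.l 4)) (.inv (.l 4))) (.l 2)) (.l 3)) (.inv (.l 4)))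 (.l 3)) (.inv (.l 4))) (.l 3)) (.l 2), .mul (.mul (.mul (.mul (.mul (.mul (.mul (.mul (.inv (.l 4)) (.inv (.l 4))) (.l 1)) (.l 3)) (.l 4)) (.l 3)) (.l 4)) (.l 3)) (.l 1), .mul (.mul (.mul (.mul (.mul (.mul (.mul (.mul (.mul (.inv (.l 4)) (.l 2)) (.inv (.l 4))) (.l 1)) (.l 2)) (.l 3)) (.l 2)) (.l 1)) (.l 2)) (.l 3), .mul (.mul (.mul (.mul (.mul (.mul (.mul (.mul (.mul (.inv (.l 4)) (.l 2)) (.inv (.l 4))) (.l 3)) (.l 2)) (.l 1)) (.l 2)) (.l 3)) (.l 2)) (.l 1), .mul (.mul (.mul (.mul (.mul (.mul (.mul (.mul (.mul (.inv (.l 4)) (.l 2)) (.inv (.l 4))) (.l 3)) (.l 1)) (.l 2)) (.l 3)) (.l 2)) (.l 1)) (.l 3), .mul (.mul (.mul (.mul (.mul (.mul (.mul (.mul (.mul (.inv (.l 4)) (.l 2)) (.inv (.l 4))) (.l 3)) (.l 1)) (.l 3)) (.l 2)) (.l 3)) (.l 1)) (.l 3), .mul (.mul (.mul (.mul (.mul (.mul (.mul (.mul (.mul (.inv (.l 4)) (.l 2)) (.l 1)) (.inv (.l 4))) (.l 3)) (.l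 2)) (.l 3)) (.l 1)) (.l 2)) (.l 3), .mul (.mul (.mul (.mul (.mul (.mul (.mul (.mul (.mul (.inv (.l 4)) (.l 2)) (.l 1)) (.l 2)) (.l 4)) (.l 3)) (.l 2)) (.l 1)) (.l 2)) (.l 3), .mul (.mul (.mul (.mul (.mul (.mul (.mul (.mul (.mul (.inv (.l 4)) (.l 2)) (.l 1)) (.l 3)) (.l 4)) (.l 3)) (.l 4)) (.l 3)) (.l 1)) (.l 2), .mul (.mul (.mul (.mul (.mul (.mul (.mul (.mul (.mul (.inv (.l 4)) (.l 2)) (.l 3)) (.l 2)) (.l 1)) (.l 2)) (.l 3)) (.l 2)) (.l 4)) (.l 1), .mul (.mul (.mul (.mul (.mul (.mul (.mul (.mul (.mul (.inv (.l 4)) (.l 2)) (.l 3)) (.l 2)) (.l 3)) (.l 2)) (.inv (.l 4))) (.l 3)) (.inv (.l 4))) (.l 3), .mul (.mul (.mul (.mul (.mul (.mul (.mul (.mul (.mul (.inv (.l 4)) (.l 1)) (.l 2)) (.inv (.l 4))) (.l 3)) (.l 2)) (.l 1)) (.l 3)) (.l 2)) (.l 3), .mul (.mul (.mul (.mul (.mul (.mul (.mul (.mul (.mul (.inv (.l 4)) (.l 1)) (.l 2)) (.l 3)) (.l 4)) (.l 3)) (.l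 4)) (.l 3)) (.l 2)) (.l 1), .mul (.mul (.mul (.mul (.mul (.mul (.mul (.mul (.mul (.inv (.l 4)) (.l 1)) (.l 4)) (.l 2)) (.l 3)) (.l 2)) (.l 1)) (.l 2)) (.l 3)) (.l 2), .mul (.mul (.mul (.mul (.mul (.mul (.mul (.mul (.mul (.inv (.l 4)) (.l 3)) (.l 2)) (.l 1)) (.l 2)) (.l 3)) (.l 4)) (.l 2)) (.l 1)) (.l 2), .mul (.mul (.mul (.mul (.mul (.mul (.mul (.mul (.mul (.mul (.inv (.l 4)) (.inv (.l 4))) (.l 2)) (.l 1)) (.l 3)) (.inv (.l 4))) (.l 3)) (.inv (.l 4))) (.l 3)) (.l 1)) (.l 2), .mul (.mul (.mul (.mul (.mul (.mul (.mul (.mul (.mul (.mul (.inv (.l 4)) (.inv (.l 4))) (.l 1)) (.l 2)) (.l 3)) (.inv (.l 4))) (.l 3)) (.inv (.l 4))) (.l 3)) (.l 2)) (.l 1), .mul (.mul (.mul (.mul (.mul (.mul (.mul (.mul (.mul (.mul (.inv (.l 4)) (.inv (.l 4))) (.l 3)) (.l 2)) (.inv (.l 4))) (.l 3)) (.l 2)) (.l 3)) (.inv (.l 4))) (.l 2)) (.l 3), .mul (.mul (.mul (.mul (.mul (.mul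 (.mul (.mul (.mul (.mul (.inv (.l 4)) (.inv (.l 4))) (.l 3)) (.l 4)) (.l 2)) (.l 3)) (.l 2)) (.l 3)) (.l 2)) (.l 4)) (.l 3), .mul (.mul (.mul (.mul (.mul (.mul (.mul (.mul (.mul (.mul (.mul (.inv (.l 4)) (.l 2)) (.inv (.l 4))) (.l 1)) (.l 2)) (.l 3)) (.inv (.l 4))) (.l 2)) (.l 1)) (.l 2)) (.l 4)) (.l 3), .mul (.mul (.mul (.mul (.mul (.mul (.mul (.mul (.mul (.mul (.mul (.inv (.l 4)) (.l 2)) (.inv (.l 4))) (.l 3)) (.l 2)) (.inv (.l 4))) (.l 3)) (.inv (.l 4))) (.l 3)) (.inv (.l 4))) (.l 2)) (.l 3), .mul (.mul (.mul (.mul (.mul (.mul (.mul (.mul (.mul (.mul (.mul (.inv (.l 4)) (.l 2)) (.inv (.l 4))) (.l 3)) (.l 1)) (.l 3)) (.inv (.l 4))) (.l 2)) (.inv (.l 4))) (.l 3)) (.l 1)) (.l 3), .mul (.mul (.mul (.mul (.mul (.mul (.mul (.mul (.mul (.mul (.mul (.inv (.l 4)) (.l 2)) (.inv (.l 4))) (.l 3)) (.l 1)) (.l 3)) (.l 4)) (.l 2)) (.l 4)) (.l 3)) (.l 1)) (.l 3),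 .mul (.mul (.mul (.mul (.mul (.mul (.mul (.mul (.mul (.mul (.mul (.inv (.l 4)) (.l 2)) (.inv (.l 4))) (.l 3)) (.l 4)) (.l 2)) (.l 1)) (.l 2)) (.inv (.l 4))) (.l 3)) (.l 2)) (.l 1), .mul (.mul (.mul (.mul (.mul (.mul (.mul (.mul (.mul (.mul (.mul (.inv (.l 4)) (.l 2)) (.l 1)) (.l 2)) (.l 4)) (.l 3)) (.l 2)) (.l 4)) (.l 1)) (.inv (.l 4))) (.l 2)) (.l 3), .mul (.mul (.mul (.mul (.mul (.mul (.mul (.mul (.mul (.mul (.mul (.inv (.l 4)) (.l 2)) (.l 1)) (.l 3)) (.l 2)) (.l 3)) (.l 1)) (.l 2)) (.inv (.l 4))) (.l 3)) (.inv (.l 4))) (.l 3), .mul (.mul (.mul (.mul (.mul (.mul (.mul (.mul (.mul (.mul (.mul (.inv (.l 4)) (.l 2)) (.l 3)) (.l 2)) (.l 3)) (.l 2)) (.inv (.l 4))) (.l 3)) (.l 2)) (.l 4)) (.l 2)) (.l 3), .mul (.mul (.mul (.mul (.mul (.mul (.mul (.mul (.mul (.mul (.mul (.inv (.l 4)) (.l 2)) (.l 3)) (.l 2)) (.l 3)) (.l 2)) (.inv (.l 4))) (.l 3)) (.l 1)) (.inv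 (.l 4))) (.l 1)) (.l 3), .mul (.mul (.mul (.mul (.mul (.mul (.mul (.mul (.mul (.mul (.mul (.inv (.l 4)) (.l 2)) (.l 3)) (.l 1)) (.l 2)) (.l 3)) (.l 2)) (.l 1)) (.inv (.l 4))) (.l 3)) (.inv (.l 4))) (.l 3), .mul (.mul (.mul (.mul (.mul (.mul (.mul (.mul (.mul (.mul (.mul (.inv (.l 4)) (.l 1)) (.l 2)) (.l 1)) (.l 3)) (.l 4)) (.l 3)) (.l 4)) (.l 3)) (.l 1)) (.l 2)) (.l 1), .mul (.mul (.mul (.mul (.mul (.mul (.mul (.mul (.mul (.mul (.mul (.inv (.l 4)) (.l 1)) (.l 2)) (.l 3)) (.l 2)) (.l 1)) (.l 3)) (.l 2)) (.inv (.l 4))) (.l 3)) (.inv (.l 4))) (.l 3), .mul (.mul (.mul (.mul (.mul (.mul (.mul (.mul (.mul (.mul (.mul (.inv (.l 4)) (.l 1)) (.l 4)) (.l 2)) (.l 3)) (.l 4)) (.l 2)) (.l 1)) (.l 2)) (.inv (.l 4))) (.l 3)) (.l 2), .mul (.mul (.mul (.mul (.mul (.mul (.mul (.mul (.mul (.mul (.mul (.inv (.l 4)) (.l 3)) (.inv (.l 4))) (.l 3)) (.l 1)) (.l 3)) (.l 4)) (.l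 3)) (.l 4)) (.l 3)) (.l 1)) (.l 3), .mul (.mul (.mul (.mul (.mul (.mul (.mul (.mul (.mul (.mul (.mul (.inv (.l 4)) (.l 3)) (.l 2)) (.l 1)) (.l 2)) (.l 3)) (.l 4)) (.l 3)) (.l 2)) (.l 1)) (.l 2)) (.l 3), .mul (.mul (.mul (.mul (.mul (.mul (.mul (.mul (.mul (.mul (.mul (.l 2) (.l 1)) (.l 2)) (.l 1)) (.l 3)) (.l 2)) (.l 3)) (.l 1)) (.l 3)) (.l 1)) (.l 2)) (.l 3), .mul (.mul (.mul (.mul (.mul (.mul (.mul (.mul (.mul (.mul (.mul (.l 2) (.l 1)) (.l 2)) (.l 1)) (.l 3)) (.l 1)) (.l 2)) (.l 1)) (.l 2)) (.l 1)) (.l 3)) (.l 1), .mul (.mul (.mul (.mul (.mul (.mul (.mul (.mul (.mul (.mul (.mul (.l 2) (.l 1)) (.l 3)) (.l 2)) (.l 3)) (.l 1)) (.l 3)) (.l 1)) (.l 3)) (.l 2)) (.l 3)) (.l 1), .mul (.mul (.mul (.mul (.mul (.mul (.mul (.mul (.mul (.mul (.mul (.l 2) (.l 1)) (.l 3)) (.l 1)) (.l 3)) (.l 1)) (.l 2)) (.l 1)) (.l 3)) (.l 1)) (.l 3)) (.l 1)]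

theorem h0_relH : ∀ t ∈ relH, t.ev h0.gam = 1 := h0_ok.rels (by decide +kernel)

/-- relators of `A₅` -/
def relA : List W := [.l 1, .pow (.l 4) 3, .mul (.mul (.mul (.inv (.l 4)) (.l 2)) (.inv (.l 4))) (.l 2), .mul (.mul (.mul (.mul (.mul (.inv (.l 4)) (.l 3)) (.inv (.l 4))) (.l 3)) (.inv (.l 4))) (.l 3), .mul (.mul (.mul (.mul (.mul (.l 2) (.l 3)) (.l 2)) (.l 3)) (.l 2)) (.l 3)]

def tcA_F : Tr := .leaf (nat_lit 0xbb0bb03b0770ba0ba03a0760b90b90390750b80b80380740b70b70370730b60b60360720b50b50350710b40b40340701bb1b913b13a2b623b0b30b303306f2ba2371b81ba0b20b203206e0b10b103106d2b92341311390b00b003006c0af0af02f06b13812f2b52380ae0ae02e06a1361372322b70ad0ad02d0692362b30ac0ac02c0680ab0ab02b0670aa0aa02a0662352ae1aa1b50a90a90290651ab1b42302b40a80a80280641321330a70a70270630a60a60260620a50a50250610a40a40240601b11af2a82311a41b00a30a302305f2af2291a51ae0a20a202205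e0a10a102105d2ad22a12112d0a00a002005c09f09f01f05b12c11f2ab22c09e09e01e05a22b29e09d09d01d0592202aa09c09c01c0582222a909b09b01b0572282a309a09a01a0560990990190552a72241191270980980180540970970170531261172a52260960960160522252960950950150512182a409409401405009309301304f09209201204e1a119f29c2211961a009109101104d29f21d19819e09009001004c21029d08f08f00f04b21c29108e08e00e04a29b21a10e11b11a10f08d08d00d04919919729421908c08c00c04829721508b08b00b04720b29508a08a00a04621428c08908900904529321210911311210a08808800804408708700704308608600604228f20e18818d08508500504108408400404008308300303f28a20908208200203e28720610310710610408108100103d28420308008000003c0f70bb0f60ba0f50b90f40b80f30b70f20b60f10b50f00b42bb2330ef0b323a2b20ee0b20ed0b12392b00ec0b00eb0af2b822e0ea0ae1b71ad0e90ad1b61ac0e80ac0e70ab0e60aa1351290e50a91341280e40a81b31a70e30a71b21a60e20a60e10a50e00a42b12231301230df0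a322f2a212e1220de0a20dd0a122d2a00dc0a00db09f2ac21e0da09e12b11d0d909d12a11c0d809c1a919b0d709b1a819a0d609a0d50992272980d40980d30972a62160d20961251150d10951241140d00941a31930cf0931a21920ce0922a12111201110cd09121f29011e1100cc09019d18f0cb08f19c18e0ca08e21b28d29a20d0c908d29920c11810c0c808c21728b11610b0c708b19518a0c608a1941890c50892132882922080c40881911870c30871901860c208620f28528e20510d1050c108518c1840c008418b1830bf08320a2822892021081020be0822072812862011851810bd0812042802832001821801011000bc080000000)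
def tcA_T : Tr := .leaf (nat_lit 0xefdbaf4e7cb8f0ddb35e9d19b262c382f5cb562bd6a7427cd992a446890a0bf7cf1d386cd18ae58a93a4427ce9a30589101c28301dfb7567cb8efddb766ad4a54674b931e2c380f5db96ed59b260bd6ab52a1325468901e386cc972a509911e3460b1220385080c100)
def tcA_P : Tr := .node (.node (.node (.leaf (nat_lit 0x3e800000880a01c190f40000d280e8000183a800000d839000010e016064008081a05c370020247834000060d2000011a0c00001830800004582c000060b200000280ac00004260380401c17002044382400006092000010a0800001820800004181c00006072000001806c0000500050000181480000040130000104804024008080a01411002023d80c00006032000000802c00004f0008000180280000))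
  (.leaf (nat_lit 0x20d36c00004da2c983728cf002038a0d800006362000022435800018d6800007bcd500001350a82ac0080a1c34800018d280000860d00000634200000a428ccf00202339f900001840cc0000633200000ca6fd686d4c7000043289c5947b2cc0000e0832000018c8800002d8805709731c0000e0231000018c4800007f8c20000630a00001fa30000018c080000289a02fc00008be2294915c8f002047c8bc000062f200000ba2194616c9300204)))
  (.leaf (nat_lit 0x94800001795624c00009a82400001890800002395019400009a2230000188c800002285244c371ac0000d9c2200001888800001b8384485121c0000d96210000188480000648820000620a000017720400004801284d002026287e000061fa00001861f0000187c80000118451ec008087a5f4000057e1e0000187880000111321dc00009781d00001874800001c92c12c00009721c00001870800005b86c00006)))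
  (.node (.node (.leaf (nat_lit 0x1b2000016a1a00001868800001802e3fc3319c0080c6654400004640c8fd07c4500204580620000618a0000157184000045e0b8fa08c4b002045605c00006172000005a0a80e0442f00003548580000616200000320480f0a457000035305400006152000005014c000045209829002020a8271440080942138000184e800001181e3d4231340080c4c4b4000053a1200001848800004cc47000014d0420000610a0000040068060241f000034b83e00006))
  (.leaf (nat_lit 0x7fc007fc007fc007fc007fc007fc007fc007fc007fc007fc007fe563b800018ee80000948ec000063b2000024e3a800018ea80000928e8000063a2000024639800018e680000908e400006392000023e38800018e2800008e8e00000638200000d474d912dcdf00203369e837c00808de81c000063037000018dc80000)))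
  (.leaf (nat_lit 0xba668a9000027a8b8000062e200000b663d40614b300004790b4000062d200001e02c000018b080000770ae000062ba00001d82b000018ac800002906a49c6f2ac0080caa66c00004a81b9250f47300204738a60000629a00001a129400004a21a9221047700204718a00000628200001c2278000189e8000069c9d000012706419c00809ba268000189a800006d89800006262000006017c9700202259ad000016b89400006)))
def tcA_N_0 : Tr := .node (.node (.node (.node (.leaf (nat_lit 1))
  (.leaf (nat_lit 5124)))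
  (.node (.leaf (nat_lit 66))
  (.leaf (nat_lit 0))))
  (.node (.node (.leaf (nat_lit 102860898))
  (.leaf (nat_lit 198)))
  (.leaf (nat_lit 99))))
  (.node (.node (.node (.leaf (nat_lit 70725))
  (.leaf (nat_lit 133)))
  (.leaf (nat_lit 2050)))
  (.node (.node (.leaf (nat_lit 33))
  (.leaf (nat_lit 6150)))
  (.leaf (nat_lit 164))))
def tcA_N_1 : Tr := .node (.node (.node (.node (.leaf (nat_lit 4228))
  (.leaf (nat_lit 133)))
  (.leaf (nat_lit 66)))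
  (.node (.node (.leaf (nat_lit 33))
  (.leaf (nat_lit 198)))
  (.leaf (nat_lit 3075))))
  (.node (.node (.node (.leaf (nat_lit 106009701))
  (.leaf (nat_lit 4101)))
  (.leaf (nat_lit 99)))
  (.node (.node (.leaf (nat_lit 1025))
  (.leaf (nat_lit 0)))
  (.leaf (nat_lit 164))))
def tcA_N : Tr := .node tcA_N_0
  tcA_N_1
noncomputable def tcA : TC :=
  ⟨[.l 0, .l 1, .l 2, .l 3, .l 4, .l 5, .l 6],
    (nat_lit 7), (nat_lit 10), (nat_lit 6582011936), (nat_lit 1), (nat_lit 120), (nat_lit 0), (nat_lit 32), (nat_lit 6), (nat_lit 25),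
    get (nat_lit 10) (nat_lit 0x400c0400c02010030080400c02010030080400c0201003008060180400c01), Tr.get tcA_N, get (nat_lit 20) (nat_lit 0x3ff003ff003ff003ff003ff003ff003ff003ff003ff003ff003ff003ff003ff003ff003ff003ff003ff003ff003ff003ff0000400003000020000100000),
    Tr.get3 tcA_F (nat_lit 24) (nat_lit 5), Tr.get3 tcA_T (nat_lit 7) (nat_lit 7), Tr.get tcA_P⟩

theorem tcA_head : tcA.headOK relA iv = true := by decide +kernel

theorem tcA_b0 : allFrom (nat_lit 0) (nat_lit 6) tcA.blockOK = true := by decide +kernel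

def tcA_Q4 : Tr := .leaf (nat_lit 0x8d0db356148ba077e62237a0d751ef294ce275b26b5c07319b205825f5902a9a1599a7184965795114d4a4f97711c7a4e12d0e526199570ad141404c4cc1b4103604cfe0a00b3d01804008)
theorem tcA_f4_0 : allFrom (nat_lit 0) (nat_lit 60) (tcA.finOK (nat_lit 60) (Tr.get3 tcA_Q4 (nat_lit 10) (nat_lit 6)) (nat_lit 4)) = true := by
  decide +kernel

def tcA_Q3 : Tr := .leaf (nat_lit 0x8e62c8e22d32cc77d9f02dcb375dd2759ca328c67c5f722c872d8b272dd31bc6b5a5645a15c16c57228865055d501651043d1b86a0cc2f168564482307c400f1130c82e03c220780703806)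
theorem tcA_f3_0 : allFrom (nat_lit 0) (nat_lit 60) (tcA.finOK (nat_lit 60) (Tr.get3 tcA_Q3 (nat_lit 10) (nat_lit 6)) (nat_lit 3)) = true := by
  decide +kernel

def tcA_Q2 : Tr := .leaf (nat_lit 0x8de368821783a0f2fcbb7a1e9884a9858a36f9b524c8f2f8ba639851dc732a0a26fc656d05f2488e5214763c4b610451d872491231905e5194909c4a11122494173f0fb098fa3f41601404)
theorem tcA_f2_0 : allFrom (nat_lit 0) (nat_lit 60) (tcA.finOK (nat_lit 60) (Tr.get3 tcA_Q2 (nat_lit 10) (nat_lit 6)) (nat_lit 2)) = true := by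
  decide +kernel

def tcA_Q1 : Tr := .leaf (nat_lit 0x962549424c922449023c8ca2a89a1e86a1282a04801fc7d1ec799e2779da741c8711bc6e1b06a9a4679986518c621805e9745c16c5895a5514e5113c4d9304a920471184410c421023e0f2)
theorem tcA_f1_0 : allFrom (nat_lit 0) (nat_lit 60) (tcA.finOK (nat_lit 60) (Tr.get3 tcA_Q1 (nat_lit 10) (nat_lit 6)) (nat_lit 1)) = true := by
  decide +kernel

theorem tcA_blocks : ∀ t < tcA.k, tcA.blockOK t = true :=
  (of_allFrom_append of_lt_zero tcA_b0)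

/-- index 60 max 61 total 120 facts 301 | needed cosets 120 facts 301 steps 387 trivial 60 -/
theorem tcA_index {G : Type*} [Group G] {γ : ℕ → G} (hL : Lab γ iv) (hr : ∀ t ∈ relA, t.ev γ = 1) {K : Subgroup G}
    (hK : ∀ t ∈ ([] : List W), t.ev γ ∈ K) :
    K.relIndex (genW γ [.l 1, .l 2, .l 3, .l 4]) ≠ 0 ∧ K.relIndex (genW γ [.l 1, .l 2, .l 3, .l 4]) ≤ 60 :=
  TC.relIndex_le (D := tcA) (gens := [1, 2, 3, 4]) hL (List.forall_mem_cons.2 ⟨hL.zero_mem K, hK⟩) hr tcA_head tcA_blocks (by decide) (by decide)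
   (List.forall_mem_cons.2 ⟨⟨_, (of_allFrom_append of_lt_zero tcA_f1_0)⟩,
    List.forall_mem_cons.2 ⟨⟨_, (of_allFrom_append of_lt_zero tcA_f2_0)⟩,
    List.forall_mem_cons.2 ⟨⟨_, (of_allFrom_append of_lt_zero tcA_f3_0)⟩,
    List.forall_mem_cons.2 ⟨⟨_, (of_allFrom_append of_lt_zero tcA_f4_0)⟩,
    fun _ h => absurd h List.not_mem_nil⟩⟩⟩⟩)

def a6_L0 : List (ℕ × List ℕ) := [((nat_lit 2), [(nat_lit 181896), (nat_lit 109320), (nat_lit 165460), (nat_lit 104980), (nat_lit 45396), (nat_lit 21204)]),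
  ((nat_lit 0), [(nat_lit 181896), (nat_lit 114829), (nat_lit 153217), (nat_lit 19083), (nat_lit 119428)]),
  ((nat_lit 1), [(nat_lit 181896), (nat_lit 176800), (nat_lit 170136), (nat_lit 136872)]),
  ((nat_lit 3), [(nat_lit 181896), (nat_lit 120968), (nat_lit 146056)])]

def a6_D0 : List ℕ := [(nat_lit 0), (nat_lit 513), (nat_lit 2049), (nat_lit 51202), (nat_lit 65538), (nat_lit 82946), (nat_lit 0), (nat_lit 75266), (nat_lit 2466563), (nat_lit 53506), (nat_lit 169163524), (nat_lit 0), (nat_lit 265217796), (nat_lit 312991492), (nat_lit 424139012), (nat_lit 0), (nat_lit 24128475397), (nat_lit 33281264389)]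

def a6_L1 : List (ℕ × List ℕ) := [((nat_lit 2), [(nat_lit 181896), (nat_lit 109320)]),
  ((nat_lit 0), [(nat_lit 181896), (nat_lit 49323), (nat_lit 17053), (nat_lit 117377)])]

def a6_D1 : List ℕ := [(nat_lit 0), (nat_lit 513), (nat_lit 0), (nat_lit 1025), (nat_lit 418051), (nat_lit 13125892)]

def a6 : PM :=
  ⟨(nat_lit 6), (nat_lit 3), [(nat_lit 109320), (nat_lit 49323), (nat_lit 9997), (nat_lit 165460)],
    [[.l 1, .l 2, .l 3, .l 4],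
    [.l 1, .l 2]],
    [a6_L0, a6_L1], [a6_D0, a6_D1]⟩

instance a6_ne : NeZero a6.n := ⟨by decide⟩

theorem a6_ok0 : a6.ok0 = true := by decide +kernel

theorem a6_k0 : allFrom (nat_lit 0) (nat_lit 1) a6.okK = true := by decide +kernel

theorem a6_k1 : allFrom (nat_lit 1) (nat_lit 1) a6.okK = true := by decide +kernel

theorem a6_ok : a6.OK := PM.OK.of_check a6_ok0
  (of_allFrom_append (of_allFrom_append of_lt_zero a6_k0) a6_k1)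

theorem a6_card0 : Nat.card (genW a6.gam (a6.ws 0)) = 360 := (a6_ok.card 0).trans (by decide +kernel)

theorem a6_card1 : Nat.card (genW a6.gam (a6.ws 1)) = 8 := (a6_ok.card 1).trans (by decide +kernel)

theorem a6_1_ev : a6.eval (.and (.one (.mul (.l 1) (.l 1))) (.and (.one (.mul (.l 2) (.l 2))) (.and (.one (.pow (.mul (.l 1) (.l 2)) 4)) (.and (.not (.one (.pow (.mul (.l 1) (.l 2)) 2))) (.and (.eq (.mul (.mul (.l 3) (.pow (.mul (.l 1) (.l 2)) 2)) (.inv (.l 3))) (.l 2)) (.and (.eq (.mul (.mul (.l 4) (.pow (.mul (.l 1) (.l 2)) 2)) (.inv (.l 4))) (.l 1)) (.all 0 40 [(.pow (.mul (.l 1) (.l 2)) 2, .pow (.mul (.l 1) (.l 2)) 2)] (.mem 1 (.l 40))))))))) = true := by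
  decide +kernel

theorem a6_1 {G : Type*} [Group G] {γ : ℕ → G} (h : IsoW a6.gam γ) :
    γ 1 * γ 1 = 1 ∧ γ 2 * γ 2 = 1 ∧ (γ 1 * γ 2) ^ 4 = 1 ∧ (γ 1 * γ 2) ^ 2 ≠ 1 ∧ γ 3 * (γ 1 * γ 2) ^ 2 * (γ 3)⁻¹ = γ 2 ∧ γ 4 * (γ 1 * γ 2) ^ 2 * (γ 4)⁻¹ = γ 1 ∧ (∀ x ∈ genW γ (a6.ws 0), x * (γ 1 * γ 2) ^ 2 = (γ 1 * γ 2) ^ 2 * x → x ∈ genW γ (a6.ws 1)) :=
  a6_ok.transfer h a6_1_ev

theorem a6_2_ev : a6.eval (.all 0 40 [] (.imp (.one (.mul (.l 40) (.l 40))) (.imp (.not (.one (.l 40))) (.all 0 41 [(.l 40, .l 40)] (.imp (.one (.mul (.l 41) (.l 41))) (.all 0 42 [(.l 40, .l 40)] (.imp (.one (.mul (.l 42) (.l 42))) (.imp (.eq (.pow (.mul (.l 41) (.l 42)) 2) (.l 40)) (.all 0 43 [(.l 40, .l 42)] (.imp (.one (.mul (.l 43) (.l 43))) (.imp (.one (.pow (.mul (.l 43) (.l 41)) 3)) (.all 0 44 [(.l 40, .l 41)] (.imp (.one (.mul (.l 44) (.l 44))) (.imp (.one (.pow (.mul (.l 44) (.l 42))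 3)) (.and (.one (.pow (.mul (.l 43) (.l 44)) 5)) (.one (.pow (.mul (.mul (.l 41) (.l 44)) (.l 43)) 4))))))))))))))))) = true := by
  decide +kernel

theorem a6_2 {G : Type*} [Group G] {γ : ℕ → G} (h : IsoW a6.gam γ) :
    ∀ z ∈ genW γ (a6.ws 0), z * z = 1 → z ≠ 1 → ∀ t ∈ genW γ (a6.ws 0), t * z = z * t → t * t = 1 → ∀ u ∈ genW γ (a6.ws 0), u * z = z * u → u * u = 1 → (t * u) ^ 2 = z → ∀ s ∈ genW γ (a6.ws 0), s * z = u * s → s * s = 1 → (s * t) ^ 3 = 1 → ∀ q ∈ genW γ (a6.ws 0), q * z = t * q → q * q = 1 → (q * u) ^ 3 = 1 → (s * q) ^ 5 = 1 ∧ (t * q * s) ^ 4 = 1 :=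
  a6_ok.transfer h a6_2_ev

def l7_L0 : List (ℕ × List ℕ) := [((nat_lit 2), [(nat_lit 1754760), (nat_lit 1517320), (nat_lit 1590869), (nat_lit 1751050), (nat_lit 1509578), (nat_lit 121226), (nat_lit 1587537)]),
  ((nat_lit 0), [(nat_lit 1754760), (nat_lit 1265817), (nat_lit 806029), (nat_lit 1467011), (nat_lit 55454), (nat_lit 387716)]),
  ((nat_lit 1), [(nat_lit 1754760), (nat_lit 1620136), (nat_lit 1677984), (nat_lit 1725080)])]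

def l7_D0 : List ℕ := [(nat_lit 0), (nat_lit 513), (nat_lit 1537), (nat_lit 2049), (nat_lit 57346), (nat_lit 82946), (nat_lit 91650), (nat_lit 0), (nat_lit 3825923), (nat_lit 2440451), (nat_lit 4636931), (nat_lit 240669956), (nat_lit 287681796), (nat_lit 0), (nat_lit 14048844037), (nat_lit 19859187973), (nat_lit 1295491683078)]

def l7_L1 : List (ℕ × List ℕ) := [((nat_lit 2), [(nat_lit 1754760), (nat_lit 1517320)]),
  ((nat_lit 0), [(nat_lit 1754760), (nat_lit 117390), (nat_lit 806029), (nat_lit 1523851)])]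

def l7_D1 : List ℕ := [(nat_lit 0), (nat_lit 513), (nat_lit 0), (nat_lit 1025), (nat_lit 418051), (nat_lit 13125892)]

def l7 : PM :=
  ⟨(nat_lit 7), (nat_lit 3), [(nat_lit 1517320), (nat_lit 117390), (nat_lit 1590869), (nat_lit 1751050)],
    [[.l 1, .l 2, .l 3, .l 4],
    [.l 1, .l 2]],
    [l7_L0, l7_L1], [l7_D0, l7_D1]⟩

instance l7_ne : NeZero l7.n := ⟨by decide⟩

theorem l7_ok0 : l7.ok0 = true := by decide +kernel

theorem l7_k0 : allFrom (nat_lit 0) (nat_lit 1) l7.okK = true := by decide +kernel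

theorem l7_k1 : allFrom (nat_lit 1) (nat_lit 1) l7.okK = true := by decide +kernel

theorem l7_ok : l7.OK := PM.OK.of_check l7_ok0
  (of_allFrom_append (of_allFrom_append of_lt_zero l7_k0) l7_k1)

theorem l7_card0 : Nat.card (genW l7.gam (l7.ws 0)) = 168 := (l7_ok.card 0).trans (by decide +kernel)

theorem l7_card1 : Nat.card (genW l7.gam (l7.ws 1)) = 8 := (l7_ok.card 1).trans (by decide +kernel)

theorem l7_1_ev : l7.eval (.and (.one (.mul (.l 1) (.l 1))) (.and (.one (.mul (.l 2) (.l 2))) (.and (.one (.pow (.mul (.l 1) (.l 2)) 4)) (.and (.not (.one (.pow (.mul (.l 1) (.l 2)) 2))) (.and (.eq (.mul (.mul (.l 3) (.pow (.mul (.l 1) (.l 2)) 2)) (.inv (.l 3))) (.l 2)) (.and (.eq (.mul (.mul (.l 4) (.pow (.mul (.l 1) (.l 2)) 2)) (.inv (.l 4))) (.l 1)) (.all 0 40 [(.pow (.mul (.l 1) (.l 2)) 2, .pow (.mul (.l 1) (.l 2)) 2)] (.mem 1 (.l 40))))))))) = true :=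 by
  decide +kernel

theorem l7_1 {G : Type*} [Group G] {γ : ℕ → G} (h : IsoW l7.gam γ) :
    γ 1 * γ 1 = 1 ∧ γ 2 * γ 2 = 1 ∧ (γ 1 * γ 2) ^ 4 = 1 ∧ (γ 1 * γ 2) ^ 2 ≠ 1 ∧ γ 3 * (γ 1 * γ 2) ^ 2 * (γ 3)⁻¹ = γ 2 ∧ γ 4 * (γ 1 * γ 2) ^ 2 * (γ 4)⁻¹ = γ 1 ∧ (∀ x ∈ genW γ (l7.ws 0), x * (γ 1 * γ 2) ^ 2 = (γ 1 * γ 2) ^ 2 * x → x ∈ genW γ (l7.ws 1)) :=
  l7_ok.transfer h l7_1_ev

theorem l7_2_ev : l7.eval (.all 0 40 [] (.imp (.one (.mul (.l 40) (.l 40))) (.imp (.not (.one (.l 40))) (.all 0 41 [(.l 40, .l 40)] (.imp (.one (.mul (.l 41) (.l 41))) (.all 0 42 [(.l 40, .l 40)] (.imp (.one (.mul (.l 42) (.l 42))) (.imp (.eq (.pow (.mul (.l 41) (.l 42)) 2) (.l 40)) (.all 0 43 [(.l 40, .l 42)] (.imp (.one (.mul (.l 43) (.l 43))) (.imp (.one (.pow (.mul (.l 43) (.l 41)) 3)) (.all 0 44 [(.l 40, .l 41)] (.imp (.one (.mul (.l 44) (.l 44))) (.imp (.one (.pow (.mul (.l 44) (.l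 42)) 3)) (.or (.one (.pow (.mul (.l 43) (.l 44)) 3)) (.one (.pow (.mul (.l 43) (.l 44)) 4))))))))))))))))) = true := by
  decide +kernel

theorem l7_2 {G : Type*} [Group G] {γ : ℕ → G} (h : IsoW l7.gam γ) :
    ∀ z ∈ genW γ (l7.ws 0), z * z = 1 → z ≠ 1 → ∀ t ∈ genW γ (l7.ws 0), t * z = z * t → t * t = 1 → ∀ u ∈ genW γ (l7.ws 0), u * z = z * u → u * u = 1 → (t * u) ^ 2 = z → ∀ s ∈ genW γ (l7.ws 0), s * z = u * s → s * s = 1 → (s * t) ^ 3 = 1 → ∀ q ∈ genW γ (l7.ws 0), q * z = t * q → q * q = 1 → (q * u) ^ 3 = 1 → (s * q) ^ 3 = 1 ∨ (s * q) ^ 4 = 1 :=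
  l7_ok.transfer h l7_2_ev

end Cfsg.Lib.T2.J
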