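import Cfsg.Agent.Lib.T2.JH

/-! Coset enumeration certificate: `relH` presents a group of order at most 1920 (generated). -/

set_option autoImplicit false
set_option maxRecDepth 1000000
set_option maxHeartbeats 0

namespace Cfsg.Lib.T2.J

open Cfsg.Lib.Calc Cfsg.Lib.Grp Cfsg.Lib.T2

def tcH_F : Tr := .leaf (nat_lit 0x1fc7f17c5f2fc9f1f47e0dc3e1745e274be0d83d1dc7c0d03c16c5c260bc1d87b0c03b2e49b1d47a268ba0c4392bc99160590cc38248b814057258b714456154551cc741305424cb4134531bc7213c521c071240b11b86e2b88e09c2d230ad0982c1244b1a06a220a81986711847218a72908410c4318862208a2284812808018060100400fc3a278b52f495270b22ec8f1684e1e46d1e06c25cab2d88b0d42b250aa2cc8a0c82a244a92c0890bc290b828234a52b0851ac65128451a4641204421ca329883094230902218c61108410842000000)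
def tcH_T : Tr := .leaf (nat_lit 0xffbbcdeb38bdab49ca307b9ac5a928398a418820)
def tcH_P : Tr := .node (.leaf (nat_lit 0x321a19317f6d00607326e7473310000430180a060245430346074d0b152701c05305d0c06050911561d65621c5825010052e5b21002012e2d000062c160a064705484b09132300e242a5b12111d651c5814172b00430285956582700203281419002012827000062659100804070d526000e1c245910131f6a245910131f00c3224140a060241030509131f0043122124f1321002032221000061c1008040243030509111d008311c561d004021a0a0f002021a1900006180a0d00602161559101300004140a4d060509110060b104f11000010e0647070d002030e4d0d002010e0d000060848090040206054b040700004040241434103050060b0447050000102450300402))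
  (.leaf (nat_lit 0x1ff001ff001ff001ff001ff001ff001ff001ff001ff001ff001ff001ff001ff001ff3e341c10084b09111d353f008313e341c58256b1e5a2b8a3f004313e883f004023c8a888b3b002033c2a2f002023c773b002013c3b000063a2a2d00602386d37917a0020338242900202386b3700201387e00006366a2414193182877800a15361e2100602368400000341c10135a2b770060b34633500001325f317f6d1e21660100f))
def tcH_N_0 : Tr := .node (.node (.node (.node (.leaf (nat_lit 4228))
  (.leaf (nat_lit 133)))
  (.leaf (nat_lit 0xc821886220ca5)))
  (.node (.leaf (nat_lit 107788749542469))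
  (.leaf (nat_lit 0x1882308c4308822))))
  (.node (.node (.leaf (nat_lit 105329562693))
  (.leaf (nat_lit 0x188821944310c45)))
  (.node (.leaf (nat_lit 111159192652869))
  (.leaf (nat_lit 66))))
def tcH_N_1 : Tr := .node (.node (.node (.node (.leaf (nat_lit 102860898))
  (.leaf (nat_lit 198)))
  (.leaf (nat_lit 0x184641106119445)))
  (.node (.leaf (nat_lit 107789790905413))
  (.leaf (nat_lit 33))))
  (.node (.node (.leaf (nat_lit 105263467554))
  (.leaf (nat_lit 0x1946510c2218825)))
  (.node (.leaf (nat_lit 71541373044837))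
  (.leaf (nat_lit 3075))))
def tcH_N_2 : Tr := .node (.node (.node (.node (.leaf (nat_lit 36901))
  (.leaf (nat_lit 4101)))
  (.leaf (nat_lit 0x188a328ca219445)))
  (.node (.leaf (nat_lit 106724636857413))
  (.leaf (nat_lit 0x8c4308c2310c22))))
  (.node (.node (.leaf (nat_lit 37752048677))
  (.leaf (nat_lit 0x194650886208c45)))
  (.node (.leaf (nat_lit 37490874484773))
  (.leaf (nat_lit 99))))
def tcH_N_3 : Tr := .node (.node (.node (.node (.leaf (nat_lit 5285))
  (.leaf (nat_lit 0)))
  (.leaf (nat_lit 0x188a12086410445)))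
  (.node (.leaf (nat_lit 71575734944837))
  (.leaf (nat_lit 1025))))
  (.node (.node (.leaf (nat_lit 2307577186469))
  (.leaf (nat_lit 0x184641906119465)))
  (.node (.leaf (nat_lit 0x44328ca3104a5))
  (.leaf (nat_lit 164))))
def tcH_N_4 : Tr := .node (.node (.node (.node (.leaf (nat_lit 70725))
  (.leaf (nat_lit 133)))
  (.leaf (nat_lit 0x190411146209445)))
  (.node (.leaf (nat_lit 37488657798213))
  (.leaf (nat_lit 0x8c220882308822))))
  (.node (.node (.leaf (nat_lit 72078199877))
  (.leaf (nat_lit 0x184a11944310c45)))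
  (.node (.leaf (nat_lit 107856362899493))
  (.leaf (nat_lit 2050))))
def tcH_N_5 : Tr := .node (.node (.node (.node (.leaf (nat_lit 0x46408c251848310445))
  (.leaf (nat_lit 6150)))
  (.leaf (nat_lit 0x88651044419445)))
  (.node (.leaf (nat_lit 107788751668293))
  (.leaf (nat_lit 33))))
  (.node (.node (.leaf (nat_lit 104255816802))
  (.leaf (nat_lit 0x10ca20888311025)))
  (.node (.leaf (nat_lit 0x82328ca3088a5))
  (.leaf (nat_lit 164))))
def tcH_N_6 : Tr := .node (.node (.node (.node (.leaf (nat_lit 106009701))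
  (.leaf (nat_lit 198)))
  (.leaf (nat_lit 0x184651146119445)))
  (.node (.leaf (nat_lit 106757956408389))
  (.leaf (nat_lit 0x8c230882308c22))))
  (.node (.node (.leaf (nat_lit 105262450722))
  (.leaf (nat_lit 0x882320c8308825)))
  (.node (.leaf (nat_lit 73737142603813))
  (.leaf (nat_lit 99))))
def tcH_N_7 : Tr := .node (.node (.node (.node (.leaf (nat_lit 3358723237))
  (.leaf (nat_lit 0)))
  (.leaf (nat_lit 0x194651046218445)))
  (.node (.leaf (nat_lit 39654427528261))
  (.leaf (nat_lit 66))))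
  (.node (.node (.leaf (nat_lit 1206990767269))
  (.leaf (nat_lit 0x188221906208865)))
  (.node (.leaf (nat_lit 0xc451886510ca5))
  (.leaf (nat_lit 5124))))
def tcH_N : Tr := .node (.node (.node tcH_N_0
  tcH_N_1)
  (.node tcH_N_2
  tcH_N_3))
  (.node (.node tcH_N_4
  tcH_N_5)
  (.node tcH_N_6
  tcH_N_7))
noncomputable def tcH : TC :=
  ⟨[.l 0, .l 1, .l 2, .l 3, .l 4, .l 5, .l 6],
    (nat_lit 5), (nat_lit 8), (nat_lit 6582011936), (nat_lit 29), (nat_lit 32), (nat_lit 3), (nat_lit 32), (nat_lit 2), (nat_lit 72),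
    get (nat_lit 10) (nat_lit 0x1003010030080400c02010030080400c02010030080400c020300c0300c0300c0300c0300c0300c0300c0300c0300c0300b02c0b02c0a0280a0280a0280a0280a0280a0280a0240902008020080200801c0303c060180401003), Tr.get tcH_N, get (nat_lit 20) (nat_lit 0x3ff003ff003ff003ff003ff003ff003ff003ff003ff003ff003ff003ff003ff003ff003ff003ff003ff003ff003ff003ff000330003200031000300002f0002e0002d0002c0002b0002a000290002800027000260002500024000230002200021000200001f0001e0001d0001c0001b0001a000190001800017000160001500014000130001200011000100000f0000e0000d0000c0000b0000a00009000080000700006000050000400003000020000100000),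
    Tr.get3 tcH_F (nat_lit 20) (nat_lit 5), Tr.get3 tcH_T (nat_lit 5) (nat_lit 7), Tr.get tcH_P⟩

theorem tcH_head : tcH.headOK relH iv = true := by decide +kernel

theorem tcH_b0 : allFrom (nat_lit 0) (nat_lit 2) tcH.blockOK = true := by decide +kernel

def tcH_Q4 : Tr := .leaf (nat_lit 0xa43d9d398c8984932f7b3a29717f236736621b5f2c2620570f51184e0c494644)
theorem tcH_f4_0 : allFrom (nat_lit 0) (nat_lit 32) (tcH.finOK (nat_lit 32) (Tr.get3 tcH_Q4 (nat_lit 8) (nat_lit 6)) (nat_lit 4)) = true := by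
  decide +kernel

def tcH_Q3 : Tr := .leaf (nat_lit 0xa8a2a398908a333199918b74756c68696d6432301758135954551612074a0642)
theorem tcH_f3_0 : allFrom (nat_lit 0) (nat_lit 32) (tcH.finOK (nat_lit 32) (Tr.get3 tcH_Q3 (nat_lit 8) (nat_lit 6)) (nat_lit 3)) = true := by
  decide +kernel

def tcH_Q2 : Tr := .leaf (nat_lit 0xa69e9f94953582837c7876726e6a797d6b346f735a155b11525314104c050440)
theorem tcH_f2_0 : allFrom (nat_lit 0) (nat_lit 32) (tcH.finOK (nat_lit 32) (Tr.get3 tcH_Q2 (nat_lit 8) (nat_lit 6)) (nat_lit 2)) = true := by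
  decide +kernel

def tcH_Q1 : Tr := .leaf (nat_lit 0x3fa09a968e3e8680a19b2b978125878f1f1d605c2a241e1c615d0b090a080302)
theorem tcH_f1_0 : allFrom (nat_lit 0) (nat_lit 32) (tcH.finOK (nat_lit 32) (Tr.get3 tcH_Q1 (nat_lit 8) (nat_lit 6)) (nat_lit 1)) = true := by
  decide +kernel

theorem tcH_blocks : ∀ t < tcH.k, tcH.blockOK t = true :=
  (of_allFrom_append of_lt_zero tcH_b0)

/-- index 32 max 32 total 32 facts 85 | needed cosets 32 facts 85 steps 268 trivial 0 -/
theorem tcH_index {G : Type*} [Group G] {γ : ℕ → G} (hL : Lab γ iv) (hr : ∀ t ∈ relH, t.ev γ = 1) {K : Subgroup G}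
    (hK : ∀ t ∈ ([.l 2, .l 3, .l 4] : List W), t.ev γ ∈ K) :
    K.relIndex (genW γ [.l 1, .l 2, .l 3, .l 4]) ≠ 0 ∧ K.relIndex (genW γ [.l 1, .l 2, .l 3, .l 4]) ≤ 32 :=
  TC.relIndex_le (D := tcH) (gens := [1, 2, 3, 4]) hL (List.forall_mem_cons.2 ⟨hL.zero_mem K, hK⟩) hr tcH_head tcH_blocks (by decide) (by decide)
   (List.forall_mem_cons.2 ⟨⟨_, (of_allFrom_append of_lt_zero tcH_f1_0)⟩,
    List.forall_mem_cons.2 ⟨⟨_, (of_allFrom_append of_lt_zero tcH_f2_0)⟩,
    List.forall_mem_cons.2 ⟨⟨_, (of_allFrom_append of_lt_zero tcH_f3_0)⟩,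
    List.forall_mem_cons.2 ⟨⟨_, (of_allFrom_append of_lt_zero tcH_f4_0)⟩,
    fun _ h => absurd h List.not_mem_nil⟩⟩⟩⟩)

end Cfsg.Lib.T2.J
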