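import Cfsg.Agent.Lib.T2.LH

/-! Further facts about the centraliser of a transvection in `L₅(2)` (generated). -/

set_option autoImplicit false
set_option maxRecDepth 1000000
set_option maxHeartbeats 0

namespace Cfsg.Lib.T2.L

open Cfsg.Lib.Calc Cfsg.Lib.Grp Cfsg.Lib.T2

theorem hh_c2_ev : hh.eval (.lt 40 (.mul (.mul (.l 5) (.pow (.mul (.l 3) (.l 4)) 2)) (.l 5)) (.lt 41 (.pow (.mul (.l 1) (.l 40)) 2) (.lt 42 (.mul (.mul (.l 5) (.l 3)) (.l 5)) (.lt 43 (.pow (.mul (.l 3) (.l 4)) 2) (.lt 44 (.pow (.mul (.l 1) (.l 42)) 2) (.lt 45 (.mul (.l 44) (.l 40)) (.all 1 46 [] (.or (.one (.l 46)) (.or (.eq (.l 46) (.l 41)) (.or (.ex 9 47 [(.l 46, .l 44)] (.tt)) (.or (.ex 9 47 [(.l 46, .l 40)] (.tt)) (.or (.ex 9 47 [(.l 46, .l 45)] (.tt)) (.or (.ex 9 47 [(.l 46, .l 42)] (.tt)) (.or (.ex 9 47 [(.l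 46, .mul (.l 42) (.l 41))] (.tt)) (.ex 9 47 [(.l 46, .mul (.l 43) (.l 42))] (.tt)))))))))))))))) = true := by
  decide +kernel

theorem hh_c2 {G : Type*} [Group G] {γ : ℕ → G} (h : IsoW hh.gam (res γ)) :
    ∀ x ∈ KK γ 1, x = 1 ∨ x = zz γ ∨ (∃ g ∈ KK γ 9, g * x = ee γ * g ∧ True) ∨ (∃ g ∈ KK γ 9, g * x = uu γ * g ∧ True) ∨ (∃ g ∈ KK γ 9, g * x = tt γ * g ∧ True) ∨ (∃ g ∈ KK γ 9, g * x = mm γ * g ∧ True) ∨ (∃ g ∈ KK γ 9, g * x = mm γ * zz γ * g ∧ True) ∨ (∃ g ∈ KK γ 9, g * x = pp γ * mm γ * g ∧ True) :=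
  hh_ok.transfer h hh_c2_ev

theorem hh_Cu_ev : hh.eval (.lt 40 (.mul (.mul (.l 5) (.pow (.mul (.l 3) (.l 4)) 2)) (.l 5)) (.all 0 41 [(.l 40, .l 40)] (.mem 3 (.l 41)))) = true := by
  decide +kernel

theorem hh_Cu {G : Type*} [Group G] {γ : ℕ → G} (h : IsoW hh.gam (res γ)) :
    ∀ x ∈ KK γ 0, x * uu γ = uu γ * x → x ∈ KK γ 3 :=
  hh_ok.transfer h hh_Cu_ev

theorem hh_W_ev : hh.eval (.lt 40 (.mul (.mul (.l 5) (.pow (.mul (.l 3) (.l 4)) 2)) (.l 5)) (.lt 41 (.pow (.mul (.l 1) (.l 40)) 2) (.lt 42 (.mul (.mul (.l 5) (.l 3)) (.l 5)) (.lt 43 (.pow (.mul (.l 3) (.l 4)) 2) (.lt 44 (.pow (.mul (.l 1) (.l 42)) 2) (.lt 45 (.mul (.l 44) (.l 40)) (.all 1 46 [] (.or (.one (.l 46)) (.or (.eq (.l 46) (.l 41)) (.or (.or (.ex 9 47 [(.mul (.l 46) (.l 41), .l 45)] (.tt)) (.or (.ex 9 47 [(.mul (.l 46)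 (.l 41), .mul (.l 42) (.l 41))] (.tt)) (.ex 9 47 [(.mul (.l 46) (.l 41), .mul (.l 43) (.l 42))] (.tt)))) (.or (.or (.eq (.l 46) (.l 41)) (.or (.ex 9 47 [(.l 46, .l 44)] (.tt)) (.or (.ex 9 47 [(.l 46, .l 40)] (.tt)) (.ex 9 47 [(.l 46, .l 42)] (.tt))))) (.or (.or (.eq (.mul (.l 46) (.mul (.mul (.l 42) (.l 43)) (.l 40))) (.l 41)) (.or (.ex 9 47 [(.mul (.l 46) (.mul (.mul (.l 42) (.l 43)) (.l 40)), .l 44)] (.tt)) (.or (.ex 9 47 [(.mul (.l 46) (.mul (.mul (.l 42) (.l 43)) (.l 40)), .l 40)] (.tt)) (.ex 9 47 [(.mul (.l 46) (.mul (.mul (.l 42) (.l 43)) (.l 40)), .l 42)] (.tt))))) (.or (.or (.eq (.mul (.l 46) (.mul (.l 3) (.l 40))) (.l 41)) (.or (.ex 9 47 [(.mul (.l 46) (.mul (.l 3) (.l 40)), .l 44)] (.tt)) (.or (.ex 9 47 [(.mul (.l 46) (.mul (.l 3) (.l 40)), .l 40)] (.tt)) (.ex 9 47 [(.mul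 (.l 46) (.mul (.l 3) (.l 40)), .l 42)] (.tt))))) (.or (.eq (.mul (.l 46) (.mul (.mul (.mul (.l 42) (.l 43)) (.l 40)) (.mul (.l 3) (.l 40)))) (.l 41)) (.or (.ex 9 47 [(.mul (.l 46) (.mul (.mul (.mul (.l 42) (.l 43)) (.l 40)) (.mul (.l 3) (.l 40))), .l 44)] (.tt)) (.or (.ex 9 47 [(.mul (.l 46) (.mul (.mul (.mul (.l 42) (.l 43)) (.l 40)) (.mul (.l 3) (.l 40))), .l 40)] (.tt)) (.ex 9 47 [(.mul (.l 46) (.mul (.mul (.mul (.l 42) (.l 43)) (.l 40)) (.mul (.l 3) (.l 40))), .l 42)] (.tt)))))))))))))))))) = true := by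
  decide +kernel

theorem hh_W {G : Type*} [Group G] {γ : ℕ → G} (h : IsoW hh.gam (res γ)) :
    ∀ x ∈ KK γ 1, x = 1 ∨ x = zz γ ∨ ((∃ g ∈ KK γ 9, g * (x * zz γ) = tt γ * g ∧ True) ∨ (∃ g ∈ KK γ 9, g * (x * zz γ) = mm γ * zz γ * g ∧ True) ∨ (∃ g ∈ KK γ 9, g * (x * zz γ) = pp γ * mm γ * g ∧ True)) ∨ (x = zz γ ∨ (∃ g ∈ KK γ 9, g * x = ee γ * g ∧ True) ∨ (∃ g ∈ KK γ 9, g * x = uu γ * g ∧ True) ∨ (∃ g ∈ KK γ 9, g * x = mm γ * g ∧ True)) ∨ (x * (mm γ * pp γ * uu γ) = zz γ ∨ (∃ g ∈ KK γ 9, g * (x * (mm γ * pp γ * uu γ)) = ee γ * g ∧ True) ∨ (∃ g ∈ KK γ 9, g * (x * (mm γ * pp γ * uu γ)) = uu γ * g ∧ True) ∨ (∃ g ∈ KK γ 9, g * (x * (mm γ * pp γ * uu γ)) = mm γ * g ∧ True)) ∨ (x * (γ 3 * uu γ) = zz γ ∨ (∃ g ∈ KK γ 9, g * (x * (γ 3 * uu γ)) = ee γ * g ∧ True) ∨ (∃ g ∈ KK γ 9, g * (x * (γ 3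 * uu γ)) = uu γ * g ∧ True) ∨ (∃ g ∈ KK γ 9, g * (x * (γ 3 * uu γ)) = mm γ * g ∧ True)) ∨ x * (mm γ * pp γ * uu γ * (γ 3 * uu γ)) = zz γ ∨ (∃ g ∈ KK γ 9, g * (x * (mm γ * pp γ * uu γ * (γ 3 * uu γ))) = ee γ * g ∧ True) ∨ (∃ g ∈ KK γ 9, g * (x * (mm γ * pp γ * uu γ * (γ 3 * uu γ))) = uu γ * g ∧ True) ∨ (∃ g ∈ KK γ 9, g * (x * (mm γ * pp γ * uu γ * (γ 3 * uu γ))) = mm γ * g ∧ True) :=
  hh_ok.transfer h hh_W_ev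

theorem hh_Qm_ev : hh.eval (.lt 40 (.mul (.mul (.l 5) (.pow (.mul (.l 3) (.l 4)) 2)) (.l 5)) (.lt 41 (.pow (.mul (.l 1) (.l 40)) 2) (.lt 42 (.mul (.mul (.l 5) (.l 1)) (.l 5)) (.lt 43 (.mul (.mul (.l 5) (.l 3)) (.l 5)) (.lt 44 (.pow (.mul (.l 3) (.l 4)) 2) (.lt 45 (.pow (.mul (.l 1) (.l 43)) 2) (.lt 46 (.mul (.l 45) (.l 40)) (.all 6 47 [(.l 43, .l 43)] (.imp (.one (.mul (.l 47) (.l 47))) (.or (.one (.l 47)) (.or (.eq (.l 47) (.l 41)) (.or (.ex 8 48 [(.l 47, .l 45)] (.tt)) (.or (.ex 9 48 [(.l 47, .l 40)] (.tt)) (.or (.eq (.l 47) (.l 46)) (.or (.eq (.l 47) (.mul (.l 46) (.l 41))) (.or (.ex 2 48 [(.l 47, .mul (.l 45) (.l 44)), (.l 43, .l 43)] (.tt)) (.ex 2 48 [(.l 47, .mul (.l 42) (.l 40)), (.l 43, .l 43)] (.tt)))))))))))))))))) = true := by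
  decide +kernel

theorem hh_Qm {G : Type*} [Group G] {γ : ℕ → G} (h : IsoW hh.gam (res γ)) :
    ∀ x ∈ KK γ 6, x * mm γ = mm γ * x → x * x = 1 → x = 1 ∨ x = zz γ ∨ (∃ g ∈ KK γ 8, g * x = ee γ * g ∧ True) ∨ (∃ g ∈ KK γ 9, g * x = uu γ * g ∧ True) ∨ x = tt γ ∨ x = tt γ * zz γ ∨ (∃ g ∈ KK γ 2, g * x = ee γ * pp γ * g ∧ g * mm γ = mm γ * g ∧ True) ∨ (∃ g ∈ KK γ 2, g * x = nn γ * uu γ * g ∧ g * mm γ = mm γ * g ∧ True) :=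
  hh_ok.transfer h hh_Qm_ev


end Cfsg.Lib.T2.L
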