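import Cfsg.Agent.Lib.T2.ZQ

/-! Facts in `2⁶·Ω₆⁻(2)` (generated). -/

set_option autoImplicit false
set_option maxRecDepth 1000000
set_option maxHeartbeats 0

namespace Cfsg.Lib.T2.Z

open Cfsg.Lib.Calc Cfsg.Lib.Grp Cfsg.Lib.T2

theorem f1_ev : au.eval (.all 0 40 [(.pow (.mul (.l 15) (.l 17)) 2, .inv (.pow (.mul (.l 15) (.l 17)) 2))] (.one (.mul (.l 40) (.l 40)))) = true := by
  decide +kernel

theorem f1 {G : Type*} [Group G] {z : G} {γ : ℕ → G} (h : Bar z γ au.gam) :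
    ∀ a ∈ genW γ (au.ws 0), Md z (a * (γ 15 * γ 17) ^ 2) (((γ 15 * γ 17) ^ 2)⁻¹ * a) → M1 z (a * a) :=
  au_ok.transferM h f1_ev

theorem f3_ev : au.eval (.all 0 40 [(.l 15, .l 15), (.l 16, .l 16), (.l 17, .l 17)] (.or (.one (.l 40)) (.or (.eq (.l 40) (.l 1)) (.or (.eq (.l 40) (.l 2)) (.eq (.l 40) (.mul (.l 1) (.l 2))))))) = true := by
  decide +kernel

theorem f3 {G : Type*} [Group G] {z : G} {γ : ℕ → G} (h : Bar z γ au.gam) :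
    ∀ a ∈ genW γ (au.ws 0), Md z (a * γ 15) (γ 15 * a) → Md z (a * γ 16) (γ 16 * a) → Md z (a * γ 17) (γ 17 * a) → M1 z a ∨ Md z a (γ 1) ∨ Md z a (γ 2) ∨ Md z a (γ 1 * γ 2) :=
  au_ok.transferM h f3_ev

theorem f4_ev : au.eval (.all 0 40 [(.l 1, .l 1), (.l 16, .l 16), (.l 17, .l 17)] (.imp (.eq (.pow (.mul (.l 40) (.l 15)) 4) (.l 1)) (.imp (.one (.mul (.mul (.mul (.mul (.mul (.mul (.mul (.mul (.mul (.mul (.mul (.mul (.mul (.mul (.l 40) (.l 15)) (.l 40)) (.l 17)) (.l 15)) (.l 40)) (.l 17)) (.l 15)) (.l 40)) (.l 17)) (.l 15)) (.l 17)) (.l 40)) (.l 15)) (.l 17))) (.or (.eq (.l 40) (.l 18)) (.eq (.l 40) (.mul (.l 18) (.l 3))))))) = true := by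
  decide +kernel

theorem f4 {G : Type*} [Group G] {z : G} {γ : ℕ → G} (h : Bar z γ au.gam) :
    ∀ a ∈ genW γ (au.ws 0), Md z (a * γ 1) (γ 1 * a) → Md z (a * γ 16) (γ 16 * a) → Md z (a * γ 17) (γ 17 * a) → Md z ((a * γ 15) ^ 4) (γ 1) → M1 z (a * γ 15 * a * γ 17 * γ 15 * a * γ 17 * γ 15 * a * γ 17 * γ 15 * γ 17 * a * γ 15 * γ 17) → Md z a (γ 18) ∨ Md z a (γ 18 * γ 3) :=
  au_ok.transferM h f4_ev

theorem f5_ev : au.eval (.all 0 40 [(.l 1, .l 1), (.l 3, .l 3), (.l 18, .l 18), (.l 16, .l 16), (.mul (.mul (.mul (.mul (.mul (.l 15) (.l 17)) (.l 15)) (.l 17)) (.l 16)) (.l 15), .mul (.mul (.mul (.mul (.mul (.l 15) (.l 17)) (.l 15)) (.l 17)) (.l 16)) (.l 15))] (.imp (.one (.mul (.mul (.mul (.l 19) (.l 40)) (.l 19)) (.l 40))) (.or (.one (.l 40)) (.or (.eq (.l 40) (.l 3)) (.or (.eq (.l 40) (.l 18)) (.eq (.l 40) (.mul (.l 18)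 (.l 3)))))))) = true := by
  decide +kernel

theorem f5 {G : Type*} [Group G] {z : G} {γ : ℕ → G} (h : Bar z γ au.gam) :
    ∀ a ∈ genW γ (au.ws 0), Md z (a * γ 1) (γ 1 * a) → Md z (a * γ 3) (γ 3 * a) → Md z (a * γ 18) (γ 18 * a) → Md z (a * γ 16) (γ 16 * a) → Md z (a * (γ 15 * γ 17 * γ 15 * γ 17 * γ 16 * γ 15)) (γ 15 * γ 17 * γ 15 * γ 17 * γ 16 * γ 15 * a) → M1 z (γ 19 * a * γ 19 * a) → M1 z a ∨ Md z a (γ 3) ∨ Md z a (γ 18) ∨ Md z a (γ 18 * γ 3) :=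
  au_ok.transferM h f5_ev

theorem f6_ev : au.eval (.all 0 40 [(.l 1, .l 1), (.l 2, .l 2), (.l 3, .l 3), (.l 18, .l 18), (.l 19, .l 19), (.l 16, .l 16), (.mul (.mul (.mul (.mul (.mul (.l 15) (.l 17)) (.l 15)) (.l 17)) (.l 16)) (.l 15), .mul (.mul (.mul (.mul (.mul (.l 15) (.l 17)) (.l 15)) (.l 17)) (.l 16)) (.l 15))] (.or (.one (.l 40)) (.eq (.l 40) (.l 3)))) = true := by
  decide +kernel

theorem f6 {G : Type*} [Group G] {z : G} {γ : ℕ → G} (h : Bar z γ au.gam) :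
    ∀ a ∈ genW γ (au.ws 0), Md z (a * γ 1) (γ 1 * a) → Md z (a * γ 2) (γ 2 * a) → Md z (a * γ 3) (γ 3 * a) → Md z (a * γ 18) (γ 18 * a) → Md z (a * γ 19) (γ 19 * a) → Md z (a * γ 16) (γ 16 * a) → Md z (a * (γ 15 * γ 17 * γ 15 * γ 17 * γ 16 * γ 15)) (γ 15 * γ 17 * γ 15 * γ 17 * γ 16 * γ 15 * a) → M1 z a ∨ Md z a (γ 3) :=
  au_ok.transferM h f6_ev

/-- conjugating words -/
def cw_u : List W := [.l 0, .l 19, .l 20, .mul (.l 15) (.l 19), .mul (.l 20) (.l 19), .mul (.mul (.l 16) (.l 15)) (.l 19), .mul (.mul (.l 17) (.l 15)) (.l 19), .mul (.mul (.l 18) (.l 15)) (.l 19), .mul (.mul (.l 19) (.l 15)) (.l 19), .mul (.mul (.l 20) (.l 15)) (.l 19), .mul (.mul (.mul (.l 17) (.l 16)) (.l 15)) (.l 19), .mul (.mul (.mul (.l 18) (.l 16)) (.l 15)) (.l 19), .mul (.mul (.mul (.l 19) (.l 16)) (.l 15)) (.l 19), .mul (.mul (.mul (.l 20) (.l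 16)) (.l 15)) (.l 19), .mul (.mul (.mul (.l 18) (.l 17)) (.l 15)) (.l 19), .mul (.mul (.mul (.l 19) (.l 17)) (.l 15)) (.l 19), .mul (.mul (.mul (.l 20) (.l 17)) (.l 15)) (.l 19), .mul (.mul (.mul (.l 15) (.l 18)) (.l 15)) (.l 19), .mul (.mul (.mul (.l 17) (.l 20)) (.l 15)) (.l 19), .mul (.mul (.mul (.mul (.l 18) (.l 17)) (.l 16)) (.l 15)) (.l 19), .mul (.mul (.mul (.mul (.l 19) (.l 17)) (.l 16)) (.l 15)) (.l 19), .mul (.mul (.mul (.mul (.l 15) (.l 19)) (.l 16)) (.l 15)) (.l 19), .mul (.mul (.mul (.mul (.l 15) (.l 19)) (.l 17)) (.l 15)) (.l 19), .mul (.mul (.mul (.mul (.mul (.l 15) (.l 19)) (.l 17)) (.l 16)) (.l 15)) (.l 19), .mul (.mul (.mul (.mul (.mul (.l 17) (.l 15)) (.l 19)) (.l 16)) (.l 15)) (.l 19), .mul (.mul (.mul (.mul (.mul (.l 16) (.l 15)) (.l 19)) (.l 17)) (.l 15)) (.l 19), .mul (.mul (.mul (.mul (.mul (.mul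 (.l 16) (.l 15)) (.l 19)) (.l 17)) (.l 16)) (.l 15)) (.l 19)]

/-- conjugating words -/
def cw_ut : List W := [.l 0, .l 18, .mul (.l 15) (.l 18), .mul (.mul (.l 16) (.l 15)) (.l 18), .mul (.mul (.l 17) (.l 15)) (.l 18), .mul (.mul (.l 18) (.l 15)) (.l 18), .mul (.mul (.l 19) (.l 15)) (.l 18), .mul (.mul (.mul (.l 17) (.l 16)) (.l 15)) (.l 18), .mul (.mul (.mul (.l 18) (.l 16)) (.l 15)) (.l 18), .mul (.mul (.mul (.l 19) (.l 16)) (.l 15)) (.l 18), .mul (.mul (.mul (.l 18) (.l 17)) (.l 15)) (.l 18), .mul (.mul (.mul (.l 19) (.l 17)) (.l 15)) (.l 18), .mul (.mul (.mul (.l 19) (.l 18)) (.l 15)) (.l 18), .mul (.mul (.mul (.mul (.l 18) (.l 17)) (.l 16)) (.l 15)) (.l 18), .mul (.mul (.mul (.mul (.l 19) (.l 17)) (.l 16)) (.l 15)) (.l 18), .mul (.mul (.mul (.mul (.l 15) (.l 18)) (.l 16)) (.l 15)) (.l 18), .mul (.mul (.mul (.mul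 (.l 19) (.l 18)) (.l 16)) (.l 15)) (.l 18), .mul (.mul (.mul (.mul (.l 15) (.l 19)) (.l 16)) (.l 15)) (.l 18), .mul (.mul (.mul (.mul (.l 15) (.l 18)) (.l 17)) (.l 15)) (.l 18), .mul (.mul (.mul (.mul (.l 19) (.l 18)) (.l 17)) (.l 15)) (.l 18), .mul (.mul (.mul (.mul (.l 15) (.l 19)) (.l 17)) (.l 15)) (.l 18), .mul (.mul (.mul (.mul (.mul (.l 15) (.l 18)) (.l 17)) (.l 16)) (.l 15)) (.l 18), .mul (.mul (.mul (.mul (.mul (.l 19) (.l 18)) (.l 17)) (.l 16)) (.l 15)) (.l 18), .mul (.mul (.mul (.mul (.mul (.l 15) (.l 19)) (.l 17)) (.l 16)) (.l 15)) (.l 18), .mul (.mul (.mul (.mul (.mul (.l 17) (.l 15)) (.l 18)) (.l 16)) (.l 15)) (.l 18), .mul (.mul (.mul (.mul (.mul (.l 15) (.l 19)) (.l 18)) (.l 16)) (.l 15)) (.l 18), .mul (.mul (.mul (.mul (.mul (.l 17) (.l 15)) (.l 19)) (.l 16)) (.l 15)) (.l 18), .mul (.mul (.mul (.mul (.mul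 (.l 16) (.l 15)) (.l 18)) (.l 17)) (.l 15)) (.l 18), .mul (.mul (.mul (.mul (.mul (.l 15) (.l 19)) (.l 18)) (.l 17)) (.l 15)) (.l 18), .mul (.mul (.mul (.mul (.mul (.l 16) (.l 15)) (.l 19)) (.l 17)) (.l 15)) (.l 18), .mul (.mul (.mul (.mul (.mul (.mul (.l 16) (.l 15)) (.l 18)) (.l 17)) (.l 16)) (.l 15)) (.l 18), .mul (.mul (.mul (.mul (.mul (.mul (.l 15) (.l 19)) (.l 18)) (.l 17)) (.l 16)) (.l 15)) (.l 18), .mul (.mul (.mul (.mul (.mul (.mul (.l 16) (.l 15)) (.l 19)) (.l 17)) (.l 16)) (.l 15)) (.l 18), .mul (.mul (.mul (.mul (.mul (.mul (.l 17) (.l 15)) (.l 19)) (.l 18)) (.l 16)) (.l 15)) (.l 18), .mul (.mul (.mul (.mul (.mul (.mul (.l 16) (.l 15)) (.l 19)) (.l 18)) (.l 17)) (.l 15)) (.l 18), .mul (.mul (.mul (.mul (.mul (.mul (.mul (.l 16) (.l 15)) (.l 19)) (.l 18)) (.l 17)) (.l 16)) (.l 15)) (.l 18)]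

/-- conjugating words -/
def cw_r : List W := [.l 0, .l 2, .l 15, .mul (.l 15) (.l 2), .mul (.l 3) (.l 15), .mul (.l 16) (.l 15), .mul (.l 17) (.l 15), .mul (.mul (.l 3) (.l 15)) (.l 2), .mul (.mul (.l 16) (.l 15)) (.l 2), .mul (.mul (.l 17) (.l 15)) (.l 2), .mul (.mul (.l 15) (.l 3)) (.l 15), .mul (.mul (.l 16) (.l 3)) (.l 15), .mul (.mul (.l 17) (.l 3)) (.l 15), .mul (.mul (.l 17) (.l 16)) (.l 15), .mul (.mul (.mul (.l 15) (.l 3)) (.l 15)) (.l 2), .mul (.mul (.mul (.l 16) (.l 3)) (.l 15)) (.l 2), .mul (.mul (.mul (.l 17) (.l 3)) (.l 15)) (.l 2), .mul (.mul (.mul (.l 17) (.l 16)) (.l 15)) (.l 2), .mul (.mul (.mul (.l 17) (.l 16)) (.l 3)) (.l 15), .mul (.mul (.mul (.mul (.l 17) (.l 16)) (.l 3)) (.l 15)) (.l 2)]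

/-- conjugating words -/
def cw_e : List W := [.l 0, .mul (.mul (.l 15) (.l 3)) (.l 15), .mul (.mul (.l 15) (.l 18)) (.l 15), .mul (.mul (.mul (.l 17) (.l 15)) (.l 3)) (.l 15), .mul (.mul (.mul (.l 15) (.l 18)) (.l 3)) (.l 15), .mul (.mul (.mul (.l 16) (.l 15)) (.l 18)) (.l 15), .mul (.mul (.mul (.l 17) (.l 15)) (.l 18)) (.l 15), .mul (.mul (.mul (.l 19) (.l 15)) (.l 18)) (.l 15), .mul (.mul (.mul (.mul (.l 16) (.l 15)) (.l 18)) (.l 3)) (.l 15), .mul (.mul (.mul (.mul (.l 17) (.l 15)) (.l 18)) (.l 3)) (.l 15), .mul (.mul (.mul (.mul (.l 19) (.l 15)) (.l 18)) (.l 3)) (.l 15), .mul (.mul (.mul (.mul (.l 17) (.l 16)) (.l 15)) (.l 18)) (.l 15), .mul (.mul (.mul (.mul (.l 19) (.l 16)) (.l 15)) (.l 18)) (.l 15), .mul (.mul (.mul (.mul (.l 19) (.l 17)) (.l 15)) (.l 18)) (.l 15), .mul (.mul (.mul (.mul (.mul (.l 17) (.l 16))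 (.l 15)) (.l 18)) (.l 3)) (.l 15), .mul (.mul (.mul (.mul (.mul (.l 19) (.l 16)) (.l 15)) (.l 18)) (.l 3)) (.l 15), .mul (.mul (.mul (.mul (.mul (.l 19) (.l 17)) (.l 15)) (.l 18)) (.l 3)) (.l 15), .mul (.mul (.mul (.mul (.mul (.l 15) (.l 17)) (.l 15)) (.l 17)) (.l 16)) (.l 15), .mul (.mul (.mul (.mul (.mul (.l 15) (.l 17)) (.l 16)) (.l 15)) (.l 17)) (.l 15), .mul (.mul (.mul (.mul (.mul (.l 19) (.l 17)) (.l 16)) (.l 15)) (.l 18)) (.l 15), .mul (.mul (.mul (.mul (.mul (.l 15) (.l 19)) (.l 16)) (.l 15)) (.l 18)) (.l 15), .mul (.mul (.mul (.mul (.mul (.l 15) (.l 19)) (.l 17)) (.l 15)) (.l 18)) (.l 15), .mul (.mul (.mul (.mul (.mul (.mul (.l 15) (.l 3)) (.l 15)) (.l 17)) (.l 15)) (.l 3)) (.l 15), .mul (.mul (.mul (.mul (.mul (.mul (.l 15) (.l 18)) (.l 15)) (.l 17)) (.l 15)) (.l 3)) (.l 15), .mul (.mul (.mul (.mul (.mul (.mul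 (.l 15) (.l 17)) (.l 15)) (.l 17)) (.l 16)) (.l 3)) (.l 15), .mul (.mul (.mul (.mul (.mul (.mul (.l 15) (.l 17)) (.l 16)) (.l 15)) (.l 17)) (.l 3)) (.l 15), .mul (.mul (.mul (.mul (.mul (.mul (.l 19) (.l 17)) (.l 16)) (.l 15)) (.l 18)) (.l 3)) (.l 15), .mul (.mul (.mul (.mul (.mul (.mul (.l 15) (.l 19)) (.l 16)) (.l 15)) (.l 18)) (.l 3)) (.l 15), .mul (.mul (.mul (.mul (.mul (.mul (.l 15) (.l 19)) (.l 17)) (.l 15)) (.l 18)) (.l 3)) (.l 15), .mul (.mul (.mul (.mul (.mul (.mul (.l 15) (.l 17)) (.l 3)) (.l 15)) (.l 17)) (.l 16)) (.l 15), .mul (.mul (.mul (.mul (.mul (.mul (.l 15) (.l 18)) (.l 17)) (.l 15)) (.l 17)) (.l 16)) (.l 15), .mul (.mul (.mul (.mul (.mul (.mul (.l 15) (.l 17)) (.l 15)) (.l 18)) (.l 17)) (.l 16)) (.l 15), .mul (.mul (.mul (.mul (.mul (.mul (.l 15) (.l 18)) (.l 16)) (.l 15)) (.l 18)) (.l 16)) (.l 15),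 .mul (.mul (.mul (.mul (.mul (.mul (.l 15) (.l 19)) (.l 16)) (.l 15)) (.l 19)) (.l 16)) (.l 15), .mul (.mul (.mul (.mul (.mul (.mul (.l 15) (.l 17)) (.l 16)) (.l 3)) (.l 15)) (.l 17)) (.l 15), .mul (.mul (.mul (.mul (.mul (.mul (.l 15) (.l 18)) (.l 17)) (.l 16)) (.l 15)) (.l 17)) (.l 15), .mul (.mul (.mul (.mul (.mul (.mul (.l 15) (.l 17)) (.l 16)) (.l 15)) (.l 18)) (.l 17)) (.l 15), .mul (.mul (.mul (.mul (.mul (.mul (.l 15) (.l 19)) (.l 17)) (.l 16)) (.l 15)) (.l 18)) (.l 15), .mul (.mul (.mul (.mul (.mul (.mul (.l 17) (.l 15)) (.l 19)) (.l 16)) (.l 15)) (.l 18)) (.l 15), .mul (.mul (.mul (.mul (.mul (.mul (.l 18) (.l 15)) (.l 19)) (.l 16)) (.l 15)) (.l 18)) (.l 15), .mul (.mul (.mul (.mul (.mul (.mul (.l 19) (.l 15)) (.l 19)) (.l 16)) (.l 15)) (.l 18)) (.l 15), .mul (.mul (.mul (.mul (.mul (.mul (.l 15) (.l 3)) (.l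 15)) (.l 17)) (.l 15)) (.l 18)) (.l 15), .mul (.mul (.mul (.mul (.mul (.mul (.l 15) (.l 18)) (.l 15)) (.l 17)) (.l 15)) (.l 18)) (.l 15), .mul (.mul (.mul (.mul (.mul (.mul (.l 3) (.l 15)) (.l 19)) (.l 17)) (.l 15)) (.l 18)) (.l 15), .mul (.mul (.mul (.mul (.mul (.mul (.l 16) (.l 15)) (.l 19)) (.l 17)) (.l 15)) (.l 18)) (.l 15), .mul (.mul (.mul (.mul (.mul (.mul (.l 17) (.l 15)) (.l 19)) (.l 17)) (.l 15)) (.l 18)) (.l 15), .mul (.mul (.mul (.mul (.mul (.mul (.mul (.l 15) (.l 18)) (.l 3)) (.l 15)) (.l 17)) (.l 15)) (.l 3)) (.l 15), .mul (.mul (.mul (.mul (.mul (.mul (.mul (.l 16) (.l 15)) (.l 18)) (.l 15)) (.l 17)) (.l 15)) (.l 3)) (.l 15), .mul (.mul (.mul (.mul (.mul (.mul (.mul (.l 19) (.l 15)) (.l 18)) (.l 15)) (.l 17)) (.l 15)) (.l 3)) (.l 15), .mul (.mul (.mul (.mul (.mul (.mul (.mul (.l 15) (.l 17)) (.l 3)) (.l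 15)) (.l 17)) (.l 16)) (.l 3)) (.l 15), .mul (.mul (.mul (.mul (.mul (.mul (.mul (.l 15) (.l 18)) (.l 17)) (.l 15)) (.l 17)) (.l 16)) (.l 3)) (.l 15), .mul (.mul (.mul (.mul (.mul (.mul (.mul (.l 15) (.l 17)) (.l 15)) (.l 18)) (.l 17)) (.l 16)) (.l 3)) (.l 15), .mul (.mul (.mul (.mul (.mul (.mul (.mul (.l 15) (.l 18)) (.l 16)) (.l 15)) (.l 18)) (.l 16)) (.l 3)) (.l 15), .mul (.mul (.mul (.mul (.mul (.mul (.mul (.l 15) (.l 19)) (.l 16)) (.l 15)) (.l 19)) (.l 16)) (.l 3)) (.l 15), .mul (.mul (.mul (.mul (.mul (.mul (.mul (.l 15) (.l 17)) (.l 16)) (.l 3)) (.l 15)) (.l 17)) (.l 3)) (.l 15), .mul (.mul (.mul (.mul (.mul (.mul (.mul (.l 15) (.l 18)) (.l 17)) (.l 16)) (.l 15)) (.l 17)) (.l 3)) (.l 15), .mul (.mul (.mul (.mul (.mul (.mul (.mul (.l 15) (.l 17)) (.l 15)) (.l 18)) (.l 15)) (.l 17)) (.l 3)) (.l 15), .mul (.mul (.mul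 (.mul (.mul (.mul (.mul (.l 15) (.l 17)) (.l 16)) (.l 15)) (.l 18)) (.l 17)) (.l 3)) (.l 15), .mul (.mul (.mul (.mul (.mul (.mul (.mul (.l 15) (.l 19)) (.l 17)) (.l 16)) (.l 15)) (.l 18)) (.l 3)) (.l 15), .mul (.mul (.mul (.mul (.mul (.mul (.mul (.l 17) (.l 15)) (.l 19)) (.l 16)) (.l 15)) (.l 18)) (.l 3)) (.l 15), .mul (.mul (.mul (.mul (.mul (.mul (.mul (.l 18) (.l 15)) (.l 19)) (.l 16)) (.l 15)) (.l 18)) (.l 3)) (.l 15), .mul (.mul (.mul (.mul (.mul (.mul (.mul (.l 19) (.l 15)) (.l 19)) (.l 16)) (.l 15)) (.l 18)) (.l 3)) (.l 15), .mul (.mul (.mul (.mul (.mul (.mul (.mul (.l 15) (.l 3)) (.l 15)) (.l 17)) (.l 15)) (.l 18)) (.l 3)) (.l 15), .mul (.mul (.mul (.mul (.mul (.mul (.mul (.l 15) (.l 18)) (.l 15)) (.l 17)) (.l 15)) (.l 18)) (.l 3)) (.l 15), .mul (.mul (.mul (.mul (.mul (.mul (.mul (.l 3) (.l 15)) (.l 19)) (.l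 17)) (.l 15)) (.l 18)) (.l 3)) (.l 15), .mul (.mul (.mul (.mul (.mul (.mul (.mul (.l 16) (.l 15)) (.l 19)) (.l 17)) (.l 15)) (.l 18)) (.l 3)) (.l 15), .mul (.mul (.mul (.mul (.mul (.mul (.mul (.l 17) (.l 15)) (.l 19)) (.l 17)) (.l 15)) (.l 18)) (.l 3)) (.l 15), .mul (.mul (.mul (.mul (.mul (.mul (.mul (.l 15) (.l 18)) (.l 17)) (.l 3)) (.l 15)) (.l 17)) (.l 16)) (.l 15), .mul (.mul (.mul (.mul (.mul (.mul (.mul (.l 16) (.l 15)) (.l 18)) (.l 17)) (.l 15)) (.l 17)) (.l 16)) (.l 15), .mul (.mul (.mul (.mul (.mul (.mul (.mul (.l 17) (.l 15)) (.l 18)) (.l 17)) (.l 15)) (.l 17)) (.l 16)) (.l 15), .mul (.mul (.mul (.mul (.mul (.mul (.mul (.l 19) (.l 15)) (.l 18)) (.l 17)) (.l 15)) (.l 17)) (.l 16)) (.l 15), .mul (.mul (.mul (.mul (.mul (.mul (.mul (.l 15) (.l 17)) (.l 3)) (.l 15)) (.l 18)) (.l 17)) (.l 16)) (.l 15), .mul (.mul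 (.mul (.mul (.mul (.mul (.mul (.l 19) (.l 15)) (.l 17)) (.l 15)) (.l 18)) (.l 17)) (.l 16)) (.l 15), .mul (.mul (.mul (.mul (.mul (.mul (.mul (.l 15) (.l 18)) (.l 17)) (.l 15)) (.l 18)) (.l 17)) (.l 16)) (.l 15), .mul (.mul (.mul (.mul (.mul (.mul (.mul (.l 19) (.l 15)) (.l 18)) (.l 16)) (.l 15)) (.l 18)) (.l 16)) (.l 15), .mul (.mul (.mul (.mul (.mul (.mul (.mul (.l 15) (.l 19)) (.l 18)) (.l 16)) (.l 15)) (.l 19)) (.l 16)) (.l 15), .mul (.mul (.mul (.mul (.mul (.mul (.mul (.l 18) (.l 15)) (.l 19)) (.l 16)) (.l 15)) (.l 19)) (.l 16)) (.l 15), .mul (.mul (.mul (.mul (.mul (.mul (.mul (.l 15) (.l 18)) (.l 17)) (.l 16)) (.l 3)) (.l 15)) (.l 17)) (.l 15), .mul (.mul (.mul (.mul (.mul (.mul (.mul (.l 16) (.l 15)) (.l 18)) (.l 17)) (.l 16)) (.l 15)) (.l 17)) (.l 15), .mul (.mul (.mul (.mul (.mul (.mul (.mul (.l 19) (.l 15))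 (.l 18)) (.l 17)) (.l 16)) (.l 15)) (.l 17)) (.l 15), .mul (.mul (.mul (.mul (.mul (.mul (.mul (.l 15) (.l 18)) (.l 17)) (.l 15)) (.l 18)) (.l 15)) (.l 17)) (.l 15), .mul (.mul (.mul (.mul (.mul (.mul (.mul (.l 15) (.l 17)) (.l 16)) (.l 3)) (.l 15)) (.l 18)) (.l 17)) (.l 15), .mul (.mul (.mul (.mul (.mul (.mul (.mul (.l 16) (.l 15)) (.l 17)) (.l 16)) (.l 15)) (.l 18)) (.l 17)) (.l 15), .mul (.mul (.mul (.mul (.mul (.mul (.mul (.l 19) (.l 15)) (.l 17)) (.l 16)) (.l 15)) (.l 18)) (.l 17)) (.l 15), .mul (.mul (.mul (.mul (.mul (.mul (.mul (.l 15) (.l 18)) (.l 17)) (.l 16)) (.l 15)) (.l 18)) (.l 17)) (.l 15), .mul (.mul (.mul (.mul (.mul (.mul (.mul (.l 3) (.l 15)) (.l 19)) (.l 17)) (.l 16)) (.l 15)) (.l 18)) (.l 15), .mul (.mul (.mul (.mul (.mul (.mul (.mul (.l 16) (.l 15)) (.l 19)) (.l 17)) (.l 16)) (.l 15)) (.l 18)) (.l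 15), .mul (.mul (.mul (.mul (.mul (.mul (.mul (.l 17) (.l 15)) (.l 19)) (.l 17)) (.l 16)) (.l 15)) (.l 18)) (.l 15), .mul (.mul (.mul (.mul (.mul (.mul (.mul (.l 15) (.l 17)) (.l 15)) (.l 19)) (.l 16)) (.l 15)) (.l 18)) (.l 15), .mul (.mul (.mul (.mul (.mul (.mul (.mul (.l 18) (.l 17)) (.l 15)) (.l 19)) (.l 16)) (.l 15)) (.l 18)) (.l 15), .mul (.mul (.mul (.mul (.mul (.mul (.mul (.l 19) (.l 17)) (.l 15)) (.l 19)) (.l 16)) (.l 15)) (.l 18)) (.l 15), .mul (.mul (.mul (.mul (.mul (.mul (.mul (.l 15) (.l 18)) (.l 15)) (.l 19)) (.l 16)) (.l 15)) (.l 18)) (.l 15), .mul (.mul (.mul (.mul (.mul (.mul (.mul (.l 19) (.l 18)) (.l 15)) (.l 19)) (.l 16)) (.l 15)) (.l 18)) (.l 15), .mul (.mul (.mul (.mul (.mul (.mul (.mul (.l 19) (.l 15)) (.l 3)) (.l 15)) (.l 17)) (.l 15)) (.l 18)) (.l 15), .mul (.mul (.mul (.mul (.mul (.mul (.mul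 (.l 15) (.l 18)) (.l 3)) (.l 15)) (.l 17)) (.l 15)) (.l 18)) (.l 15), .mul (.mul (.mul (.mul (.mul (.mul (.mul (.l 15) (.l 2)) (.l 18)) (.l 15)) (.l 17)) (.l 15)) (.l 18)) (.l 15), .mul (.mul (.mul (.mul (.mul (.mul (.mul (.l 15) (.l 3)) (.l 15)) (.l 19)) (.l 17)) (.l 15)) (.l 18)) (.l 15), .mul (.mul (.mul (.mul (.mul (.mul (.mul (.l 16) (.l 3)) (.l 15)) (.l 19)) (.l 17)) (.l 15)) (.l 18)) (.l 15), .mul (.mul (.mul (.mul (.mul (.mul (.mul (.l 17) (.l 3)) (.l 15)) (.l 19)) (.l 17)) (.l 15)) (.l 18)) (.l 15), .mul (.mul (.mul (.mul (.mul (.mul (.mul (.l 17) (.l 16)) (.l 15)) (.l 19)) (.l 17)) (.l 15)) (.l 18)) (.l 15), .mul (.mul (.mul (.mul (.mul (.mul (.mul (.l 15) (.l 17)) (.l 15)) (.l 19)) (.l 17)) (.l 15)) (.l 18)) (.l 15), .mul (.mul (.mul (.mul (.mul (.mul (.mul (.l 20) (.l 17)) (.l 15)) (.l 18)) (.l 17)) (.l 15))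 (.l 19)) (.l 15), .mul (.mul (.mul (.mul (.mul (.mul (.mul (.mul (.l 16) (.l 15)) (.l 18)) (.l 3)) (.l 15)) (.l 17)) (.l 15)) (.l 3)) (.l 15), .mul (.mul (.mul (.mul (.mul (.mul (.mul (.mul (.l 19) (.l 15)) (.l 18)) (.l 3)) (.l 15)) (.l 17)) (.l 15)) (.l 3)) (.l 15), .mul (.mul (.mul (.mul (.mul (.mul (.mul (.mul (.l 19) (.l 16)) (.l 15)) (.l 18)) (.l 15)) (.l 17)) (.l 15)) (.l 3)) (.l 15), .mul (.mul (.mul (.mul (.mul (.mul (.mul (.mul (.l 15) (.l 18)) (.l 17)) (.l 3)) (.l 15)) (.l 17)) (.l 16)) (.l 3)) (.l 15), .mul (.mul (.mul (.mul (.mul (.mul (.mul (.mul (.l 16) (.l 15)) (.l 18)) (.l 17)) (.l 15)) (.l 17)) (.l 16)) (.l 3)) (.l 15), .mul (.mul (.mul (.mul (.mul (.mul (.mul (.mul (.l 17) (.l 15)) (.l 18)) (.l 17)) (.l 15)) (.l 17)) (.l 16)) (.l 3)) (.l 15), .mul (.mul (.mul (.mul (.mul (.mul (.mul (.mul (.l 19) (.l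 15)) (.l 18)) (.l 17)) (.l 15)) (.l 17)) (.l 16)) (.l 3)) (.l 15), .mul (.mul (.mul (.mul (.mul (.mul (.mul (.mul (.l 15) (.l 17)) (.l 3)) (.l 15)) (.l 18)) (.l 17)) (.l 16)) (.l 3)) (.l 15), .mul (.mul (.mul (.mul (.mul (.mul (.mul (.mul (.l 16) (.l 15)) (.l 17)) (.l 15)) (.l 18)) (.l 17)) (.l 16)) (.l 3)) (.l 15), .mul (.mul (.mul (.mul (.mul (.mul (.mul (.mul (.l 17) (.l 15)) (.l 17)) (.l 15)) (.l 18)) (.l 17)) (.l 16)) (.l 3)) (.l 15), .mul (.mul (.mul (.mul (.mul (.mul (.mul (.mul (.l 19) (.l 15)) (.l 17)) (.l 15)) (.l 18)) (.l 17)) (.l 16)) (.l 3)) (.l 15), .mul (.mul (.mul (.mul (.mul (.mul (.mul (.mul (.l 15) (.l 18)) (.l 17)) (.l 15)) (.l 18)) (.l 17)) (.l 16)) (.l 3)) (.l 15), .mul (.mul (.mul (.mul (.mul (.mul (.mul (.mul (.l 17) (.l 15)) (.l 18)) (.l 16)) (.l 15)) (.l 18)) (.l 16)) (.l 3)) (.l 15), .mul (.mul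 (.mul (.mul (.mul (.mul (.mul (.mul (.l 17) (.l 15)) (.l 19)) (.l 16)) (.l 15)) (.l 19)) (.l 16)) (.l 3)) (.l 15), .mul (.mul (.mul (.mul (.mul (.mul (.mul (.mul (.l 15) (.l 18)) (.l 17)) (.l 16)) (.l 3)) (.l 15)) (.l 17)) (.l 3)) (.l 15), .mul (.mul (.mul (.mul (.mul (.mul (.mul (.mul (.l 15) (.l 17)) (.l 15)) (.l 18)) (.l 3)) (.l 15)) (.l 17)) (.l 3)) (.l 15), .mul (.mul (.mul (.mul (.mul (.mul (.mul (.mul (.l 16) (.l 15)) (.l 18)) (.l 17)) (.l 16)) (.l 15)) (.l 17)) (.l 3)) (.l 15), .mul (.mul (.mul (.mul (.mul (.mul (.mul (.mul (.l 19) (.l 15)) (.l 18)) (.l 17)) (.l 16)) (.l 15)) (.l 17)) (.l 3)) (.l 15), .mul (.mul (.mul (.mul (.mul (.mul (.mul (.mul (.l 19) (.l 15)) (.l 17)) (.l 15)) (.l 18)) (.l 15)) (.l 17)) (.l 3)) (.l 15), .mul (.mul (.mul (.mul (.mul (.mul (.mul (.mul (.l 15) (.l 18)) (.l 17)) (.l 15)) (.l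 18)) (.l 15)) (.l 17)) (.l 3)) (.l 15), .mul (.mul (.mul (.mul (.mul (.mul (.mul (.mul (.l 15) (.l 17)) (.l 16)) (.l 3)) (.l 15)) (.l 18)) (.l 17)) (.l 3)) (.l 15), .mul (.mul (.mul (.mul (.mul (.mul (.mul (.mul (.l 16) (.l 15)) (.l 17)) (.l 16)) (.l 15)) (.l 18)) (.l 17)) (.l 3)) (.l 15), .mul (.mul (.mul (.mul (.mul (.mul (.mul (.mul (.l 19) (.l 15)) (.l 17)) (.l 16)) (.l 15)) (.l 18)) (.l 17)) (.l 3)) (.l 15), .mul (.mul (.mul (.mul (.mul (.mul (.mul (.mul (.l 15) (.l 18)) (.l 17)) (.l 16)) (.l 15)) (.l 18)) (.l 17)) (.l 3)) (.l 15), .mul (.mul (.mul (.mul (.mul (.mul (.mul (.mul (.l 15) (.l 18)) (.l 15)) (.l 17)) (.l 16)) (.l 15)) (.l 18)) (.l 3)) (.l 15), .mul (.mul (.mul (.mul (.mul (.mul (.mul (.mul (.l 3) (.l 15)) (.l 19)) (.l 17)) (.l 16)) (.l 15)) (.l 18)) (.l 3)) (.l 15), .mul (.mul (.mul (.mul (.mul (.mul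 (.mul (.mul (.l 16) (.l 15)) (.l 19)) (.l 17)) (.l 16)) (.l 15)) (.l 18)) (.l 3)) (.l 15), .mul (.mul (.mul (.mul (.mul (.mul (.mul (.mul (.l 17) (.l 15)) (.l 19)) (.l 17)) (.l 16)) (.l 15)) (.l 18)) (.l 3)) (.l 15), .mul (.mul (.mul (.mul (.mul (.mul (.mul (.mul (.l 15) (.l 17)) (.l 15)) (.l 19)) (.l 16)) (.l 15)) (.l 18)) (.l 3)) (.l 15), .mul (.mul (.mul (.mul (.mul (.mul (.mul (.mul (.l 18) (.l 17)) (.l 15)) (.l 19)) (.l 16)) (.l 15)) (.l 18)) (.l 3)) (.l 15), .mul (.mul (.mul (.mul (.mul (.mul (.mul (.mul (.l 19) (.l 17)) (.l 15)) (.l 19)) (.l 16)) (.l 15)) (.l 18)) (.l 3)) (.l 15), .mul (.mul (.mul (.mul (.mul (.mul (.mul (.mul (.l 16) (.l 3)) (.l 15)) (.l 19)) (.l 17)) (.l 15)) (.l 18)) (.l 3)) (.l 15), .mul (.mul (.mul (.mul (.mul (.mul (.mul (.mul (.l 17) (.l 3)) (.l 15)) (.l 19)) (.l 17)) (.l 15)) (.l 18))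 (.l 3)) (.l 15), .mul (.mul (.mul (.mul (.mul (.mul (.mul (.mul (.l 17) (.l 16)) (.l 15)) (.l 19)) (.l 17)) (.l 15)) (.l 18)) (.l 3)) (.l 15), .mul (.mul (.mul (.mul (.mul (.mul (.mul (.mul (.l 15) (.l 17)) (.l 15)) (.l 19)) (.l 17)) (.l 15)) (.l 18)) (.l 3)) (.l 15), .mul (.mul (.mul (.mul (.mul (.mul (.mul (.mul (.l 20) (.l 17)) (.l 15)) (.l 18)) (.l 17)) (.l 15)) (.l 19)) (.l 3)) (.l 15), .mul (.mul (.mul (.mul (.mul (.mul (.mul (.mul (.l 19) (.l 15)) (.l 18)) (.l 17)) (.l 3)) (.l 15)) (.l 17)) (.l 16)) (.l 15), .mul (.mul (.mul (.mul (.mul (.mul (.mul (.mul (.l 19) (.l 16)) (.l 15)) (.l 18)) (.l 17)) (.l 15)) (.l 17)) (.l 16)) (.l 15), .mul (.mul (.mul (.mul (.mul (.mul (.mul (.mul (.l 19) (.l 17)) (.l 15)) (.l 18)) (.l 17)) (.l 15)) (.l 17)) (.l 16)) (.l 15), .mul (.mul (.mul (.mul (.mul (.mul (.mul (.mul (.l 15)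 (.l 19)) (.l 15)) (.l 18)) (.l 17)) (.l 15)) (.l 17)) (.l 16)) (.l 15), .mul (.mul (.mul (.mul (.mul (.mul (.mul (.mul (.l 19) (.l 15)) (.l 17)) (.l 3)) (.l 15)) (.l 18)) (.l 17)) (.l 16)) (.l 15), .mul (.mul (.mul (.mul (.mul (.mul (.mul (.mul (.l 15) (.l 18)) (.l 17)) (.l 3)) (.l 15)) (.l 18)) (.l 17)) (.l 16)) (.l 15), .mul (.mul (.mul (.mul (.mul (.mul (.mul (.mul (.l 15) (.l 2)) (.l 18)) (.l 17)) (.l 15)) (.l 18)) (.l 17)) (.l 16)) (.l 15), .mul (.mul (.mul (.mul (.mul (.mul (.mul (.mul (.l 15) (.l 18)) (.l 17)) (.l 15)) (.l 17)) (.l 15)) (.l 18)) (.l 16)) (.l 15), .mul (.mul (.mul (.mul (.mul (.mul (.mul (.mul (.l 15) (.l 17)) (.l 15)) (.l 18)) (.l 17)) (.l 15)) (.l 18)) (.l 16)) (.l 15), .mul (.mul (.mul (.mul (.mul (.mul (.mul (.mul (.l 17) (.l 15)) (.l 19)) (.l 18)) (.l 16)) (.l 15)) (.l 19)) (.l 16)) (.l 15),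 .mul (.mul (.mul (.mul (.mul (.mul (.mul (.mul (.l 15) (.l 17)) (.l 15)) (.l 19)) (.l 17)) (.l 15)) (.l 19)) (.l 16)) (.l 15), .mul (.mul (.mul (.mul (.mul (.mul (.mul (.mul (.l 16) (.l 15)) (.l 18)) (.l 17)) (.l 16)) (.l 3)) (.l 15)) (.l 17)) (.l 15), .mul (.mul (.mul (.mul (.mul (.mul (.mul (.mul (.l 19) (.l 16)) (.l 15)) (.l 18)) (.l 17)) (.l 16)) (.l 15)) (.l 17)) (.l 15), .mul (.mul (.mul (.mul (.mul (.mul (.mul (.mul (.l 15) (.l 18)) (.l 16)) (.l 15)) (.l 18)) (.l 17)) (.l 15)) (.l 17)) (.l 15), .mul (.mul (.mul (.mul (.mul (.mul (.mul (.mul (.l 15) (.l 2)) (.l 18)) (.l 17)) (.l 15)) (.l 18)) (.l 15)) (.l 17)) (.l 15), .mul (.mul (.mul (.mul (.mul (.mul (.mul (.mul (.l 16) (.l 15)) (.l 17)) (.l 16)) (.l 3)) (.l 15)) (.l 18)) (.l 17)) (.l 15), .mul (.mul (.mul (.mul (.mul (.mul (.mul (.mul (.l 19) (.l 15)) (.l 17))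 (.l 16)) (.l 3)) (.l 15)) (.l 18)) (.l 17)) (.l 15), .mul (.mul (.mul (.mul (.mul (.mul (.mul (.mul (.l 15) (.l 18)) (.l 17)) (.l 16)) (.l 3)) (.l 15)) (.l 18)) (.l 17)) (.l 15), .mul (.mul (.mul (.mul (.mul (.mul (.mul (.mul (.l 19) (.l 16)) (.l 15)) (.l 17)) (.l 16)) (.l 15)) (.l 18)) (.l 17)) (.l 15), .mul (.mul (.mul (.mul (.mul (.mul (.mul (.mul (.l 15) (.l 2)) (.l 18)) (.l 17)) (.l 16)) (.l 15)) (.l 18)) (.l 17)) (.l 15), .mul (.mul (.mul (.mul (.mul (.mul (.mul (.mul (.l 15) (.l 18)) (.l 16)) (.l 15)) (.l 17)) (.l 15)) (.l 18)) (.l 17)) (.l 15), .mul (.mul (.mul (.mul (.mul (.mul (.mul (.mul (.l 15) (.l 19)) (.l 16)) (.l 15)) (.l 17)) (.l 15)) (.l 19)) (.l 17)) (.l 15), .mul (.mul (.mul (.mul (.mul (.mul (.mul (.mul (.l 15) (.l 3)) (.l 15)) (.l 19)) (.l 17)) (.l 16)) (.l 15)) (.l 18)) (.l 15), .mul (.mul (.mul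 (.mul (.mul (.mul (.mul (.mul (.l 16) (.l 3)) (.l 15)) (.l 19)) (.l 17)) (.l 16)) (.l 15)) (.l 18)) (.l 15), .mul (.mul (.mul (.mul (.mul (.mul (.mul (.mul (.l 17) (.l 3)) (.l 15)) (.l 19)) (.l 17)) (.l 16)) (.l 15)) (.l 18)) (.l 15), .mul (.mul (.mul (.mul (.mul (.mul (.mul (.mul (.l 3) (.l 15)) (.l 17)) (.l 15)) (.l 19)) (.l 16)) (.l 15)) (.l 18)) (.l 15), .mul (.mul (.mul (.mul (.mul (.mul (.mul (.mul (.l 16) (.l 15)) (.l 17)) (.l 15)) (.l 19)) (.l 16)) (.l 15)) (.l 18)) (.l 15), .mul (.mul (.mul (.mul (.mul (.mul (.mul (.mul (.l 17) (.l 15)) (.l 17)) (.l 15)) (.l 19)) (.l 16)) (.l 15)) (.l 18)) (.l 15), .mul (.mul (.mul (.mul (.mul (.mul (.mul (.mul (.l 19) (.l 18)) (.l 17)) (.l 15)) (.l 19)) (.l 16)) (.l 15)) (.l 18)) (.l 15), .mul (.mul (.mul (.mul (.mul (.mul (.mul (.mul (.l 17) (.l 16)) (.l 3)) (.l 15)) (.l 19))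 (.l 17)) (.l 15)) (.l 18)) (.l 15), .mul (.mul (.mul (.mul (.mul (.mul (.mul (.mul (.l 15) (.l 17)) (.l 3)) (.l 15)) (.l 19)) (.l 17)) (.l 15)) (.l 18)) (.l 15), .mul (.mul (.mul (.mul (.mul (.mul (.mul (.mul (.l 16) (.l 15)) (.l 17)) (.l 15)) (.l 19)) (.l 17)) (.l 15)) (.l 18)) (.l 15), .mul (.mul (.mul (.mul (.mul (.mul (.mul (.mul (.l 19) (.l 15)) (.l 17)) (.l 15)) (.l 19)) (.l 17)) (.l 15)) (.l 18)) (.l 15), .mul (.mul (.mul (.mul (.mul (.mul (.mul (.mul (.l 20) (.l 17)) (.l 3)) (.l 15)) (.l 18)) (.l 17)) (.l 15)) (.l 19)) (.l 15), .mul (.mul (.mul (.mul (.mul (.mul (.mul (.mul (.l 20) (.l 15)) (.l 17)) (.l 15)) (.l 18)) (.l 17)) (.l 15)) (.l 19)) (.l 15), .mul (.mul (.mul (.mul (.mul (.mul (.mul (.mul (.mul (.l 16) (.l 15)) (.l 18)) (.l 17)) (.l 3)) (.l 15)) (.l 17)) (.l 16)) (.l 3)) (.l 15), .mul (.mul (.mul (.mul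 (.mul (.mul (.mul (.mul (.mul (.l 17) (.l 15)) (.l 18)) (.l 17)) (.l 3)) (.l 15)) (.l 17)) (.l 16)) (.l 3)) (.l 15), .mul (.mul (.mul (.mul (.mul (.mul (.mul (.mul (.mul (.l 19) (.l 15)) (.l 18)) (.l 17)) (.l 3)) (.l 15)) (.l 17)) (.l 16)) (.l 3)) (.l 15), .mul (.mul (.mul (.mul (.mul (.mul (.mul (.mul (.mul (.l 19) (.l 16)) (.l 15)) (.l 18)) (.l 17)) (.l 15)) (.l 17)) (.l 16)) (.l 3)) (.l 15), .mul (.mul (.mul (.mul (.mul (.mul (.mul (.mul (.mul (.l 19) (.l 17)) (.l 15)) (.l 18)) (.l 17)) (.l 15)) (.l 17)) (.l 16)) (.l 3)) (.l 15), .mul (.mul (.mul (.mul (.mul (.mul (.mul (.mul (.mul (.l 15) (.l 19)) (.l 15)) (.l 18)) (.l 17)) (.l 15)) (.l 17)) (.l 16)) (.l 3)) (.l 15), .mul (.mul (.mul (.mul (.mul (.mul (.mul (.mul (.mul (.l 19) (.l 15)) (.l 17)) (.l 3)) (.l 15)) (.l 18)) (.l 17)) (.l 16)) (.l 3)) (.l 15), .mul (.mul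 (.mul (.mul (.mul (.mul (.mul (.mul (.mul (.l 19) (.l 16)) (.l 15)) (.l 17)) (.l 15)) (.l 18)) (.l 17)) (.l 16)) (.l 3)) (.l 15), .mul (.mul (.mul (.mul (.mul (.mul (.mul (.mul (.mul (.l 19) (.l 17)) (.l 15)) (.l 17)) (.l 15)) (.l 18)) (.l 17)) (.l 16)) (.l 3)) (.l 15), .mul (.mul (.mul (.mul (.mul (.mul (.mul (.mul (.mul (.l 15) (.l 18)) (.l 17)) (.l 15)) (.l 17)) (.l 15)) (.l 18)) (.l 16)) (.l 3)) (.l 15), .mul (.mul (.mul (.mul (.mul (.mul (.mul (.mul (.mul (.l 15) (.l 17)) (.l 15)) (.l 18)) (.l 17)) (.l 15)) (.l 18)) (.l 16)) (.l 3)) (.l 15), .mul (.mul (.mul (.mul (.mul (.mul (.mul (.mul (.mul (.l 15) (.l 17)) (.l 15)) (.l 19)) (.l 17)) (.l 15)) (.l 19)) (.l 16)) (.l 3)) (.l 15), .mul (.mul (.mul (.mul (.mul (.mul (.mul (.mul (.mul (.l 16) (.l 15)) (.l 18)) (.l 17)) (.l 16)) (.l 3)) (.l 15)) (.l 17)) (.l 3)) (.l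 15), .mul (.mul (.mul (.mul (.mul (.mul (.mul (.mul (.mul (.l 19) (.l 16)) (.l 15)) (.l 18)) (.l 17)) (.l 16)) (.l 15)) (.l 17)) (.l 3)) (.l 15), .mul (.mul (.mul (.mul (.mul (.mul (.mul (.mul (.mul (.l 15) (.l 18)) (.l 16)) (.l 15)) (.l 18)) (.l 17)) (.l 15)) (.l 17)) (.l 3)) (.l 15), .mul (.mul (.mul (.mul (.mul (.mul (.mul (.mul (.mul (.l 16) (.l 15)) (.l 17)) (.l 16)) (.l 3)) (.l 15)) (.l 18)) (.l 17)) (.l 3)) (.l 15), .mul (.mul (.mul (.mul (.mul (.mul (.mul (.mul (.mul (.l 19) (.l 15)) (.l 17)) (.l 16)) (.l 3)) (.l 15)) (.l 18)) (.l 17)) (.l 3)) (.l 15), .mul (.mul (.mul (.mul (.mul (.mul (.mul (.mul (.mul (.l 19) (.l 16)) (.l 15)) (.l 17)) (.l 16)) (.l 15)) (.l 18)) (.l 17)) (.l 3)) (.l 15), .mul (.mul (.mul (.mul (.mul (.mul (.mul (.mul (.mul (.l 15) (.l 18)) (.l 16)) (.l 15)) (.l 17)) (.l 15)) (.l 18)) (.l 17))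 (.l 3)) (.l 15), .mul (.mul (.mul (.mul (.mul (.mul (.mul (.mul (.mul (.l 15) (.l 19)) (.l 16)) (.l 15)) (.l 17)) (.l 15)) (.l 19)) (.l 17)) (.l 3)) (.l 15), .mul (.mul (.mul (.mul (.mul (.mul (.mul (.mul (.mul (.l 16) (.l 3)) (.l 15)) (.l 19)) (.l 17)) (.l 16)) (.l 15)) (.l 18)) (.l 3)) (.l 15), .mul (.mul (.mul (.mul (.mul (.mul (.mul (.mul (.mul (.l 17) (.l 3)) (.l 15)) (.l 19)) (.l 17)) (.l 16)) (.l 15)) (.l 18)) (.l 3)) (.l 15), .mul (.mul (.mul (.mul (.mul (.mul (.mul (.mul (.mul (.l 3) (.l 15)) (.l 17)) (.l 15)) (.l 19)) (.l 16)) (.l 15)) (.l 18)) (.l 3)) (.l 15), .mul (.mul (.mul (.mul (.mul (.mul (.mul (.mul (.mul (.l 16) (.l 15)) (.l 17)) (.l 15)) (.l 19)) (.l 16)) (.l 15)) (.l 18)) (.l 3)) (.l 15), .mul (.mul (.mul (.mul (.mul (.mul (.mul (.mul (.mul (.l 17) (.l 15)) (.l 17)) (.l 15)) (.l 19)) (.l 16)) (.l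 15)) (.l 18)) (.l 3)) (.l 15), .mul (.mul (.mul (.mul (.mul (.mul (.mul (.mul (.mul (.l 17) (.l 16)) (.l 3)) (.l 15)) (.l 19)) (.l 17)) (.l 15)) (.l 18)) (.l 3)) (.l 15), .mul (.mul (.mul (.mul (.mul (.mul (.mul (.mul (.mul (.l 15) (.l 17)) (.l 3)) (.l 15)) (.l 19)) (.l 17)) (.l 15)) (.l 18)) (.l 3)) (.l 15), .mul (.mul (.mul (.mul (.mul (.mul (.mul (.mul (.mul (.l 16) (.l 15)) (.l 17)) (.l 15)) (.l 19)) (.l 17)) (.l 15)) (.l 18)) (.l 3)) (.l 15), .mul (.mul (.mul (.mul (.mul (.mul (.mul (.mul (.mul (.l 19) (.l 15)) (.l 17)) (.l 15)) (.l 19)) (.l 17)) (.l 15)) (.l 18)) (.l 3)) (.l 15), .mul (.mul (.mul (.mul (.mul (.mul (.mul (.mul (.mul (.l 20) (.l 17)) (.l 3)) (.l 15)) (.l 18)) (.l 17)) (.l 15)) (.l 19)) (.l 3)) (.l 15), .mul (.mul (.mul (.mul (.mul (.mul (.mul (.mul (.mul (.l 20) (.l 15)) (.l 17)) (.l 15)) (.l 18))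 (.l 17)) (.l 15)) (.l 19)) (.l 3)) (.l 15), .mul (.mul (.mul (.mul (.mul (.mul (.mul (.mul (.mul (.l 15) (.l 19)) (.l 17)) (.l 15)) (.l 18)) (.l 17)) (.l 15)) (.l 17)) (.l 16)) (.l 15), .mul (.mul (.mul (.mul (.mul (.mul (.mul (.mul (.mul (.l 16) (.l 15)) (.l 19)) (.l 15)) (.l 18)) (.l 17)) (.l 15)) (.l 17)) (.l 16)) (.l 15), .mul (.mul (.mul (.mul (.mul (.mul (.mul (.mul (.mul (.l 15) (.l 18)) (.l 17)) (.l 3)) (.l 15)) (.l 17)) (.l 15)) (.l 18)) (.l 16)) (.l 15), .mul (.mul (.mul (.mul (.mul (.mul (.mul (.mul (.mul (.l 15) (.l 2)) (.l 18)) (.l 17)) (.l 15)) (.l 17)) (.l 15)) (.l 18)) (.l 16)) (.l 15), .mul (.mul (.mul (.mul (.mul (.mul (.mul (.mul (.mul (.l 15) (.l 17)) (.l 3)) (.l 15)) (.l 18)) (.l 17)) (.l 15)) (.l 18)) (.l 16)) (.l 15), .mul (.mul (.mul (.mul (.mul (.mul (.mul (.mul (.mul (.l 19) (.l 15)) (.l 17))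 (.l 15)) (.l 18)) (.l 17)) (.l 15)) (.l 18)) (.l 16)) (.l 15), .mul (.mul (.mul (.mul (.mul (.mul (.mul (.mul (.mul (.l 15) (.l 17)) (.l 15)) (.l 19)) (.l 18)) (.l 17)) (.l 15)) (.l 19)) (.l 16)) (.l 15), .mul (.mul (.mul (.mul (.mul (.mul (.mul (.mul (.mul (.l 15) (.l 17)) (.l 3)) (.l 15)) (.l 19)) (.l 17)) (.l 15)) (.l 19)) (.l 16)) (.l 15), .mul (.mul (.mul (.mul (.mul (.mul (.mul (.mul (.mul (.l 18) (.l 15)) (.l 17)) (.l 15)) (.l 19)) (.l 17)) (.l 15)) (.l 19)) (.l 16)) (.l 15), .mul (.mul (.mul (.mul (.mul (.mul (.mul (.mul (.mul (.l 15) (.l 18)) (.l 17)) (.l 15)) (.l 19)) (.l 17)) (.l 15)) (.l 19)) (.l 16)) (.l 15), .mul (.mul (.mul (.mul (.mul (.mul (.mul (.mul (.mul (.l 15) (.l 18)) (.l 16)) (.l 15)) (.l 18)) (.l 17)) (.l 3)) (.l 15)) (.l 17)) (.l 15), .mul (.mul (.mul (.mul (.mul (.mul (.mul (.mul (.mul (.l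 15) (.l 19)) (.l 16)) (.l 15)) (.l 18)) (.l 17)) (.l 16)) (.l 15)) (.l 17)) (.l 15), .mul (.mul (.mul (.mul (.mul (.mul (.mul (.mul (.mul (.l 15) (.l 2)) (.l 18)) (.l 16)) (.l 15)) (.l 18)) (.l 17)) (.l 15)) (.l 17)) (.l 15), .mul (.mul (.mul (.mul (.mul (.mul (.mul (.mul (.mul (.l 19) (.l 16)) (.l 15)) (.l 17)) (.l 16)) (.l 3)) (.l 15)) (.l 18)) (.l 17)) (.l 15), .mul (.mul (.mul (.mul (.mul (.mul (.mul (.mul (.mul (.l 15) (.l 18)) (.l 16)) (.l 15)) (.l 17)) (.l 3)) (.l 15)) (.l 18)) (.l 17)) (.l 15), .mul (.mul (.mul (.mul (.mul (.mul (.mul (.mul (.mul (.l 19) (.l 15)) (.l 18)) (.l 16)) (.l 15)) (.l 17)) (.l 15)) (.l 18)) (.l 17)) (.l 15), .mul (.mul (.mul (.mul (.mul (.mul (.mul (.mul (.mul (.l 15) (.l 19)) (.l 16)) (.l 15)) (.l 17)) (.l 3)) (.l 15)) (.l 19)) (.l 17)) (.l 15), .mul (.mul (.mul (.mul (.mul (.mul (.mul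 (.mul (.mul (.l 15) (.l 19)) (.l 18)) (.l 16)) (.l 15)) (.l 17)) (.l 15)) (.l 19)) (.l 17)) (.l 15), .mul (.mul (.mul (.mul (.mul (.mul (.mul (.mul (.mul (.l 18) (.l 15)) (.l 19)) (.l 16)) (.l 15)) (.l 17)) (.l 15)) (.l 19)) (.l 17)) (.l 15), .mul (.mul (.mul (.mul (.mul (.mul (.mul (.mul (.mul (.l 16) (.l 3)) (.l 15)) (.l 17)) (.l 15)) (.l 19)) (.l 16)) (.l 15)) (.l 18)) (.l 15), .mul (.mul (.mul (.mul (.mul (.mul (.mul (.mul (.mul (.l 17) (.l 3)) (.l 15)) (.l 17)) (.l 15)) (.l 19)) (.l 16)) (.l 15)) (.l 18)) (.l 15), .mul (.mul (.mul (.mul (.mul (.mul (.mul (.mul (.mul (.l 16) (.l 15)) (.l 17)) (.l 3)) (.l 15)) (.l 19)) (.l 17)) (.l 15)) (.l 18)) (.l 15), .mul (.mul (.mul (.mul (.mul (.mul (.mul (.mul (.mul (.l 19) (.l 15)) (.l 17)) (.l 3)) (.l 15)) (.l 19)) (.l 17)) (.l 15)) (.l 18)) (.l 15), .mul (.mul (.mul (.mul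 (.mul (.mul (.mul (.mul (.mul (.l 19) (.l 16)) (.l 15)) (.l 17)) (.l 15)) (.l 19)) (.l 17)) (.l 15)) (.l 18)) (.l 15), .mul (.mul (.mul (.mul (.mul (.mul (.mul (.mul (.mul (.l 20) (.l 17)) (.l 15)) (.l 17)) (.l 15)) (.l 18)) (.l 16)) (.l 15)) (.l 19)) (.l 15), .mul (.mul (.mul (.mul (.mul (.mul (.mul (.mul (.mul (.l 20) (.l 15)) (.l 17)) (.l 3)) (.l 15)) (.l 18)) (.l 17)) (.l 15)) (.l 19)) (.l 15), .mul (.mul (.mul (.mul (.mul (.mul (.mul (.mul (.mul (.l 20) (.l 16)) (.l 15)) (.l 17)) (.l 15)) (.l 18)) (.l 17)) (.l 15)) (.l 19)) (.l 15), .mul (.mul (.mul (.mul (.mul (.mul (.mul (.mul (.mul (.l 20) (.l 18)) (.l 15)) (.l 17)) (.l 15)) (.l 18)) (.l 17)) (.l 15)) (.l 19)) (.l 15), .mul (.mul (.mul (.mul (.mul (.mul (.mul (.mul (.mul (.mul (.l 19) (.l 16)) (.l 15)) (.l 18)) (.l 17)) (.l 3)) (.l 15)) (.l 17)) (.l 16)) (.l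 3)) (.l 15), .mul (.mul (.mul (.mul (.mul (.mul (.mul (.mul (.mul (.mul (.l 19) (.l 17)) (.l 15)) (.l 18)) (.l 17)) (.l 3)) (.l 15)) (.l 17)) (.l 16)) (.l 3)) (.l 15), .mul (.mul (.mul (.mul (.mul (.mul (.mul (.mul (.mul (.mul (.l 15) (.l 19)) (.l 17)) (.l 15)) (.l 18)) (.l 17)) (.l 15)) (.l 17)) (.l 16)) (.l 3)) (.l 15), .mul (.mul (.mul (.mul (.mul (.mul (.mul (.mul (.mul (.mul (.l 16) (.l 15)) (.l 19)) (.l 15)) (.l 18)) (.l 17)) (.l 15)) (.l 17)) (.l 16)) (.l 3)) (.l 15), .mul (.mul (.mul (.mul (.mul (.mul (.mul (.mul (.mul (.mul (.l 15) (.l 18)) (.l 17)) (.l 15)) (.l 19)) (.l 17)) (.l 15)) (.l 19)) (.l 16)) (.l 3)) (.l 15), .mul (.mul (.mul (.mul (.mul (.mul (.mul (.mul (.mul (.mul (.l 15) (.l 19)) (.l 16)) (.l 15)) (.l 18)) (.l 17)) (.l 16)) (.l 15)) (.l 17)) (.l 3)) (.l 15), .mul (.mul (.mul (.mul (.mul (.mul (.mul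 (.mul (.mul (.mul (.l 19) (.l 16)) (.l 15)) (.l 17)) (.l 16)) (.l 3)) (.l 15)) (.l 18)) (.l 17)) (.l 3)) (.l 15), .mul (.mul (.mul (.mul (.mul (.mul (.mul (.mul (.mul (.mul (.l 15) (.l 19)) (.l 18)) (.l 16)) (.l 15)) (.l 17)) (.l 15)) (.l 19)) (.l 17)) (.l 3)) (.l 15), .mul (.mul (.mul (.mul (.mul (.mul (.mul (.mul (.mul (.mul (.l 16) (.l 3)) (.l 15)) (.l 17)) (.l 15)) (.l 19)) (.l 16)) (.l 15)) (.l 18)) (.l 3)) (.l 15), .mul (.mul (.mul (.mul (.mul (.mul (.mul (.mul (.mul (.mul (.l 17) (.l 3)) (.l 15)) (.l 17)) (.l 15)) (.l 19)) (.l 16)) (.l 15)) (.l 18)) (.l 3)) (.l 15), .mul (.mul (.mul (.mul (.mul (.mul (.mul (.mul (.mul (.mul (.l 16) (.l 15)) (.l 17)) (.l 3)) (.l 15)) (.l 19)) (.l 17)) (.l 15)) (.l 18)) (.l 3)) (.l 15), .mul (.mul (.mul (.mul (.mul (.mul (.mul (.mul (.mul (.mul (.l 20) (.l 15)) (.l 17)) (.l 3))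 (.l 15)) (.l 18)) (.l 17)) (.l 15)) (.l 19)) (.l 3)) (.l 15), .mul (.mul (.mul (.mul (.mul (.mul (.mul (.mul (.mul (.mul (.l 20) (.l 18)) (.l 15)) (.l 17)) (.l 15)) (.l 18)) (.l 17)) (.l 15)) (.l 19)) (.l 3)) (.l 15), .mul (.mul (.mul (.mul (.mul (.mul (.mul (.mul (.mul (.mul (.l 18) (.l 15)) (.l 19)) (.l 17)) (.l 15)) (.l 18)) (.l 17)) (.l 15)) (.l 17)) (.l 16)) (.l 15), .mul (.mul (.mul (.mul (.mul (.mul (.mul (.mul (.mul (.mul (.l 19) (.l 15)) (.l 19)) (.l 17)) (.l 15)) (.l 18)) (.l 17)) (.l 15)) (.l 17)) (.l 16)) (.l 15), .mul (.mul (.mul (.mul (.mul (.mul (.mul (.mul (.mul (.mul (.l 20) (.l 15)) (.l 17)) (.l 15)) (.l 19)) (.l 18)) (.l 17)) (.l 15)) (.l 18)) (.l 16)) (.l 15), .mul (.mul (.mul (.mul (.mul (.mul (.mul (.mul (.mul (.mul (.l 16) (.l 15)) (.l 17)) (.l 15)) (.l 19)) (.l 18)) (.l 17)) (.l 15)) (.l 19))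 (.l 16)) (.l 15), .mul (.mul (.mul (.mul (.mul (.mul (.mul (.mul (.mul (.mul (.l 15) (.l 18)) (.l 17)) (.l 15)) (.l 19)) (.l 18)) (.l 17)) (.l 15)) (.l 19)) (.l 16)) (.l 15), .mul (.mul (.mul (.mul (.mul (.mul (.mul (.mul (.mul (.mul (.l 3) (.l 15)) (.l 19)) (.l 16)) (.l 15)) (.l 18)) (.l 17)) (.l 16)) (.l 15)) (.l 17)) (.l 15), .mul (.mul (.mul (.mul (.mul (.mul (.mul (.mul (.mul (.mul (.l 16) (.l 15)) (.l 19)) (.l 18)) (.l 16)) (.l 15)) (.l 17)) (.l 15)) (.l 19)) (.l 17)) (.l 15), .mul (.mul (.mul (.mul (.mul (.mul (.mul (.mul (.mul (.mul (.l 18) (.l 15)) (.l 19)) (.l 18)) (.l 16)) (.l 15)) (.l 17)) (.l 15)) (.l 19)) (.l 17)) (.l 15), .mul (.mul (.mul (.mul (.mul (.mul (.mul (.mul (.mul (.mul (.l 15) (.l 18)) (.l 15)) (.l 19)) (.l 17)) (.l 15)) (.l 19)) (.l 16)) (.l 15)) (.l 18)) (.l 15), .mul (.mul (.mul (.mul (.mul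 (.mul (.mul (.mul (.mul (.mul (.l 15) (.l 19)) (.l 15)) (.l 18)) (.l 17)) (.l 15)) (.l 18)) (.l 17)) (.l 15)) (.l 19)) (.l 15), .mul (.mul (.mul (.mul (.mul (.mul (.mul (.mul (.mul (.mul (.mul (.l 15) (.l 18)) (.l 17)) (.l 15)) (.l 19)) (.l 18)) (.l 17)) (.l 15)) (.l 19)) (.l 16)) (.l 3)) (.l 15), .mul (.mul (.mul (.mul (.mul (.mul (.mul (.mul (.mul (.mul (.mul (.l 15) (.l 18)) (.l 15)) (.l 19)) (.l 17)) (.l 15)) (.l 19)) (.l 16)) (.l 15)) (.l 18)) (.l 3)) (.l 15), .mul (.mul (.mul (.mul (.mul (.mul (.mul (.mul (.mul (.mul (.mul (.l 15) (.l 19)) (.l 15)) (.l 18)) (.l 17)) (.l 15)) (.l 18)) (.l 17)) (.l 15)) (.l 19)) (.l 3)) (.l 15), .mul (.mul (.mul (.mul (.mul (.mul (.mul (.mul (.mul (.mul (.mul (.l 20) (.l 15)) (.l 19)) (.l 17)) (.l 15)) (.l 19)) (.l 18)) (.l 17)) (.l 15)) (.l 18)) (.l 16)) (.l 15), .mul (.mul (.mul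 (.mul (.mul (.mul (.mul (.mul (.mul (.mul (.mul (.l 15) (.l 18)) (.l 15)) (.l 17)) (.l 15)) (.l 19)) (.l 18)) (.l 16)) (.l 15)) (.l 19)) (.l 16)) (.l 15), .mul (.mul (.mul (.mul (.mul (.mul (.mul (.mul (.mul (.mul (.mul (.l 15) (.l 18)) (.l 17)) (.l 3)) (.l 15)) (.l 19)) (.l 18)) (.l 17)) (.l 15)) (.l 19)) (.l 16)) (.l 15), .mul (.mul (.mul (.mul (.mul (.mul (.mul (.mul (.mul (.mul (.mul (.l 15) (.l 2)) (.l 18)) (.l 17)) (.l 15)) (.l 19)) (.l 18)) (.l 17)) (.l 15)) (.l 19)) (.l 16)) (.l 15), .mul (.mul (.mul (.mul (.mul (.mul (.mul (.mul (.mul (.mul (.mul (.l 15) (.l 18)) (.l 15)) (.l 19)) (.l 18)) (.l 17)) (.l 15)) (.l 19)) (.l 16)) (.l 15)) (.l 18)) (.l 15), .mul (.mul (.mul (.mul (.mul (.mul (.mul (.mul (.mul (.mul (.mul (.mul (.l 15) (.l 19)) (.l 18)) (.l 17)) (.l 15)) (.l 19)) (.l 16)) (.l 15)) (.l 19)) (.l 18))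 (.l 17)) (.l 3)) (.l 15)]

/-- conjugating words -/
def cw_h : List W := [.mul (.mul (.mul (.mul (.l 15) (.l 19)) (.l 16)) (.l 15)) (.l 18), .mul (.mul (.mul (.mul (.mul (.l 15) (.l 19)) (.l 16)) (.l 15)) (.l 18)) (.l 1), .mul (.mul (.mul (.mul (.mul (.l 19) (.l 15)) (.l 19)) (.l 16)) (.l 15)) (.l 17), .mul (.mul (.mul (.mul (.mul (.l 15) (.l 19)) (.l 18)) (.l 16)) (.l 15)) (.l 18), .mul (.mul (.mul (.mul (.mul (.l 17) (.l 15)) (.l 19)) (.l 16)) (.l 15)) (.l 18), .mul (.mul (.mul (.mul (.mul (.l 18) (.l 15)) (.l 19)) (.l 16)) (.l 15)) (.l 18), .mul (.mul (.mul (.mul (.mul (.l 19) (.l 15)) (.l 19)) (.l 16)) (.l 15)) (.l 18), .mul (.mul (.mul (.mul (.mul (.mul (.l 19) (.l 15)) (.l 19)) (.l 16)) (.l 15)) (.l 17)) (.l 1), .mul (.mul (.mul (.mul (.mul (.mul (.l 15) (.l 19)) (.l 18)) (.l 16)) (.l 15)) (.l 18)) (.l 1), .mul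 (.mul (.mul (.mul (.mul (.mul (.l 17) (.l 15)) (.l 19)) (.l 16)) (.l 15)) (.l 18)) (.l 1), .mul (.mul (.mul (.mul (.mul (.mul (.l 18) (.l 15)) (.l 19)) (.l 16)) (.l 15)) (.l 18)) (.l 1), .mul (.mul (.mul (.mul (.mul (.mul (.l 19) (.l 15)) (.l 19)) (.l 16)) (.l 15)) (.l 18)) (.l 1), .mul (.mul (.mul (.mul (.mul (.mul (.l 19) (.l 15)) (.l 19)) (.l 16)) (.l 3)) (.l 15)) (.l 17), .mul (.mul (.mul (.mul (.mul (.mul (.l 19) (.l 15)) (.l 1)) (.l 19)) (.l 16)) (.l 15)) (.l 17), .mul (.mul (.mul (.mul (.mul (.mul (.l 19) (.l 16)) (.l 15)) (.l 19)) (.l 16)) (.l 15)) (.l 17), .mul (.mul (.mul (.mul (.mul (.mul (.l 19) (.l 17)) (.l 15)) (.l 19)) (.l 16)) (.l 15)) (.l 17), .mul (.mul (.mul (.mul (.mul (.mul (.l 15) (.l 19)) (.l 16)) (.l 15)) (.l 18)) (.l 15)) (.l 17), .mul (.mul (.mul (.mul (.mul (.mul (.l 18) (.l 15)) (.l 19)) (.l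 18)) (.l 16)) (.l 15)) (.l 18), .mul (.mul (.mul (.mul (.mul (.mul (.l 18) (.l 17)) (.l 15)) (.l 19)) (.l 16)) (.l 15)) (.l 18), .mul (.mul (.mul (.mul (.mul (.mul (.l 19) (.l 17)) (.l 15)) (.l 19)) (.l 16)) (.l 15)) (.l 18), .mul (.mul (.mul (.mul (.mul (.mul (.l 19) (.l 18)) (.l 15)) (.l 19)) (.l 16)) (.l 15)) (.l 18), .mul (.mul (.mul (.mul (.mul (.mul (.l 15) (.l 17)) (.l 15)) (.l 19)) (.l 17)) (.l 15)) (.l 18), .mul (.mul (.mul (.mul (.mul (.mul (.mul (.l 19) (.l 16)) (.l 15)) (.l 19)) (.l 16)) (.l 15)) (.l 17)) (.l 1), .mul (.mul (.mul (.mul (.mul (.mul (.mul (.l 19) (.l 17)) (.l 15)) (.l 19)) (.l 16)) (.l 15)) (.l 17)) (.l 1), .mul (.mul (.mul (.mul (.mul (.mul (.mul (.l 15) (.l 19)) (.l 16)) (.l 15)) (.l 18)) (.l 15)) (.l 17)) (.l 1), .mul (.mul (.mul (.mul (.mul (.mul (.mul (.l 17) (.l 15)) (.l 19)) (.l 18))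 (.l 16)) (.l 15)) (.l 18)) (.l 1), .mul (.mul (.mul (.mul (.mul (.mul (.mul (.l 18) (.l 17)) (.l 15)) (.l 19)) (.l 16)) (.l 15)) (.l 18)) (.l 1), .mul (.mul (.mul (.mul (.mul (.mul (.mul (.l 19) (.l 17)) (.l 15)) (.l 19)) (.l 16)) (.l 15)) (.l 18)) (.l 1), .mul (.mul (.mul (.mul (.mul (.mul (.mul (.l 19) (.l 18)) (.l 15)) (.l 19)) (.l 16)) (.l 15)) (.l 18)) (.l 1), .mul (.mul (.mul (.mul (.mul (.mul (.mul (.l 15) (.l 17)) (.l 15)) (.l 19)) (.l 17)) (.l 15)) (.l 18)) (.l 1), .mul (.mul (.mul (.mul (.mul (.mul (.mul (.l 19) (.l 16)) (.l 15)) (.l 19)) (.l 16)) (.l 3)) (.l 15)) (.l 17), .mul (.mul (.mul (.mul (.mul (.mul (.mul (.l 19) (.l 17)) (.l 15)) (.l 19)) (.l 16)) (.l 3)) (.l 15)) (.l 17), .mul (.mul (.mul (.mul (.mul (.mul (.mul (.l 15) (.l 19)) (.l 16)) (.l 15)) (.l 18)) (.l 3)) (.l 15)) (.l 17), .mul (.mul (.mul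 (.mul (.mul (.mul (.mul (.l 20) (.l 18)) (.l 17)) (.l 15)) (.l 18)) (.l 16)) (.l 15)) (.l 17), .mul (.mul (.mul (.mul (.mul (.mul (.mul (.l 19) (.l 16)) (.l 15)) (.l 1)) (.l 19)) (.l 16)) (.l 15)) (.l 17), .mul (.mul (.mul (.mul (.mul (.mul (.mul (.l 19) (.l 17)) (.l 15)) (.l 1)) (.l 19)) (.l 16)) (.l 15)) (.l 17), .mul (.mul (.mul (.mul (.mul (.mul (.mul (.l 15) (.l 19)) (.l 17)) (.l 15)) (.l 19)) (.l 16)) (.l 15)) (.l 17), .mul (.mul (.mul (.mul (.mul (.mul (.mul (.l 15) (.l 19)) (.l 17)) (.l 15)) (.l 18)) (.l 17)) (.l 15)) (.l 17), .mul (.mul (.mul (.mul (.mul (.mul (.mul (.l 15) (.l 19)) (.l 16)) (.l 15)) (.l 2)) (.l 18)) (.l 15)) (.l 17), .mul (.mul (.mul (.mul (.mul (.mul (.mul (.l 15) (.l 19)) (.l 16)) (.l 15)) (.l 17)) (.l 15)) (.l 18)) (.l 17), .mul (.mul (.mul (.mul (.mul (.mul (.mul (.l 19) (.l 18)) (.l 17))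 (.l 15)) (.l 19)) (.l 16)) (.l 15)) (.l 18), .mul (.mul (.mul (.mul (.mul (.mul (.mul (.l 20) (.l 15)) (.l 17)) (.l 15)) (.l 18)) (.l 17)) (.l 15)) (.l 18), .mul (.mul (.mul (.mul (.mul (.mul (.mul (.l 15) (.l 17)) (.l 15)) (.l 19)) (.l 18)) (.l 17)) (.l 15)) (.l 18), .mul (.mul (.mul (.mul (.mul (.mul (.mul (.l 15) (.l 17)) (.l 3)) (.l 15)) (.l 19)) (.l 17)) (.l 15)) (.l 18), .mul (.mul (.mul (.mul (.mul (.mul (.mul (.l 16) (.l 15)) (.l 17)) (.l 15)) (.l 19)) (.l 17)) (.l 15)) (.l 18), .mul (.mul (.mul (.mul (.mul (.mul (.mul (.l 18) (.l 15)) (.l 17)) (.l 15)) (.l 19)) (.l 17)) (.l 15)) (.l 18), .mul (.mul (.mul (.mul (.mul (.mul (.mul (.l 19) (.l 15)) (.l 17)) (.l 15)) (.l 19)) (.l 17)) (.l 15)) (.l 18), .mul (.mul (.mul (.mul (.mul (.mul (.mul (.l 15) (.l 18)) (.l 17)) (.l 15)) (.l 19)) (.l 17)) (.l 15)) (.l 18),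 .mul (.mul (.mul (.mul (.mul (.mul (.mul (.mul (.l 20) (.l 18)) (.l 17)) (.l 15)) (.l 18)) (.l 16)) (.l 15)) (.l 17)) (.l 1), .mul (.mul (.mul (.mul (.mul (.mul (.mul (.mul (.l 15) (.l 19)) (.l 17)) (.l 15)) (.l 19)) (.l 16)) (.l 15)) (.l 17)) (.l 1), .mul (.mul (.mul (.mul (.mul (.mul (.mul (.mul (.l 15) (.l 19)) (.l 17)) (.l 15)) (.l 18)) (.l 17)) (.l 15)) (.l 17)) (.l 1), .mul (.mul (.mul (.mul (.mul (.mul (.mul (.mul (.l 15) (.l 19)) (.l 16)) (.l 15)) (.l 17)) (.l 15)) (.l 18)) (.l 17)) (.l 1), .mul (.mul (.mul (.mul (.mul (.mul (.mul (.mul (.l 19) (.l 18)) (.l 17)) (.l 15)) (.l 19)) (.l 16)) (.l 15)) (.l 18)) (.l 1), .mul (.mul (.mul (.mul (.mul (.mul (.mul (.mul (.l 20) (.l 15)) (.l 17)) (.l 15)) (.l 18)) (.l 17)) (.l 15)) (.l 18)) (.l 1), .mul (.mul (.mul (.mul (.mul (.mul (.mul (.mul (.l 15) (.l 17)) (.l 15))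 (.l 19)) (.l 18)) (.l 17)) (.l 15)) (.l 18)) (.l 1), .mul (.mul (.mul (.mul (.mul (.mul (.mul (.mul (.l 16) (.l 15)) (.l 17)) (.l 15)) (.l 19)) (.l 17)) (.l 15)) (.l 18)) (.l 1), .mul (.mul (.mul (.mul (.mul (.mul (.mul (.mul (.l 19) (.l 15)) (.l 17)) (.l 15)) (.l 19)) (.l 17)) (.l 15)) (.l 18)) (.l 1), .mul (.mul (.mul (.mul (.mul (.mul (.mul (.mul (.l 15) (.l 18)) (.l 17)) (.l 15)) (.l 19)) (.l 17)) (.l 15)) (.l 18)) (.l 1), .mul (.mul (.mul (.mul (.mul (.mul (.mul (.mul (.l 20) (.l 18)) (.l 17)) (.l 15)) (.l 18)) (.l 16)) (.l 3)) (.l 15)) (.l 17), .mul (.mul (.mul (.mul (.mul (.mul (.mul (.mul (.l 15) (.l 19)) (.l 17)) (.l 15)) (.l 19)) (.l 16)) (.l 3)) (.l 15)) (.l 17), .mul (.mul (.mul (.mul (.mul (.mul (.mul (.mul (.l 15) (.l 19)) (.l 17)) (.l 15)) (.l 18)) (.l 17)) (.l 3)) (.l 15)) (.l 17), .mul (.mul (.mul (.mul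 (.mul (.mul (.mul (.mul (.l 20) (.l 18)) (.l 17)) (.l 15)) (.l 2)) (.l 18)) (.l 16)) (.l 15)) (.l 17), .mul (.mul (.mul (.mul (.mul (.mul (.mul (.mul (.l 15) (.l 19)) (.l 15)) (.l 17)) (.l 15)) (.l 18)) (.l 16)) (.l 15)) (.l 17), .mul (.mul (.mul (.mul (.mul (.mul (.mul (.mul (.l 15) (.l 19)) (.l 17)) (.l 15)) (.l 1)) (.l 19)) (.l 16)) (.l 15)) (.l 17), .mul (.mul (.mul (.mul (.mul (.mul (.mul (.mul (.l 16) (.l 15)) (.l 19)) (.l 17)) (.l 15)) (.l 19)) (.l 16)) (.l 15)) (.l 17), .mul (.mul (.mul (.mul (.mul (.mul (.mul (.mul (.l 17) (.l 15)) (.l 19)) (.l 17)) (.l 15)) (.l 19)) (.l 16)) (.l 15)) (.l 17), .mul (.mul (.mul (.mul (.mul (.mul (.mul (.mul (.l 15) (.l 19)) (.l 17)) (.l 15)) (.l 2)) (.l 18)) (.l 17)) (.l 15)) (.l 17), .mul (.mul (.mul (.mul (.mul (.mul (.mul (.mul (.l 15) (.l 19)) (.l 18)) (.l 17)) (.l 15)) (.l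 18)) (.l 17)) (.l 15)) (.l 17), .mul (.mul (.mul (.mul (.mul (.mul (.mul (.mul (.l 15) (.l 19)) (.l 16)) (.l 15)) (.l 17)) (.l 3)) (.l 15)) (.l 18)) (.l 17), .mul (.mul (.mul (.mul (.mul (.mul (.mul (.mul (.l 15) (.l 19)) (.l 18)) (.l 16)) (.l 15)) (.l 17)) (.l 15)) (.l 18)) (.l 17), .mul (.mul (.mul (.mul (.mul (.mul (.mul (.mul (.l 20) (.l 15)) (.l 17)) (.l 3)) (.l 15)) (.l 18)) (.l 17)) (.l 15)) (.l 18), .mul (.mul (.mul (.mul (.mul (.mul (.mul (.mul (.l 15) (.l 17)) (.l 3)) (.l 15)) (.l 19)) (.l 18)) (.l 17)) (.l 15)) (.l 18), .mul (.mul (.mul (.mul (.mul (.mul (.mul (.mul (.l 18) (.l 15)) (.l 17)) (.l 15)) (.l 19)) (.l 18)) (.l 17)) (.l 15)) (.l 18), .mul (.mul (.mul (.mul (.mul (.mul (.mul (.mul (.l 16) (.l 15)) (.l 17)) (.l 3)) (.l 15)) (.l 19)) (.l 17)) (.l 15)) (.l 18), .mul (.mul (.mul (.mul (.mul (.mul (.mul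 (.mul (.l 19) (.l 15)) (.l 17)) (.l 3)) (.l 15)) (.l 19)) (.l 17)) (.l 15)) (.l 18), .mul (.mul (.mul (.mul (.mul (.mul (.mul (.mul (.l 18) (.l 16)) (.l 15)) (.l 17)) (.l 15)) (.l 19)) (.l 17)) (.l 15)) (.l 18), .mul (.mul (.mul (.mul (.mul (.mul (.mul (.mul (.l 19) (.l 16)) (.l 15)) (.l 17)) (.l 15)) (.l 19)) (.l 17)) (.l 15)) (.l 18), .mul (.mul (.mul (.mul (.mul (.mul (.mul (.mul (.l 19) (.l 18)) (.l 15)) (.l 17)) (.l 15)) (.l 19)) (.l 17)) (.l 15)) (.l 18), .mul (.mul (.mul (.mul (.mul (.mul (.mul (.mul (.l 15) (.l 2)) (.l 18)) (.l 17)) (.l 15)) (.l 19)) (.l 17)) (.l 15)) (.l 18), .mul (.mul (.mul (.mul (.mul (.mul (.mul (.mul (.mul (.l 15) (.l 19)) (.l 16)) (.l 15)) (.l 17)) (.l 3)) (.l 15)) (.l 18)) (.l 17)) (.l 1), .mul (.mul (.mul (.mul (.mul (.mul (.mul (.mul (.mul (.l 15) (.l 19)) (.l 18)) (.l 16)) (.l 15))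 (.l 17)) (.l 15)) (.l 18)) (.l 17)) (.l 1), .mul (.mul (.mul (.mul (.mul (.mul (.mul (.mul (.mul (.l 20) (.l 15)) (.l 17)) (.l 15)) (.l 19)) (.l 18)) (.l 17)) (.l 15)) (.l 18)) (.l 1), .mul (.mul (.mul (.mul (.mul (.mul (.mul (.mul (.mul (.l 19) (.l 16)) (.l 15)) (.l 17)) (.l 15)) (.l 19)) (.l 17)) (.l 15)) (.l 18)) (.l 1), .mul (.mul (.mul (.mul (.mul (.mul (.mul (.mul (.mul (.l 16) (.l 15)) (.l 19)) (.l 17)) (.l 15)) (.l 19)) (.l 16)) (.l 3)) (.l 15)) (.l 17), .mul (.mul (.mul (.mul (.mul (.mul (.mul (.mul (.mul (.l 17) (.l 15)) (.l 19)) (.l 17)) (.l 15)) (.l 19)) (.l 16)) (.l 3)) (.l 15)) (.l 17), .mul (.mul (.mul (.mul (.mul (.mul (.mul (.mul (.mul (.l 15) (.l 19)) (.l 18)) (.l 16)) (.l 15)) (.l 17)) (.l 3)) (.l 15)) (.l 18)) (.l 17), .mul (.mul (.mul (.mul (.mul (.mul (.mul (.mul (.mul (.l 19) (.l 16)) (.l 15))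 (.l 17)) (.l 3)) (.l 15)) (.l 19)) (.l 17)) (.l 15)) (.l 18), .mul (.mul (.mul (.mul (.mul (.mul (.mul (.mul (.mul (.l 19) (.l 18)) (.l 16)) (.l 15)) (.l 17)) (.l 15)) (.l 19)) (.l 17)) (.l 15)) (.l 18)]

/-- conjugating words -/
def cw_prk : List W := [.mul (.mul (.mul (.l 19) (.l 15)) (.l 18)) (.l 15), .mul (.mul (.mul (.mul (.l 19) (.l 15)) (.l 18)) (.l 15)) (.l 1), .mul (.mul (.mul (.mul (.l 19) (.l 15)) (.l 18)) (.l 3)) (.l 15), .mul (.mul (.mul (.mul (.l 19) (.l 15)) (.l 2)) (.l 18)) (.l 15), .mul (.mul (.mul (.mul (.l 19) (.l 16)) (.l 15)) (.l 18)) (.l 15), .mul (.mul (.mul (.mul (.l 19) (.l 17)) (.l 15)) (.l 18)) (.l 15), .mul (.mul (.mul (.mul (.l 15) (.l 19)) (.l 15)) (.l 18)) (.l 15), .mul (.mul (.mul (.mul (.l 20) (.l 18)) (.l 15)) (.l 19)) (.l 15), .mul (.mul (.mul (.mul (.mul (.l 19) (.l 16)) (.l 15)) (.l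 18)) (.l 15)) (.l 1), .mul (.mul (.mul (.mul (.mul (.l 19) (.l 17)) (.l 15)) (.l 18)) (.l 15)) (.l 1), .mul (.mul (.mul (.mul (.mul (.l 15) (.l 19)) (.l 15)) (.l 18)) (.l 15)) (.l 1), .mul (.mul (.mul (.mul (.mul (.l 20) (.l 18)) (.l 15)) (.l 19)) (.l 15)) (.l 1), .mul (.mul (.mul (.mul (.mul (.l 19) (.l 16)) (.l 15)) (.l 18)) (.l 3)) (.l 15), .mul (.mul (.mul (.mul (.mul (.l 19) (.l 17)) (.l 15)) (.l 18)) (.l 3)) (.l 15), .mul (.mul (.mul (.mul (.mul (.l 19) (.l 16)) (.l 15)) (.l 2)) (.l 18)) (.l 15), .mul (.mul (.mul (.mul (.mul (.l 19) (.l 17)) (.l 15)) (.l 2)) (.l 18)) (.l 15), .mul (.mul (.mul (.mul (.mul (.l 19) (.l 17)) (.l 16)) (.l 15)) (.l 18)) (.l 15), .mul (.mul (.mul (.mul (.mul (.l 15) (.l 19)) (.l 16)) (.l 15)) (.l 18)) (.l 15), .mul (.mul (.mul (.mul (.mul (.l 15) (.l 19)) (.l 17)) (.l 15)) (.l 18)) (.l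 15), .mul (.mul (.mul (.mul (.mul (.l 16) (.l 15)) (.l 19)) (.l 15)) (.l 18)) (.l 15), .mul (.mul (.mul (.mul (.mul (.l 17) (.l 15)) (.l 19)) (.l 15)) (.l 18)) (.l 15), .mul (.mul (.mul (.mul (.mul (.l 20) (.l 18)) (.l 16)) (.l 15)) (.l 19)) (.l 15), .mul (.mul (.mul (.mul (.mul (.l 19) (.l 15)) (.l 17)) (.l 15)) (.l 19)) (.l 15), .mul (.mul (.mul (.mul (.mul (.l 17) (.l 20)) (.l 18)) (.l 15)) (.l 19)) (.l 15), .mul (.mul (.mul (.mul (.mul (.mul (.l 19) (.l 17)) (.l 16)) (.l 15)) (.l 18)) (.l 15)) (.l 1), .mul (.mul (.mul (.mul (.mul (.mul (.l 15) (.l 19)) (.l 16)) (.l 15)) (.l 18)) (.l 15)) (.l 1), .mul (.mul (.mul (.mul (.mul (.mul (.l 15) (.l 19)) (.l 17)) (.l 15)) (.l 18)) (.l 15)) (.l 1), .mul (.mul (.mul (.mul (.mul (.mul (.l 16) (.l 15)) (.l 19)) (.l 15)) (.l 18)) (.l 15)) (.l 1), .mul (.mul (.mul (.mul (.mul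 (.mul (.l 17) (.l 15)) (.l 19)) (.l 15)) (.l 18)) (.l 15)) (.l 1), .mul (.mul (.mul (.mul (.mul (.mul (.l 20) (.l 18)) (.l 16)) (.l 15)) (.l 19)) (.l 15)) (.l 1), .mul (.mul (.mul (.mul (.mul (.mul (.l 19) (.l 15)) (.l 17)) (.l 15)) (.l 19)) (.l 15)) (.l 1), .mul (.mul (.mul (.mul (.mul (.mul (.l 20) (.l 18)) (.l 17)) (.l 15)) (.l 19)) (.l 15)) (.l 1), .mul (.mul (.mul (.mul (.mul (.mul (.l 17) (.l 20)) (.l 18)) (.l 15)) (.l 19)) (.l 15)) (.l 1), .mul (.mul (.mul (.mul (.mul (.mul (.l 19) (.l 17)) (.l 16)) (.l 15)) (.l 18)) (.l 3)) (.l 15), .mul (.mul (.mul (.mul (.mul (.mul (.l 15) (.l 19)) (.l 16)) (.l 15)) (.l 18)) (.l 3)) (.l 15), .mul (.mul (.mul (.mul (.mul (.mul (.l 15) (.l 19)) (.l 17)) (.l 15)) (.l 18)) (.l 3)) (.l 15), .mul (.mul (.mul (.mul (.mul (.mul (.l 19) (.l 15)) (.l 17)) (.l 15)) (.l 19)) (.l 3)) (.l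 15), .mul (.mul (.mul (.mul (.mul (.mul (.l 19) (.l 15)) (.l 19)) (.l 17)) (.l 15)) (.l 17)) (.l 15), .mul (.mul (.mul (.mul (.mul (.mul (.l 19) (.l 17)) (.l 16)) (.l 15)) (.l 2)) (.l 18)) (.l 15), .mul (.mul (.mul (.mul (.mul (.mul (.l 15) (.l 19)) (.l 16)) (.l 15)) (.l 2)) (.l 18)) (.l 15), .mul (.mul (.mul (.mul (.mul (.mul (.l 15) (.l 19)) (.l 17)) (.l 15)) (.l 2)) (.l 18)) (.l 15), .mul (.mul (.mul (.mul (.mul (.mul (.l 16) (.l 15)) (.l 19)) (.l 16)) (.l 15)) (.l 18)) (.l 15), .mul (.mul (.mul (.mul (.mul (.mul (.l 17) (.l 15)) (.l 19)) (.l 16)) (.l 15)) (.l 18)) (.l 15), .mul (.mul (.mul (.mul (.mul (.mul (.l 20) (.l 15)) (.l 18)) (.l 16)) (.l 15)) (.l 19)) (.l 15), .mul (.mul (.mul (.mul (.mul (.mul (.l 15) (.l 19)) (.l 15)) (.l 17)) (.l 15)) (.l 19)) (.l 15), .mul (.mul (.mul (.mul (.mul (.mul (.mul (.l 19) (.l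 15)) (.l 19)) (.l 17)) (.l 15)) (.l 17)) (.l 15)) (.l 1), .mul (.mul (.mul (.mul (.mul (.mul (.mul (.l 16) (.l 15)) (.l 19)) (.l 16)) (.l 15)) (.l 18)) (.l 15)) (.l 1), .mul (.mul (.mul (.mul (.mul (.mul (.mul (.l 17) (.l 15)) (.l 19)) (.l 16)) (.l 15)) (.l 18)) (.l 15)) (.l 1), .mul (.mul (.mul (.mul (.mul (.mul (.mul (.l 20) (.l 15)) (.l 18)) (.l 16)) (.l 15)) (.l 19)) (.l 15)) (.l 1), .mul (.mul (.mul (.mul (.mul (.mul (.mul (.l 15) (.l 19)) (.l 15)) (.l 17)) (.l 15)) (.l 19)) (.l 15)) (.l 1), .mul (.mul (.mul (.mul (.mul (.mul (.mul (.l 20) (.l 15)) (.l 18)) (.l 17)) (.l 15)) (.l 19)) (.l 15)) (.l 1), .mul (.mul (.mul (.mul (.mul (.mul (.mul (.l 19) (.l 15)) (.l 19)) (.l 17)) (.l 15)) (.l 17)) (.l 3)) (.l 15), .mul (.mul (.mul (.mul (.mul (.mul (.mul (.l 17) (.l 15)) (.l 19)) (.l 16)) (.l 15)) (.l 18)) (.l 3)) (.l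 15), .mul (.mul (.mul (.mul (.mul (.mul (.mul (.l 15) (.l 19)) (.l 15)) (.l 17)) (.l 15)) (.l 19)) (.l 3)) (.l 15), .mul (.mul (.mul (.mul (.mul (.mul (.mul (.l 19) (.l 15)) (.l 19)) (.l 17)) (.l 3)) (.l 15)) (.l 17)) (.l 15), .mul (.mul (.mul (.mul (.mul (.mul (.mul (.l 19) (.l 16)) (.l 15)) (.l 19)) (.l 17)) (.l 15)) (.l 17)) (.l 15), .mul (.mul (.mul (.mul (.mul (.mul (.mul (.l 15) (.l 17)) (.l 15)) (.l 19)) (.l 16)) (.l 15)) (.l 18)) (.l 15), .mul (.mul (.mul (.mul (.mul (.mul (.mul (.mul (.l 15) (.l 17)) (.l 15)) (.l 19)) (.l 16)) (.l 15)) (.l 18)) (.l 15)) (.l 1), .mul (.mul (.mul (.mul (.mul (.mul (.mul (.mul (.l 15) (.l 17)) (.l 15)) (.l 19)) (.l 16)) (.l 15)) (.l 18)) (.l 3)) (.l 15), .mul (.mul (.mul (.mul (.mul (.mul (.mul (.mul (.l 15) (.l 19)) (.l 16)) (.l 15)) (.l 19)) (.l 17)) (.l 15)) (.l 17)) (.l 15)]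

theorem f0_ev : au.eval (.all 1 40 [] (.or (.one (.l 40)) (.or (orCj 40 (.l 1) cw_u) (orCj 40 (.mul (.l 1) (.l 2)) cw_ut)))) = true := by
  decide +kernel

theorem f7_ev : au.eval (.all 3 40 [] (.imp (.one (.mul (.l 40) (.l 40))) (.or (.one (.l 40)) (.or (orCj 40 (.l 1) cw_u) (.or (orCj 40 (.mul (.l 1) (.l 2)) cw_ut)
    (.or (orCj 40 (.l 18) cw_r) (.or (orCj 40 (.l 16) cw_e) (.or (orCj 40 (.l 20) cw_h) (orCj 40 (.mul (.mul (.l 19) (.l 18)) (.l 17)) cw_prk))))))))) = true := by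
  decide +kernel

end Cfsg.Lib.T2.Z
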