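import Cfsg.Agent.Lib.T2.ZQ
import Cfsg.Agent.Lib.Calc.Suz

/-! Relators for the Suzuki group (generated).  Letters `u t c i j l v V w W x X y Y d e k r p h H s q`. -/

set_option autoImplicit false
set_option maxRecDepth 1000000
set_option maxHeartbeats 0

namespace Cfsg.Lib.T2.Z

open Cfsg.Lib.Calc Cfsg.Lib.Grp Cfsg.Lib.T2

/-- inverses of the first 14 letters -/
def iv1 : ℕ := 15877324878426073565216

/-- inverses of all letters -/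
def iv : ℕ := 984778947367146308175985583392393248

/-- letter `v` acts like substitution `v` -/
def relA (v : ℕ) : List W := (List.range 6).map fun i =>
  .mul (.mul (.mul (.l v) (.l (i + 1))) (.inv (.l v))) (.inv ((W.l (i + 1)).subst (subs sbs v)))

/-- braid relations -/
def brd : List (W × ℕ × W × ℕ) := [(.mul (.l 7) (.l 9), 7, .l 0, 9), (.mul (.l 9) (.l 11), 9, .l 0, 11), (.mul (.l 11) (.l 13), 11, .l 0, 13), (.l 7, 11, .l 0, 11), (.l 7, 13, .l 0, 13), (.l 9, 13, .mul (.mul (.mul (.l 6) (.l 5)) (.l 4)) (.l 3), 13)]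

/-- their relators -/
def relB : List W := brd.map fun p =>
  .mul (.mul (.mul p.1 (.l p.2.1)) (.inv p.1)) (.inv (.mul (.mul p.2.2.1 (.l p.2.2.2)) (.inv p.2.2.1)))

/-- cubes -/
def rel3 : List W := [.pow (.l 7) 3, .pow (.l 9) 3, .pow (.l 11) 3, .pow (.l 13) 3]

/-- a presentation of `H` -/
def rel1 : List W := .mul (labW labs 15) (labW labs 15) :: (relQ ++ (relA 7 ++ relA 9 ++ relA 11 ++ relA 13) ++ relB ++ rel3)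

/-- the definitions of the further letters -/
def relD : List W := (List.range 7).map fun i => .mul (labW labs (i + 15)) (.inv (.l (i + 15)))

/-- relators of `H` -/
def relH : List W := [.pow (.mul (.l 15) (.l 16)) 3, .pow (.mul (.l 16) (.l 17)) 2, .pow (.mul (.l 15) (.l 17)) 5, .pow (.mul (.mul (.l 16) (.l 15)) (.l 17)) 5, .mul (.mul (.mul (.l 3) (.l 16)) (.l 3)) (.l 16), .mul (.mul (.mul (.l 3) (.l 17)) (.l 3)) (.l 17), .mul (.mul (.mul (.l 3) (.l 2)) (.l 3)) (.l 2), .mul (.mul (.mul (.l 3) (.l 1)) (.l 3)) (.l 1), .mul (.mul (.mul (.l 15) (.l 2)) (.l 15)) (.l 2), .mul (.mul (.mul (.l 15) (.l 1)) (.l 15)) (.l 1), .mul (.mul (.mul (.l 16) (.l 2)) (.l 16)) (.l 2), .mul (.mul (.mul (.l 16) (.l 1)) (.l 16)) (.l 1), .mul (.mul (.mul (.l 17) (.l 2)) (.l 17)) (.l 2), .mul (.mul (.mul (.l 17) (.l 1)) (.l 17)) (.l 1), .mul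 (.mul (.mul (.mul (.mul (.mul (.mul (.l 2) (.l 1)) (.l 2)) (.l 1)) (.l 2)) (.l 1)) (.l 2)) (.l 1), .mul (.mul (.mul (.mul (.mul (.mul (.mul (.mul (.mul (.mul (.mul (.l 3) (.l 15)) (.l 3)) (.l 15)) (.l 3)) (.l 15)) (.l 3)) (.l 15)) (.l 2)) (.l 1)) (.l 2)) (.l 1), .mul (.mul (.mul (.mul (.mul (.mul (.mul (.mul (.mul (.mul (.mul (.mul (.mul (.l 3) (.l 15)) (.l 16)) (.l 17)) (.l 15)) (.l 17)) (.l 15)) (.l 3)) (.l 15)) (.l 17)) (.l 15)) (.l 16)) (.l 17)) (.l 15), .mul (.mul (.mul (.mul (.mul (.mul (.mul (.mul (.mul (.mul (.mul (.mul (.mul (.mul (.l 3) (.l 15)) (.l 3)) (.l 17)) (.l 15)) (.l 3)) (.l 17)) (.l 15)) (.l 3)) (.l 17)) (.l 15)) (.l 17)) (.l 3)) (.l 15)) (.l 17), .mul (.mul (.mul (.l 16) (.l 18)) (.l 16)) (.l 18), .mul (.mul (.mul (.mul (.l 2) (.l 3)) (.l 18)) (.l 2)) (.l 18), .mul (.mul (.mul (.mul (.mul (.mul (.mul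 (.mul (.l 1) (.l 15)) (.l 18)) (.l 15)) (.l 18)) (.l 15)) (.l 18)) (.l 15)) (.l 18), .mul (.mul (.mul (.mul (.mul (.mul (.mul (.mul (.mul (.mul (.l 1) (.l 3)) (.l 15)) (.l 3)) (.l 15)) (.l 3)) (.l 18)) (.l 15)) (.l 3)) (.l 15)) (.l 18), .mul (.mul (.mul (.mul (.mul (.mul (.mul (.mul (.mul (.mul (.mul (.mul (.mul (.mul (.mul (.mul (.mul (.l 1) (.l 16)) (.l 15)) (.l 17)) (.l 15)) (.l 16)) (.l 18)) (.l 15)) (.l 16)) (.l 18)) (.l 15)) (.l 17)) (.l 18)) (.l 15)) (.l 18)) (.l 16)) (.l 15)) (.l 18), .mul (.mul (.mul (.l 16) (.l 19)) (.l 16)) (.l 19), .mul (.mul (.mul (.mul (.mul (.mul (.l 1) (.l 2)) (.l 3)) (.l 19)) (.l 1)) (.l 19)) (.l 2), .mul (.mul (.mul (.mul (.mul (.mul (.mul (.mul (.l 2) (.l 15)) (.l 19)) (.l 15)) (.l 19)) (.l 15)) (.l 19)) (.l 15)) (.l 19), .mul (.mul (.mul (.mul (.mul (.mul (.mul (.mul (.mul (.mul (.l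 1) (.l 2)) (.l 1)) (.l 15)) (.l 3)) (.l 15)) (.l 19)) (.l 15)) (.l 3)) (.l 15)) (.l 19), .mul (.mul (.mul (.mul (.mul (.mul (.mul (.mul (.mul (.mul (.mul (.mul (.mul (.mul (.mul (.mul (.l 15) (.l 16)) (.l 19)) (.l 15)) (.l 16)) (.l 19)) (.l 15)) (.l 17)) (.l 19)) (.l 15)) (.l 19)) (.l 16)) (.l 15)) (.l 19)) (.l 16)) (.l 15)) (.l 17), .mul (.mul (.mul (.mul (.mul (.mul (.mul (.mul (.mul (.mul (.mul (.mul (.mul (.mul (.mul (.l 15) (.l 16)) (.l 15)) (.l 19)) (.l 18)) (.l 15)) (.l 19)) (.l 16)) (.l 18)) (.l 15)) (.l 16)) (.l 18)) (.l 19)) (.l 15)) (.l 18)) (.l 19), .mul (.mul (.mul (.l 1) (.l 20)) (.l 2)) (.inv (.l 20)), .mul (.mul (.mul (.l 15) (.l 20)) (.l 15)) (.inv (.l 20)), .mul (.mul (.mul (.mul (.l 16) (.l 17)) (.l 20)) (.l 17)) (.inv (.l 20)), .mul (.mul (.mul (.mul (.mul (.mul (.mul (.mul (.mul (.mul (.mul (.mul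 (.mul (.l 1) (.l 2)) (.l 18)) (.inv (.l 20))) (.l 18)) (.l 15)) (.l 18)) (.inv (.l 20))) (.l 18)) (.l 15)) (.l 18)) (.l 20)) (.l 18)) (.l 15), .mul (.mul (.mul (.l 19) (.l 20)) (.l 18)) (.inv (.l 20)), .mul (.mul (.mul (.l 3) (.l 18)) (.l 3)) (.l 18), .mul (.mul (.mul (.l 17) (.l 18)) (.l 17)) (.l 18), .mul (.mul (.mul (.l 1) (.l 18)) (.l 1)) (.l 18), .mul (.mul (.mul (.mul (.mul (.l 16) (.l 17)) (.l 18)) (.l 16)) (.l 18)) (.l 17), .mul (.mul (.mul (.mul (.mul (.l 1) (.l 15)) (.l 18)) (.l 1)) (.l 18)) (.l 15), .mul (.mul (.mul (.mul (.mul (.mul (.l 2) (.l 3)) (.l 18)) (.l 15)) (.l 2)) (.l 15)) (.l 18), .mul (.mul (.mul (.mul (.mul (.mul (.mul (.l 15) (.l 16)) (.l 15)) (.l 16)) (.l 15)) (.l 18)) (.l 16)) (.l 18), .mul (.mul (.mul (.mul (.mul (.mul (.mul (.l 1) (.l 16)) (.l 15)) (.l 18)) (.l 1)) (.l 18)) (.l 15)) (.l 16),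 .mul (.mul (.mul (.mul (.mul (.mul (.mul (.l 1) (.l 17)) (.l 15)) (.l 18)) (.l 1)) (.l 18)) (.l 15)) (.l 17), .mul (.mul (.mul (.mul (.mul (.mul (.mul (.l 1) (.l 18)) (.l 15)) (.l 18)) (.l 1)) (.l 18)) (.l 15)) (.l 18), .mul (.mul (.mul (.l 3) (.l 19)) (.l 3)) (.l 19), .mul (.mul (.mul (.l 17) (.l 19)) (.l 17)) (.l 19), .mul (.mul (.mul (.l 2) (.l 19)) (.l 2)) (.l 19), .mul (.mul (.mul (.mul (.mul (.l 16) (.l 17)) (.l 19)) (.l 16)) (.l 19)) (.l 17), .mul (.mul (.mul (.mul (.mul (.l 2) (.l 15)) (.l 19)) (.l 2)) (.l 19)) (.l 15), .mul (.mul (.mul (.mul (.mul (.mul (.mul (.l 15) (.l 16)) (.l 15)) (.l 16)) (.l 15)) (.l 19)) (.l 16)) (.l 19), .mul (.mul (.mul (.mul (.mul (.mul (.mul (.l 2) (.l 16)) (.l 15)) (.l 19)) (.l 2)) (.l 19)) (.l 15)) (.l 16), .mul (.mul (.mul (.mul (.mul (.mul (.mul (.l 2) (.l 17)) (.l 15)) (.l 19))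 (.l 2)) (.l 19)) (.l 15)) (.l 17), .mul (.mul (.mul (.mul (.mul (.mul (.mul (.l 2) (.l 19)) (.l 15)) (.l 19)) (.l 2)) (.l 19)) (.l 15)) (.l 19), .mul (.mul (.mul (.mul (.mul (.l 16) (.l 18)) (.l 19)) (.l 16)) (.l 19)) (.l 18), .mul (.mul (.mul (.mul (.mul (.l 17) (.l 18)) (.l 19)) (.l 17)) (.l 19)) (.l 18), .mul (.mul (.mul (.mul (.mul (.mul (.mul (.l 16) (.l 17)) (.l 18)) (.l 19)) (.l 16)) (.l 19)) (.l 18)) (.l 17), .mul (.mul (.mul (.mul (.mul (.mul (.mul (.l 1) (.l 2)) (.l 1)) (.l 2)) (.l 18)) (.l 19)) (.l 18)) (.l 19), .mul (.mul (.mul (.mul (.mul (.mul (.mul (.mul (.l 1) (.l 2)) (.l 3)) (.l 19)) (.l 15)) (.l 1)) (.l 15)) (.l 19)) (.l 2), .mul (.mul (.mul (.mul (.mul (.mul (.mul (.mul (.mul (.l 15) (.l 16)) (.l 15)) (.l 16)) (.l 15)) (.l 19)) (.l 17)) (.l 16)) (.l 17)) (.l 19), .mul (.mul (.mul (.mul (.mul (.mul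 (.mul (.mul (.mul (.l 2) (.l 17)) (.l 16)) (.l 15)) (.l 19)) (.l 2)) (.l 19)) (.l 15)) (.l 16)) (.l 17), .mul (.mul (.mul (.mul (.mul (.mul (.mul (.mul (.mul (.l 2) (.l 19)) (.l 15)) (.l 16)) (.l 19)) (.l 2)) (.l 19)) (.l 16)) (.l 15)) (.l 19), .mul (.mul (.mul (.l 1) (.inv (.l 20))) (.l 2)) (.l 20), .mul (.mul (.mul (.l 16) (.l 20)) (.l 16)) (.inv (.l 20)), .mul (.mul (.mul (.mul (.l 16) (.l 17)) (.inv (.l 20))) (.l 17)) (.l 20), .mul (.mul (.mul (.mul (.mul (.l 1) (.l 2)) (.l 1)) (.l 2)) (.l 20)) (.l 20), .mul (.mul (.mul (.mul (.mul (.l 1) (.l 2)) (.l 1)) (.l 2)) (.inv (.l 20))) (.inv (.l 20)), .mul (.mul (.mul (.mul (.mul (.l 1) (.l 18)) (.l 20)) (.l 2)) (.inv (.l 20))) (.l 18), .mul (.mul (.mul (.mul (.mul (.l 16) (.l 18)) (.l 20)) (.l 16)) (.inv (.l 20))) (.l 18), .mul (.mul (.mul (.mul (.mul (.mul (.l 16) (.l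 17)) (.inv (.l 20))) (.l 18)) (.l 17)) (.l 18)) (.l 20), .mul (.mul (.mul (.mul (.mul (.mul (.l 16) (.l 18)) (.l 17)) (.l 20)) (.l 17)) (.inv (.l 20))) (.l 18), .mul (.mul (.mul (.mul (.mul (.mul (.mul (.l 1) (.l 2)) (.l 1)) (.l 2)) (.l 3)) (.inv (.l 20))) (.l 3)) (.l 20), .mul (.mul (.mul (.mul (.mul (.mul (.mul (.l 1) (.l 15)) (.l 18)) (.l 20)) (.l 2)) (.inv (.l 20))) (.l 18)) (.l 15), .mul (.mul (.mul (.mul (.mul (.mul (.mul (.l 2) (.l 20)) (.l 18)) (.l 20)) (.l 2)) (.inv (.l 20))) (.l 18)) (.inv (.l 20)), .mul (.mul (.mul (.mul (.mul (.mul (.mul (.l 3) (.l 20)) (.l 18)) (.l 20)) (.l 3)) (.inv (.l 20))) (.l 18)) (.inv (.l 20)), .mul (.mul (.mul (.mul (.mul (.mul (.mul (.l 16) (.l 20)) (.l 18)) (.l 20)) (.l 16)) (.inv (.l 20))) (.l 18)) (.inv (.l 20)), .mul (.mul (.mul (.mul (.mul (.mul (.mul (.l 17) (.l 20)) (.l 18))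 (.l 20)) (.l 17)) (.inv (.l 20))) (.l 18)) (.inv (.l 20)), .mul (.mul (.mul (.mul (.mul (.mul (.mul (.mul (.l 1) (.l 2)) (.l 3)) (.inv (.l 20))) (.l 18)) (.l 2)) (.l 18)) (.l 20)) (.l 2), .mul (.mul (.mul (.mul (.mul (.mul (.mul (.mul (.mul (.l 1) (.l 2)) (.l 1)) (.l 2)) (.l 3)) (.inv (.l 20))) (.l 18)) (.l 3)) (.l 18)) (.l 20), .mul (.mul (.mul (.l 18) (.l 20)) (.l 19)) (.inv (.l 20)), .mul (.mul (.mul (.l 18) (.inv (.l 20))) (.l 19)) (.l 20), .mul (.mul (.mul (.mul (.mul (.l 1) (.l 20)) (.l 19)) (.l 2)) (.l 19)) (.inv (.l 20)), .mul (.mul (.mul (.mul (.mul (.l 16) (.l 19)) (.inv (.l 20))) (.l 16)) (.l 20)) (.l 19), .mul (.mul (.mul (.mul (.mul (.mul (.l 16) (.l 17)) (.l 19)) (.inv (.l 20))) (.l 17)) (.l 20)) (.l 19), .mul (.mul (.mul (.mul (.mul (.mul (.mul (.l 1) (.l 2)) (.l 1)) (.l 2)) (.l 19)) (.l 20)) (.l 20))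 (.l 19), .mul (.mul (.mul (.mul (.mul (.mul (.mul (.l 1) (.l 2)) (.l 1)) (.l 2)) (.l 19)) (.inv (.l 20))) (.inv (.l 20))) (.l 19), .mul (.mul (.mul (.mul (.mul (.mul (.mul (.l 1) (.l 20)) (.l 15)) (.l 19)) (.l 2)) (.l 19)) (.l 15)) (.inv (.l 20)), .mul (.mul (.mul (.mul (.mul (.mul (.mul (.mul (.l 1) (.l 2)) (.l 3)) (.l 19)) (.inv (.l 20))) (.l 2)) (.l 20)) (.l 19)) (.l 2), .mul (.mul (.mul (.mul (.mul (.mul (.mul (.mul (.mul (.l 1) (.l 2)) (.l 1)) (.l 2)) (.l 3)) (.l 19)) (.inv (.l 20))) (.l 3)) (.l 20)) (.l 19), .mul (.mul (.mul (.mul (.mul (.mul (.mul (.mul (.mul (.l 1) (.l 2)) (.l 1)) (.l 2)) (.l 18)) (.l 19)) (.inv (.l 20))) (.l 19)) (.l 20)) (.l 19), .mul (.mul (.mul (.l 19) (.l 2)) (.l 19)) (.l 2), .mul (.mul (.mul (.l 18) (.l 1)) (.l 18)) (.l 1), .mul (.mul (.mul (.mul (.l 3) (.l 18)) (.l 2)) (.l 18)) (.l 2),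 .mul (.mul (.mul (.mul (.mul (.l 3) (.l 19)) (.l 1)) (.l 3)) (.l 1)) (.l 19), .mul (.mul (.mul (.mul (.mul (.mul (.l 3) (.l 19)) (.l 18)) (.l 2)) (.l 18)) (.l 19)) (.l 2), .mul (.mul (.mul (.mul (.mul (.mul (.l 3) (.l 19)) (.l 18)) (.l 1)) (.l 19)) (.l 18)) (.l 1), .mul (.mul (.mul (.mul (.mul (.mul (.l 3) (.l 19)) (.l 2)) (.l 1)) (.l 19)) (.l 2)) (.l 1), .mul (.mul (.mul (.mul (.mul (.mul (.l 3) (.l 19)) (.l 1)) (.l 19)) (.l 2)) (.l 1)) (.l 2), .mul (.mul (.mul (.mul (.mul (.mul (.l 3) (.l 19)) (.l 1)) (.l 18)) (.l 19)) (.l 18)) (.l 1), .mul (.mul (.mul (.mul (.mul (.mul (.l 3) (.l 19)) (.l 1)) (.l 2)) (.l 19)) (.l 1)) (.l 2), .mul (.mul (.mul (.mul (.mul (.mul (.l 3) (.l 18)) (.l 19)) (.l 18)) (.l 1)) (.l 19)) (.l 1), .mul (.mul (.mul (.mul (.mul (.mul (.l 3) (.l 18)) (.l 19)) (.l 1)) (.l 18)) (.l 19)) (.l 1), .mul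 (.mul (.mul (.mul (.mul (.mul (.l 3) (.l 18)) (.l 1)) (.l 2)) (.l 18)) (.l 2)) (.l 1), .mul (.mul (.mul (.mul (.mul (.mul (.mul (.l 19) (.l 18)) (.l 19)) (.l 18)) (.l 2)) (.l 1)) (.l 2)) (.l 1), .mul (.mul (.mul (.mul (.mul (.mul (.mul (.l 19) (.l 18)) (.l 19)) (.l 18)) (.l 1)) (.l 2)) (.l 1)) (.l 2), .mul (.mul (.mul (.mul (.mul (.mul (.mul (.l 19) (.l 18)) (.l 19)) (.l 2)) (.l 1)) (.l 2)) (.l 18)) (.l 1), .mul (.mul (.mul (.mul (.mul (.mul (.mul (.l 19) (.l 18)) (.l 19)) (.l 1)) (.l 19)) (.l 18)) (.l 19)) (.l 1), .mul (.mul (.mul (.mul (.mul (.mul (.mul (.l 19) (.l 18)) (.l 2)) (.l 19)) (.l 1)) (.l 2)) (.l 18)) (.l 1), .mul (.mul (.mul (.mul (.mul (.mul (.mul (.l 19) (.l 18)) (.l 2)) (.l 19)) (.l 1)) (.l 2)) (.l 1)) (.l 18), .mul (.mul (.mul (.mul (.mul (.mul (.mul (.l 19) (.l 18)) (.l 2)) (.l 18)) (.l 1)) (.l 19))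 (.l 2)) (.l 1), .mul (.mul (.mul (.mul (.mul (.mul (.mul (.l 19) (.l 18)) (.l 2)) (.l 18)) (.l 1)) (.l 2)) (.l 19)) (.l 1), .mul (.mul (.mul (.mul (.mul (.mul (.mul (.l 19) (.l 18)) (.l 2)) (.l 1)) (.l 19)) (.l 18)) (.l 1)) (.l 2), .mul (.mul (.mul (.mul (.mul (.mul (.mul (.l 19) (.l 18)) (.l 2)) (.l 1)) (.l 19)) (.l 1)) (.l 18)) (.l 2), .mul (.mul (.mul (.mul (.mul (.mul (.mul (.l 19) (.l 18)) (.l 2)) (.l 1)) (.l 18)) (.l 19)) (.l 2)) (.l 1), .mul (.mul (.mul (.mul (.mul (.mul (.mul (.l 19) (.l 18)) (.l 2)) (.l 1)) (.l 18)) (.l 2)) (.l 19)) (.l 1), .mul (.mul (.mul (.mul (.mul (.mul (.mul (.l 19) (.l 1)) (.l 19)) (.l 1)) (.l 19)) (.l 1)) (.l 19)) (.l 1), .mul (.mul (.mul (.mul (.mul (.mul (.mul (.l 19) (.l 1)) (.l 2)) (.l 1)) (.l 19)) (.l 1)) (.l 2)) (.l 1), .mul (.mul (.mul (.mul (.mul (.mul (.mul (.mul (.l 3) (.l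 19)) (.l 18)) (.l 19)) (.l 2)) (.l 18)) (.l 1)) (.l 2)) (.l 1), .mul (.mul (.mul (.mul (.mul (.mul (.mul (.mul (.l 3) (.l 19)) (.l 18)) (.l 19)) (.l 1)) (.l 2)) (.l 18)) (.l 1)) (.l 2)]

/-- relators of the amalgam -/
def relS : List W := [.mul (.mul (.mul (.l 3) (.l 22)) (.l 18)) (.l 22), .mul (.mul (.mul (.l 15) (.l 22)) (.l 15)) (.l 22), .mul (.mul (.mul (.l 16) (.l 22)) (.l 16)) (.l 22), .mul (.mul (.mul (.l 17) (.l 22)) (.l 17)) (.l 22), .mul (.mul (.mul (.mul (.mul (.l 2) (.l 22)) (.l 2)) (.l 22)) (.l 2)) (.l 22), .mul (.mul (.mul (.l 23) (.l 20)) (.l 22)) (.inv (.l 20))]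

/-- consequences -/
def lp0 : List W := [.mul (.mul (.mul (.mul (.mul (.l 2) (.l 3)) (.l 2)) (.l 22)) (.l 18)) (.l 22), .mul (.mul (.mul (.mul (.mul (.l 2) (.l 15)) (.l 2)) (.l 22)) (.l 15)) (.l 22), .mul (.mul (.mul (.mul (.mul (.l 2) (.l 16)) (.l 2)) (.l 22)) (.l 16)) (.l 22), .mul (.mul (.mul (.mul (.mul (.l 2) (.l 17)) (.l 2)) (.l 22)) (.l 17)) (.l 22), .mul (.mul (.mul (.mul (.mul (.mul (.l 2) (.l 18)) (.l 2)) (.l 22)) (.l 3)) (.l 18)) (.l 22), .mul (.mul (.mul (.mul (.mul (.mul (.l 1) (.l 2)) (.l 1)) (.l 2)) (.l 22)) (.l 1)) (.l 22), .mul (.mul (.mul (.mul (.mul (.mul (.mul (.l 1) (.l 2)) (.l 22)) (.l 2)) (.l 1)) (.l 2)) (.l 22)) (.l 2), .mul (.mul (.mul (.l 15) (.l 23)) (.l 15)) (.l 23), .mul (.mul (.mul (.l 16) (.l 23)) (.l 16)) (.l 23), .mul (.mul (.mul (.l 17) (.l 23)) (.l 17)) (.l 23), .mul (.mul (.mul (.mul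 (.l 2) (.l 19)) (.l 23)) (.l 3)) (.l 23), .mul (.mul (.mul (.mul (.mul (.l 1) (.l 15)) (.l 1)) (.l 23)) (.l 15)) (.l 23), .mul (.mul (.mul (.mul (.mul (.l 1) (.l 16)) (.l 1)) (.l 23)) (.l 16)) (.l 23), .mul (.mul (.mul (.mul (.mul (.l 1) (.l 17)) (.l 1)) (.l 23)) (.l 17)) (.l 23), .mul (.mul (.mul (.mul (.mul (.l 1) (.l 23)) (.l 1)) (.l 23)) (.l 1)) (.l 23), .mul (.mul (.mul (.mul (.mul (.mul (.l 1) (.l 3)) (.l 1)) (.l 23)) (.l 2)) (.l 19)) (.l 23), .mul (.mul (.mul (.mul (.mul (.mul (.l 1) (.l 19)) (.l 1)) (.l 19)) (.l 23)) (.l 19)) (.l 23), .mul (.mul (.mul (.mul (.mul (.mul (.l 1) (.l 2)) (.l 1)) (.l 2)) (.l 23)) (.l 2)) (.l 23), .mul (.mul (.mul (.mul (.mul (.mul (.mul (.l 1) (.l 19)) (.l 1)) (.l 23)) (.l 1)) (.l 19)) (.l 1)) (.l 23), .mul (.mul (.mul (.mul (.mul (.mul (.mul (.l 1) (.l 2)) (.l 1)) (.l 23)) (.l 1))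 (.l 2)) (.l 1)) (.l 23), .mul (.mul (.mul (.mul (.mul (.mul (.l 22) (.l 1)) (.l 2)) (.l 1)) (.l 2)) (.l 22)) (.l 1), .mul (.mul (.mul (.mul (.mul (.mul (.l 23) (.l 1)) (.l 2)) (.l 1)) (.l 2)) (.l 23)) (.l 2), .pow (.mul (.l 23) (.l 1)) 3]

/-- relators of `A₆` -/
def relE : List W := [.pow (.mul (.l 22) (.l 23)) 5, .pow (.mul (.mul (.l 2) (.l 23)) (.l 22)) 4]

/-- `(s p) ^ 5` -/
def w5 : W := .pow (.mul (.l 22) (.l 19)) 5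

/-- an element of order 3 -/
def w3 : W := .mul (.mul (.mul (.mul (.mul (.l 15) (.l 17)) (.l 15)) (.l 17)) (.l 16)) (.l 15)

/-- the torus relator -/
def tor : W := .mul (.mul (.mul (.mul (.mul (.mul (.mul (.mul (.mul (.mul (.mul (.mul (.mul (.mul (.l 22) (.l 19)) (.l 22)) (.l 19)) (.l 2)) (.l 22)) (.l 23)) (.l 18)) (.l 23)) (.l 18)) (.l 1)) (.l 23)) (.l 2)) (.l 18)) (.l 19)

/-- commutators -/
def cms (a : W) (l : List W) : List W := l.map fun b => .mul (.mul (.mul a b) (.inv a)) (.inv b)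

/-- commutators with `w5` -/
def lp2 : List W := cms w5 [.l 1, .l 3, .l 18, wz, .l 16, w3]

/-- consequences -/
def lp3 : List W := [.pow (.mul (.l 23) (.l 18)) 5, .mul (.mul (.mul (.mul (.mul (.mul (.mul (.mul (.mul (.mul (.mul (.mul (.mul (.mul (.mul (.mul (.l 22) (.l 19)) (.l 22)) (.l 19)) (.l 2)) (.l 22)) (.l 1)) (.l 22)) (.l 2)) (.l 19)) (.l 22)) (.l 19)) (.l 22)) (.l 19)) (.l 18)) (.l 19)) (.l 1), .mul (.mul (.mul (.mul (.mul (.mul (.mul (.mul (.mul (.mul (.mul (.mul (.mul (.l 22) (.l 19)) (.l 22)) (.l 19)) (.l 2)) (.l 22)) (.l 2)) (.l 22)) (.l 2)) (.l 19)) (.l 22)) (.l 19)) (.l 22)) (.l 19), .mul (.mul (.mul (.mul (.mul (.mul (.mul (.mul (.mul (.mul (.mul (.mul (.mul (.mul (.mul (.mul (.l 22) (.l 19)) (.l 22)) (.l 19)) (.l 2)) (.l 22)) (.l 3)) (.l 22)) (.l 2)) (.l 19)) (.l 22)) (.l 19)) (.l 22)) (.l 19)) (.l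 1)) (.l 19)) (.l 1), .mul (.mul (.mul (.mul (.mul (.mul (.mul (.mul (.mul (.mul (.mul (.mul (.mul (.mul (.l 22) (.l 19)) (.l 22)) (.l 19)) (.l 2)) (.l 22)) (.l 18)) (.l 22)) (.l 2)) (.l 19)) (.l 22)) (.l 19)) (.l 22)) (.l 3)) (.l 1), .mul (.mul (.mul (.mul (.mul (.mul (.mul (.mul (.mul (.mul (.mul (.mul (.mul (.mul (.l 22) (.l 19)) (.l 22)) (.l 19)) (.l 2)) (.l 22)) (.l 19)) (.l 22)) (.l 2)) (.l 19)) (.l 22)) (.l 19)) (.l 22)) (.l 19)) (.l 2), .mul (.mul (.mul (.mul (.mul (.mul (.mul (.mul (.mul (.mul (.mul (.mul (.mul (.l 23) (.l 18)) (.l 23)) (.l 18)) (.l 1)) (.l 23)) (.l 1)) (.l 23)) (.l 1)) (.l 18)) (.l 23)) (.l 18)) (.l 23)) (.l 18), .mul (.mul (.mul (.mul (.mul (.mul (.mul (.mul (.mul (.mul (.mul (.mul (.mul (.mul (.mul (.mul (.l 23) (.l 18)) (.l 23)) (.l 18)) (.l 1)) (.l 23)) (.l 2)) (.l 23)) (.l 1)) (.l 18))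 (.l 23)) (.l 18)) (.l 23)) (.l 19)) (.l 1)) (.l 2)) (.l 1), .mul (.mul (.mul (.mul (.mul (.mul (.mul (.mul (.mul (.mul (.mul (.mul (.mul (.mul (.mul (.mul (.l 23) (.l 18)) (.l 23)) (.l 18)) (.l 1)) (.l 23)) (.l 3)) (.l 23)) (.l 1)) (.l 18)) (.l 23)) (.l 18)) (.l 23)) (.l 2)) (.l 1)) (.l 2)) (.l 1), .mul (.mul (.mul (.mul (.mul (.mul (.mul (.mul (.mul (.mul (.mul (.mul (.mul (.mul (.l 23) (.l 18)) (.l 23)) (.l 18)) (.l 1)) (.l 23)) (.l 18)) (.l 23)) (.l 1)) (.l 18)) (.l 23)) (.l 18)) (.l 23)) (.l 18)) (.l 1), .mul (.mul (.mul (.mul (.mul (.mul (.mul (.mul (.mul (.mul (.mul (.mul (.mul (.mul (.mul (.mul (.l 23) (.l 18)) (.l 23)) (.l 18)) (.l 1)) (.l 23)) (.l 19)) (.l 23)) (.l 1)) (.l 18)) (.l 23)) (.l 18)) (.l 23)) (.l 3)) (.l 1)) (.l 2)) (.l 1), .mul (.mul (.mul (.mul (.mul (.l 3) (.l 22)) (.l 1)) (.l 18)) (.l 1)) (.l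 22), .mul (.mul (.mul (.mul (.mul (.l 3) (.l 2)) (.l 22)) (.l 18)) (.l 22)) (.l 2), .mul (.mul (.mul (.mul (.mul (.l 3) (.l 1)) (.l 22)) (.l 18)) (.l 22)) (.l 1), .mul (.mul (.mul (.mul (.mul (.l 22) (.l 2)) (.l 22)) (.l 2)) (.l 22)) (.l 2), .mul (.mul (.mul (.mul (.mul (.mul (.l 3) (.l 18)) (.l 22)) (.l 2)) (.l 18)) (.l 2)) (.l 22), .mul (.mul (.mul (.mul (.mul (.mul (.l 3) (.l 22)) (.l 19)) (.l 18)) (.l 19)) (.l 22)) (.l 1), .mul (.mul (.mul (.mul (.mul (.mul (.l 19) (.l 18)) (.l 19)) (.l 18)) (.l 22)) (.l 1)) (.l 22), .mul (.mul (.mul (.mul (.mul (.mul (.l 22) (.l 2)) (.l 1)) (.l 2)) (.l 1)) (.l 22)) (.l 1), .mul (.mul (.mul (.mul (.mul (.mul (.mul (.l 3) (.l 19)) (.l 22)) (.l 1)) (.l 22)) (.l 1)) (.l 19)) (.l 1), .mul (.mul (.mul (.mul (.mul (.mul (.mul (.l 3) (.l 19)) (.l 1)) (.l 22)) (.l 1)) (.l 22)) (.l 19)) (.l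 1), .mul (.mul (.mul (.mul (.mul (.mul (.mul (.l 3) (.l 22)) (.l 1)) (.l 22)) (.l 19)) (.l 1)) (.l 19)) (.l 1), .mul (.mul (.mul (.mul (.mul (.mul (.mul (.l 3) (.l 2)) (.l 1)) (.l 22)) (.l 18)) (.l 22)) (.l 1)) (.l 2), .mul (.mul (.mul (.mul (.mul (.mul (.mul (.l 3) (.l 1)) (.l 2)) (.l 22)) (.l 18)) (.l 22)) (.l 2)) (.l 1), .mul (.mul (.mul (.mul (.l 3) (.l 23)) (.l 19)) (.l 2)) (.l 23), .mul (.mul (.mul (.mul (.mul (.l 23) (.l 1)) (.l 23)) (.l 1)) (.l 23)) (.l 1), .mul (.mul (.mul (.mul (.mul (.mul (.l 3) (.l 19)) (.l 3)) (.l 23)) (.l 3)) (.l 23)) (.l 2), .mul (.mul (.mul (.mul (.mul (.mul (.l 3) (.l 19)) (.l 23)) (.l 3)) (.l 23)) (.l 3)) (.l 2), .mul (.mul (.mul (.mul (.mul (.mul (.l 3) (.l 19)) (.l 23)) (.l 19)) (.l 2)) (.l 23)) (.l 19), .mul (.mul (.mul (.mul (.mul (.mul (.l 3) (.l 18)) (.l 23)) (.l 19)) (.l 2))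 (.l 23)) (.l 18), .mul (.mul (.mul (.mul (.mul (.mul (.l 3) (.l 2)) (.l 23)) (.l 19)) (.l 2)) (.l 23)) (.l 2), .mul (.mul (.mul (.mul (.mul (.mul (.l 3) (.l 1)) (.l 23)) (.l 19)) (.l 2)) (.l 23)) (.l 1), .mul (.mul (.mul (.mul (.mul (.mul (.l 19) (.l 23)) (.l 19)) (.l 23)) (.l 1)) (.l 19)) (.l 1), .mul (.mul (.mul (.mul (.mul (.mul (.l 19) (.l 23)) (.l 2)) (.l 23)) (.l 18)) (.l 19)) (.l 18), .mul (.mul (.mul (.mul (.mul (.mul (.l 23) (.l 2)) (.l 23)) (.l 2)) (.l 1)) (.l 2)) (.l 1), .mul (.mul (.mul (.mul (.mul (.mul (.mul (.l 3) (.l 19)) (.l 23)) (.l 18)) (.l 19)) (.l 2)) (.l 18)) (.l 23), .mul (.mul (.mul (.mul (.mul (.mul (.mul (.l 3) (.l 19)) (.l 23)) (.l 18)) (.l 2)) (.l 19)) (.l 18)) (.l 23), .mul (.mul (.mul (.mul (.mul (.mul (.mul (.l 3) (.l 19)) (.l 23)) (.l 2)) (.l 23)) (.l 1)) (.l 19)) (.l 1), .mul (.mul (.mul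 (.mul (.mul (.mul (.mul (.l 3) (.l 19)) (.l 23)) (.l 2)) (.l 1)) (.l 19)) (.l 1)) (.l 23), .mul (.mul (.mul (.mul (.mul (.mul (.mul (.l 3) (.l 19)) (.l 23)) (.l 1)) (.l 19)) (.l 1)) (.l 2)) (.l 23), .mul (.mul (.mul (.mul (.mul (.mul (.mul (.l 3) (.l 19)) (.l 18)) (.l 19)) (.l 23)) (.l 19)) (.l 23)) (.l 18), .mul (.mul (.mul (.mul (.mul (.mul (.mul (.l 3) (.l 19)) (.l 18)) (.l 19)) (.l 18)) (.l 23)) (.l 19)) (.l 23), .mul (.mul (.mul (.mul (.mul (.mul (.mul (.l 3) (.l 19)) (.l 18)) (.l 23)) (.l 19)) (.l 23)) (.l 19)) (.l 18), .mul (.mul (.mul (.mul (.mul (.mul (.mul (.l 3) (.l 19)) (.l 18)) (.l 2)) (.l 18)) (.l 23)) (.l 3)) (.l 23), .mul (.mul (.mul (.mul (.mul (.mul (.mul (.l 3) (.l 19)) (.l 2)) (.l 1)) (.l 23)) (.l 3)) (.l 23)) (.l 1), .mul (.mul (.mul (.mul (.mul (.mul (.mul (.l 3) (.l 19)) (.l 1)) (.l 19)) (.l 23))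 (.l 2)) (.l 23)) (.l 1), .mul (.mul (.mul (.mul (.mul (.mul (.mul (.l 3) (.l 19)) (.l 1)) (.l 19)) (.l 1)) (.l 23)) (.l 2)) (.l 23), .mul (.mul (.mul (.mul (.mul (.mul (.mul (.l 23) (.l 2)) (.l 1)) (.l 23)) (.l 1)) (.l 2)) (.l 23)) (.l 1), .mul (.mul (.mul (.mul (.mul (.mul (.mul (.l 23) (.l 1)) (.l 2)) (.l 1)) (.l 23)) (.l 1)) (.l 2)) (.l 1), .mul (.mul (.mul (.mul (.mul (.mul (.mul (.l 22) (.l 2)) (.l 22)) (.l 1)) (.l 2)) (.l 22)) (.l 2)) (.l 1), .mul (.mul (.mul (.mul (.mul (.mul (.mul (.l 22) (.l 2)) (.l 1)) (.l 2)) (.l 22)) (.l 2)) (.l 1)) (.l 2), .mul (.mul (.mul (.mul (.mul (.l 23) (.l 22)) (.l 1)) (.l 22)) (.l 23)) (.l 2), .mul (.mul (.mul (.mul (.mul (.mul (.mul (.l 23) (.l 2)) (.l 23)) (.l 2)) (.l 22)) (.l 1)) (.l 22)) (.l 2), .mul (.mul (.mul (.mul (.mul (.mul (.mul (.l 23) (.l 2)) (.l 23)) (.l 1)) (.l 22))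 (.l 1)) (.l 22)) (.l 1), .mul (.mul (.mul (.mul (.mul (.mul (.mul (.mul (.l 23) (.l 22)) (.l 2)) (.l 1)) (.l 2)) (.l 22)) (.l 1)) (.l 23)) (.l 2), .mul (.mul (.mul (.mul (.mul (.mul (.mul (.mul (.l 23) (.l 22)) (.l 1)) (.l 22)) (.l 2)) (.l 23)) (.l 1)) (.l 2)) (.l 1), .mul (.mul (.mul (.mul (.mul (.mul (.mul (.mul (.mul (.l 23) (.l 22)) (.l 23)) (.l 22)) (.l 23)) (.l 22)) (.l 23)) (.l 22)) (.l 23)) (.l 22), .mul (.mul (.mul (.mul (.mul (.mul (.mul (.mul (.mul (.mul (.l 23) (.l 2)) (.l 1)) (.l 22)) (.l 1)) (.l 22)) (.l 1)) (.l 23)) (.l 1)) (.l 2)) (.l 1), .mul (.mul (.mul (.mul (.mul (.mul (.mul (.mul (.mul (.mul (.mul (.l 23) (.l 22)) (.l 23)) (.l 22)) (.l 23)) (.l 22)) (.l 23)) (.l 22)) (.l 2)) (.l 23)) (.l 22)) (.l 1), .mul (.mul (.mul (.mul (.mul (.mul (.mul (.mul (.mul (.mul (.mul (.l 23) (.l 22)) (.l 23)) (.l 22))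 (.l 1)) (.l 23)) (.l 22)) (.l 1)) (.l 23)) (.l 22)) (.l 1)) (.l 2), .mul (.mul (.mul (.mul (.mul (.mul (.mul (.mul (.mul (.mul (.mul (.l 23) (.l 22)) (.l 23)) (.l 22)) (.l 1)) (.l 23)) (.l 22)) (.l 1)) (.l 2)) (.l 23)) (.l 22)) (.l 2), .mul (.mul (.mul (.mul (.mul (.mul (.mul (.mul (.mul (.mul (.mul (.l 23) (.l 22)) (.l 23)) (.l 22)) (.l 1)) (.l 2)) (.l 23)) (.l 22)) (.l 2)) (.l 23)) (.l 22)) (.l 2), .mul (.mul (.mul (.mul (.mul (.mul (.mul (.mul (.mul (.mul (.mul (.l 23) (.l 22)) (.l 2)) (.l 1)) (.l 2)) (.l 22)) (.l 2)) (.l 1)) (.l 23)) (.l 22)) (.l 1)) (.l 22), .mul (.mul (.mul (.mul (.mul (.mul (.mul (.mul (.mul (.mul (.mul (.l 23) (.l 22)) (.l 2)) (.l 1)) (.l 2)) (.l 22)) (.l 1)) (.l 2)) (.l 23)) (.l 1)) (.l 2)) (.l 1), .mul (.mul (.mul (.mul (.mul (.mul (.mul (.mul (.mul (.mul (.mul (.l 23) (.l 2)) (.l 22)) (.l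 2)) (.l 1)) (.l 2)) (.l 22)) (.l 1)) (.l 23)) (.l 1)) (.l 2)) (.l 1), .mul (.mul (.mul (.mul (.mul (.mul (.mul (.mul (.mul (.mul (.mul (.mul (.l 23) (.l 22)) (.l 23)) (.l 22)) (.l 2)) (.l 22)) (.l 23)) (.l 1)) (.l 2)) (.l 22)) (.l 23)) (.l 1)) (.l 22), .mul (.mul (.mul (.mul (.mul (.mul (.mul (.mul (.mul (.mul (.mul (.mul (.l 23) (.l 22)) (.l 23)) (.l 22)) (.l 2)) (.l 1)) (.l 23)) (.l 22)) (.l 2)) (.l 22)) (.l 23)) (.l 22)) (.l 2), .mul (.mul (.mul (.mul (.mul (.mul (.mul (.mul (.mul (.mul (.mul (.mul (.l 23) (.l 22)) (.l 23)) (.l 22)) (.l 2)) (.l 1)) (.l 23)) (.l 2)) (.l 22)) (.l 23)) (.l 22)) (.l 1)) (.l 2), .mul (.mul (.mul (.mul (.mul (.mul (.mul (.mul (.mul (.mul (.mul (.mul (.l 23) (.l 22)) (.l 23)) (.l 22)) (.l 2)) (.l 1)) (.l 23)) (.l 2)) (.l 22)) (.l 2)) (.l 23)) (.l 22)) (.l 2), .mul (.mul (.mul (.mul (.mul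 (.mul (.mul (.mul (.mul (.mul (.mul (.mul (.l 23) (.l 22)) (.l 23)) (.l 22)) (.l 1)) (.l 23)) (.l 22)) (.l 23)) (.l 1)) (.l 23)) (.l 22)) (.l 2)) (.l 1), .mul (.mul (.mul (.mul (.mul (.mul (.mul (.mul (.mul (.mul (.mul (.mul (.l 23) (.l 22)) (.l 23)) (.l 22)) (.l 1)) (.l 23)) (.l 22)) (.l 2)) (.l 1)) (.l 23)) (.l 2)) (.l 22)) (.l 2), .mul (.mul (.mul (.mul (.mul (.mul (.mul (.mul (.mul (.mul (.mul (.mul (.l 23) (.l 22)) (.l 23)) (.l 22)) (.l 1)) (.l 23)) (.l 22)) (.l 1)) (.l 23)) (.l 1)) (.l 22)) (.l 2)) (.l 1), .mul (.mul (.mul (.mul (.mul (.mul (.mul (.mul (.mul (.mul (.mul (.mul (.l 23) (.l 22)) (.l 23)) (.l 22)) (.l 1)) (.l 23)) (.l 1)) (.l 22)) (.l 2)) (.l 1)) (.l 23)) (.l 22)) (.l 2), .mul (.mul (.mul (.mul (.mul (.mul (.mul (.mul (.mul (.mul (.mul (.mul (.l 23) (.l 22)) (.l 23)) (.l 22)) (.l 1)) (.l 2)) (.l 23))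 (.l 22)) (.l 23)) (.l 1)) (.l 22)) (.l 2)) (.l 1), .mul (.mul (.mul (.mul (.mul (.mul (.mul (.mul (.mul (.mul (.mul (.mul (.l 23) (.l 22)) (.l 23)) (.l 2)) (.l 22)) (.l 23)) (.l 2)) (.l 22)) (.l 23)) (.l 1)) (.l 2)) (.l 22)) (.l 1), .mul (.mul (.mul (.mul (.mul (.mul (.mul (.mul (.mul (.mul (.mul (.mul (.l 23) (.l 22)) (.l 2)) (.l 23)) (.l 1)) (.l 2)) (.l 22)) (.l 23)) (.l 1)) (.l 22)) (.l 23)) (.l 1)) (.l 22), .mul (.mul (.mul (.mul (.mul (.mul (.mul (.mul (.mul (.mul (.mul (.mul (.mul (.l 23) (.l 22)) (.l 23)) (.l 22)) (.l 23)) (.l 22)) (.l 23)) (.l 1)) (.l 22)) (.l 2)) (.l 23)) (.l 2)) (.l 22)) (.l 1), .mul (.mul (.mul (.mul (.mul (.mul (.mul (.mul (.mul (.mul (.mul (.mul (.mul (.l 23) (.l 22)) (.l 23)) (.l 22)) (.l 2)) (.l 23)) (.l 22)) (.l 1)) (.l 23)) (.l 22)) (.l 2)) (.l 23)) (.l 22)) (.l 1), .mul (.mul (.mul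 (.mul (.mul (.mul (.mul (.mul (.mul (.mul (.mul (.mul (.mul (.l 23) (.l 22)) (.l 23)) (.l 22)) (.l 2)) (.l 22)) (.l 23)) (.l 2)) (.l 22)) (.l 1)) (.l 23)) (.l 2)) (.l 1)) (.l 22), .mul (.mul (.mul (.mul (.mul (.mul (.mul (.mul (.mul (.mul (.mul (.mul (.mul (.l 23) (.l 22)) (.l 23)) (.l 22)) (.l 2)) (.l 1)) (.l 23)) (.l 2)) (.l 22)) (.l 23)) (.l 1)) (.l 22)) (.l 2)) (.l 1), .mul (.mul (.mul (.mul (.mul (.mul (.mul (.mul (.mul (.mul (.mul (.mul (.mul (.l 23) (.l 22)) (.l 23)) (.l 22)) (.l 2)) (.l 1)) (.l 22)) (.l 23)) (.l 22)) (.l 1)) (.l 23)) (.l 2)) (.l 1)) (.l 22), .mul (.mul (.mul (.mul (.mul (.mul (.mul (.mul (.mul (.mul (.mul (.mul (.mul (.l 23) (.l 22)) (.l 23)) (.l 22)) (.l 2)) (.l 1)) (.l 22)) (.l 2)) (.l 23)) (.l 1)) (.l 22)) (.l 23)) (.l 1)) (.l 22), .mul (.mul (.mul (.mul (.mul (.mul (.mul (.mul (.mul (.mul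 (.mul (.mul (.mul (.l 23) (.l 22)) (.l 23)) (.l 22)) (.l 1)) (.l 23)) (.l 22)) (.l 23)) (.l 1)) (.l 2)) (.l 23)) (.l 1)) (.l 22)) (.l 2), .pow (.mul (.mul (.l 22) (.l 2)) (.l 19)) 5, .pow (.mul (.mul (.l 23) (.l 1)) (.l 18)) 5]

/-- commutators with `tor` -/
def lp4 : List W := cms tor [.l 1, .l 2, .l 3, .l 18, .l 19, .l 16, w3, wz]

/-- the generators of the Suzuki group -/
def sz : List W := [.l 0, .pow (.mul (.l 1) (.l 2)) 2, .mul (.mul (.mul (.mul (.l 22) (.l 23)) (.l 22)) (.l 23)) (.l 22), .l 3, .l 15, .l 16, .l 1, .l 2]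

/-- the letters in terms of the generators -/
def gen1 : List W := [.mul (.l 22) (.inv (.mul (.mul (.mul (.mul (.mul (.mul (.mul (.mul (.mul (.mul (.mul (.l 1) (.mul (.mul (.mul (.mul (.l 22) (.l 23)) (.l 22)) (.l 23)) (.l 22))) (.l 2)) (.l 1)) (.l 2)) (.mul (.mul (.mul (.mul (.l 22) (.l 23)) (.l 22)) (.l 23)) (.l 22))) (.l 1)) (.l 2)) (.l 1)) (.mul (.mul (.mul (.mul (.l 22) (.l 23)) (.l 22)) (.l 23)) (.l 22))) (.l 2)) (.mul (.mul (.mul (.mul (.l 22) (.l 23)) (.l 22)) (.l 23)) (.l 22)))), .mul (.l 23) (.inv (.mul (.mul (.mul (.mul (.mul (.mul (.mul (.mul (.mul (.mul (.mul (.l 2) (.mul (.mul (.mul (.mul (.l 22) (.l 23)) (.l 22)) (.l 23)) (.l 22))) (.l 1)) (.l 2)) (.l 1)) (.mul (.mul (.mul (.mul (.l 22) (.l 23)) (.l 22)) (.l 23)) (.l 22))) (.l 2)) (.l 1)) (.l 2)) (.mul (.mul (.mul (.mul (.l 22) (.l 23)) (.l 22)) (.l 23))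 (.l 22))) (.l 1)) (.mul (.mul (.mul (.mul (.l 22) (.l 23)) (.l 22)) (.l 23)) (.l 22)))), .mul (.l 18) (.inv (.mul (.mul (.l 22) (.l 3)) (.l 22))), .mul (.l 19) (.inv (.mul (.mul (.mul (.l 2) (.l 23)) (.l 3)) (.l 23))), .mul (.mul (.mul (.mul (.mul (.mul (.mul (.mul (.mul (.mul (.mul (.l 17) (.l 15)) (.l 17)) (.l 16)) (.l 15)) (.l 2)) (.l 18)) (.l 17)) (.l 15)) (.l 19)) (.l 3)) (.inv (.mul (.mul (.mul (.mul (.mul (.mul (.mul (.mul (.mul (.mul (.l 22) (.l 19)) (.l 22)) (.l 19)) (.l 15)) (.l 18)) (.l 15)) (.l 2)) (.l 22)) (.l 19)) (.l 22)))]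

/-- the relators of the Suzuki group -/
def lp5 : List W := (labRels sz Suz.iv).drop 2 ++ Suz.rels.map (W.subst sz) ++ gen1

/-- the generators of `H` as words -/
def gen2 : List W := [.l 1, .l 2, .l 3, .mul (.mul (.l 15) (.l 3)) (.l 15), .mul (.mul (.mul (.mul (.l 16) (.l 15)) (.l 3)) (.l 15)) (.l 16), .mul (.mul (.mul (.mul (.mul (.mul (.mul (.mul (.inv (.mul (.mul (.mul (.mul (.mul (.mul (.mul (.mul (.mul (.mul (.l 17) (.l 15)) (.l 17)) (.l 16)) (.l 15)) (.l 2)) (.l 18)) (.l 17)) (.l 15)) (.l 19)) (.l 3))) (.l 16)) (.l 15)) (.l 3)) (.l 15)) (.l 16)) (.l 1)) (.mul (.mul (.mul (.mul (.mul (.mul (.mul (.mul (.mul (.mul (.l 17) (.l 15)) (.l 17)) (.l 16)) (.l 15)) (.l 2)) (.l 18)) (.l 17)) (.l 15)) (.l 19)) (.l 3))) (.l 2), .mul (.mul (.mul (.mul (.mul (.mul (.mul (.mul (.mul (.mul (.mul (.mul (.mul (.mul (.mul (.mul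 (.mul (.l 17) (.l 15)) (.l 17)) (.l 16)) (.l 15)) (.l 2)) (.l 18)) (.l 17)) (.l 15)) (.l 19)) (.l 3)) (.l 16)) (.l 2)) (.l 1)) (.mul (.mul (.mul (.mul (.mul (.mul (.mul (.mul (.mul (.mul (.l 17) (.l 15)) (.l 17)) (.l 16)) (.l 15)) (.l 2)) (.l 18)) (.l 17)) (.l 15)) (.l 19)) (.l 3))) (.l 16)) (.l 2)) (.inv (.mul (.mul (.mul (.mul (.mul (.mul (.mul (.mul (.mul (.mul (.l 17) (.l 15)) (.l 17)) (.l 16)) (.l 15)) (.l 2)) (.l 18)) (.l 17)) (.l 15)) (.l 19)) (.l 3))), .mul (.mul (.mul (.mul (.mul (.mul (.mul (.mul (.mul (.mul (.mul (.l 15) (.mul (.mul (.mul (.mul (.mul (.mul (.mul (.mul (.mul (.mul (.l 17) (.l 15)) (.l 17)) (.l 16)) (.l 15)) (.l 2)) (.l 18)) (.l 17)) (.l 15)) (.l 19)) (.l 3))) (.l 16)) (.inv (.mul (.mul (.mul (.mul (.mul (.mul (.mul (.mul (.mul (.mul (.l 17) (.l 15)) (.l 17)) (.l 16)) (.l 15)) (.l 2)) (.l 18))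 (.l 17)) (.l 15)) (.l 19)) (.l 3)))) (.l 15)) (.mul (.mul (.mul (.mul (.mul (.mul (.mul (.mul (.mul (.mul (.l 17) (.l 15)) (.l 17)) (.l 16)) (.l 15)) (.l 2)) (.l 18)) (.l 17)) (.l 15)) (.l 19)) (.l 3))) (.l 16)) (.l 15)) (.l 19)) (.l 16)) (.inv (.mul (.mul (.mul (.mul (.mul (.mul (.mul (.mul (.mul (.mul (.l 17) (.l 15)) (.l 17)) (.l 16)) (.l 15)) (.l 2)) (.l 18)) (.l 17)) (.l 15)) (.l 19)) (.l 3)))) (.l 16), .mul (.mul (.mul (.mul (.mul (.mul (.mul (.mul (.mul (.l 2) (.l 18)) (.l 15)) (.l 16)) (.l 15)) (.mul (.mul (.mul (.mul (.mul (.mul (.mul (.mul (.mul (.mul (.l 17) (.l 15)) (.l 17)) (.l 16)) (.l 15)) (.l 2)) (.l 18)) (.l 17)) (.l 15)) (.l 19)) (.l 3))) (.l 16)) (.l 15)) (.l 18)) (.l 16), .mul (.mul (.mul (.mul (.mul (.mul (.mul (.mul (.mul (.mul (.mul (.l 19) (.mul (.mul (.mul (.mul (.mul (.mul (.mul (.mul (.mul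 (.mul (.l 17) (.l 15)) (.l 17)) (.l 16)) (.l 15)) (.l 2)) (.l 18)) (.l 17)) (.l 15)) (.l 19)) (.l 3))) (.l 15)) (.l 16)) (.l 2)) (.inv (.mul (.mul (.mul (.mul (.mul (.mul (.mul (.mul (.mul (.mul (.l 17) (.l 15)) (.l 17)) (.l 16)) (.l 15)) (.l 2)) (.l 18)) (.l 17)) (.l 15)) (.l 19)) (.l 3)))) (.l 16)) (.inv (.mul (.mul (.mul (.mul (.mul (.mul (.mul (.mul (.mul (.mul (.l 17) (.l 15)) (.l 17)) (.l 16)) (.l 15)) (.l 2)) (.l 18)) (.l 17)) (.l 15)) (.l 19)) (.l 3)))) (.l 15)) (.l 2)) (.inv (.mul (.mul (.mul (.mul (.mul (.mul (.mul (.mul (.mul (.mul (.l 17) (.l 15)) (.l 17)) (.l 16)) (.l 15)) (.l 2)) (.l 18)) (.l 17)) (.l 15)) (.l 19)) (.l 3)))) (.l 1)]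

/-- the same as relators -/
def relG : List W := ((au.ws 0).zip gen2).map fun p => .mul p.1 (.inv p.2)

/-- first stage -/
def R0 : List W := relH ++ relS
/-- second stage -/
def R1 : List W := R0 ++ lp0
/-- third stage -/
def R2 : List W := R1 ++ relE
/-- fourth stage -/
def R3 : List W := R2 ++ [w5]
/-- fifth stage -/
def R4 : List W := R3 ++ lp3
/-- sixth stage -/
def R5 : List W := R4 ++ [tor]

/-- all relators -/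
def rels : List W := rel1 ++ relD ++ R5 ++ lp2 ++ lp4 ++ lp5 ++ relG

end Cfsg.Lib.T2.Z
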